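import Mathlib
import Cfsg.Agent.Cl.GFSmall
import Cfsg.Agent.Loc.MssSyl
import Cfsg.Agent.Spor.ESSym

/-!
# Standard subgroups of type `L₃(4)` (`m = false`) and `G₂(4)` (`m = true`): definitions

The plan of the proof is in `stubs/Cfsg/Agent/STA/PLAN.md`.
-/

set_option autoImplicit false

namespace Cfsg.Agent.STA

open Cfsg Cfsg.Agent.Loc.Mss Subgroup Equiv
open Cfsg.Agent.Spor (ES2 Eqv)

/-! ### The permutation model -/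

abbrev F : Type := Cl.GF4

def ω : F := Cl.TF.prim Cl.gf4

def em (m : Bool) : F := if m then 1 else 0

abbrev Vec : Type := Fin 8 → F

/-- The second elementary symmetric function. -/
def qf (u : Vec) : F :=
  u 0 * (u 1 + u 2 + u 3 + u 4 + u 5 + u 6 + u 7) + u 1 * (u 2 + u 3 + u 4 + u 5 + u 6 + u 7) +
    u 2 * (u 3 + u 4 + u 5 + u 6 + u 7) + u 3 * (u 4 + u 5 + u 6 + u 7) + u 4 * (u 5 + u 6 + u 7) +
    u 5 * (u 6 + u 7) + u 6 * u 7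

def bf (u u' : Vec) : F :=
  u 0 * u' 0 + u 1 * u' 1 + u 2 * u' 2 + u 3 * u' 3 + u 4 * u' 4 + u 5 * u' 5 + u 6 * u' 6 + u 7 * u' 7

/-- The module: vectors of sum zero, normalised modulo constants by `u 7 = 0`. -/
def VV (m : Bool) : Submodule F Vec where
  carrier := {u | u 7 = 0 ∧ u 0 + u 1 + u 2 + u 3 + u 4 + u 5 + u 6 = 0 ∧ (m = false → u 5 = 0 ∧ u 6 = 0)}
  zero_mem' := by simp
  add_mem' := by
    rintro u v ⟨h1, h2, h3⟩ ⟨k1, k2, k3⟩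
    refine ⟨by simp [h1, k1], ?_, fun h => by simp [h3 h, k3 h]⟩
    simp only [Pi.add_apply]
    linear_combination h2 + k2
  smul_mem' := by
    rintro k u ⟨h1, h2, h3⟩
    refine ⟨by simp [h1], ?_, fun h => by simp [h3 h]⟩
    simp only [Pi.smul_apply, smul_eq_mul]
    linear_combination k * h2

theorem mem_VV {m : Bool} {u : Vec} : u ∈ VV m ↔
    u 7 = 0 ∧ u 0 + u 1 + u 2 + u 3 + u 4 + u 5 + u 6 = 0 ∧ (m = false → u 5 = 0 ∧ u 6 = 0) := Iff.rfl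

instance (m : Bool) (u : Vec) : Decidable (u ∈ VV m) := decidable_of_iff _ mem_VV.symm

def act (σ : Perm (Fin 8)) (u : Vec) : Vec := fun i => u (σ⁻¹ i) + u (σ⁻¹ 7)

/-- `S₅` on the first five points, resp. `A₈`. -/
def Sg (m : Bool) : Subgroup (Perm (Fin 8)) where
  carrier := {σ | (m = true → Perm.sign σ = 1) ∧ (m = false → σ 5 = 5 ∧ σ 6 = 6 ∧ σ 7 = 7)}
  one_mem' := by simp
  mul_mem' := by
    rintro σ τ ⟨h1, h2⟩ ⟨k1, k2⟩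
    exact ⟨fun h => by simp [h1 h, k1 h], fun h => by simp [h2 h, k2 h]⟩
  inv_mem' := by
    rintro σ ⟨h1, h2⟩
    exact ⟨fun h => by simp [h1 h], fun h => by simp [Equiv.symm_apply_eq, h2 h]⟩

theorem mem_Sg {m : Bool} {σ : Perm (Fin 8)} : σ ∈ Sg m ↔
    (m = true → Perm.sign σ = 1) ∧ (m = false → σ 5 = 5 ∧ σ 6 = 6 ∧ σ 7 = 7) := Iff.rfl

instance (m : Bool) (σ : Perm (Fin 8)) : Decidable (σ ∈ Sg m) := decidable_of_iff _ mem_Sg.symm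

/-- Rational vectors. -/
def Rt (u : Vec) : Prop := ∀ i, u i = 0 ∨ u i = 1

instance (u : Vec) : Decidable (Rt u) := inferInstanceAs (Decidable (∀ i, u i = 0 ∨ u i = 1))

def frob (u : Vec) : Vec := fun i => u i ^ 2

def vD : Vec := ![1, ω, ω ^ 2, 0, 0, 0, 0, 0]
def vE : Vec := ![1, ω ^ 2, ω, 0, 0, 0, 0, 0]
def e1 : Vec := ![1, 1, 1, 1, 0, 0, 0, 0]
def e2 : Vec := ![1, 1, 1, 0, 1, 0, 0, 0]
def u1 : Vec := ![ω ^ 2, ω ^ 2, ω ^ 2, ω ^ 2, ω ^ 2, ω, 1, 0]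
def u2 : Vec := ![ω, ω, ω, ω, ω, ω ^ 2, 1, 0]

/-- The coordinates of `y μ * r s * a α * b β' * s1 t * s2 u`. -/
def co (m : Bool) (β μ s α β' t u : F) : Vec :=
  μ • vE + s • vD + (α * β) • e1 + (β' * β ^ 2) • e2 + (em m * t) • u1 + (em m * u) • u2

/-- The image of an additive map as a subgroup. -/
def rg {G : Type*} [Group G] (f : F → G) (h : ∀ s t, f (s + t) = f s * f t) : Subgroup G where
  carrier := {g | ∃ t, g = f t}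
  one_mem' := ⟨0, mul_left_cancel (a := f 0) (by rw [← h, add_zero, mul_one])⟩
  mul_mem' := by
    rintro _ _ ⟨s, rfl⟩ ⟨t, rfl⟩
    exact ⟨s + t, (h s t).symm⟩
  inv_mem' := by
    rintro _ ⟨s, rfl⟩
    refine ⟨s, inv_eq_of_mul_eq_one_right ?_⟩
    rw [← h, CharTwo.add_self_eq_zero]
    exact mul_left_cancel (a := f 0) (by rw [← h, add_zero, mul_one])

theorem mem_rg {G : Type*} [Group G] {f : F → G} {h : ∀ s t, f (s + t) = f s * f t} {g : G} :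
    g ∈ rg f h ↔ ∃ t, g = f t := Iff.rfl

/-! ### Letters in the standard subgroup -/

/-- Letters: `a = x₁₂, b = x₂₃, c = x₁₃` in the long root `SL₃(4)`; for `G₂(4)` these are the roots
`3a+b, b, 3a+2b`, and `s1, s2, x` belong to `a+b, 2a+b, a`. -/
structure Lt (m : Bool) (G : Type*) [Group G] where
  A : Subgroup G
  a : F → G
  b : F → G
  c : F → G
  s1 : F → G
  s2 : F → G
  x : F → G
  n1 : G
  n2 : G
  w : G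
  h : G
  ξ : G
  mem : ∀ t, a t ∈ A ∧ b t ∈ A ∧ c t ∈ A ∧ s1 t ∈ A ∧ s2 t ∈ A ∧ x t ∈ A
  mem' : n1 ∈ A ∧ n2 ∈ A ∧ w ∈ A ∧ h ∈ A ∧ ξ ∈ A
  a_add : ∀ s t, a (s + t) = a s * a t
  b_add : ∀ s t, b (s + t) = b s * b t
  c_add : ∀ s t, c (s + t) = c s * c t
  s1_add : ∀ s t, s1 (s + t) = s1 s * s1 t
  s2_add : ∀ s t, s2 (s + t) = s2 s * s2 t
  x_add : ∀ s t, x (s + t) = x s * x t
  c_inj : ∀ t, c t = 1 → t = 0
  ab : ∀ s t, a s * b t = b t * a s * c (s * t)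
  ss : ∀ s t, s1 s * s2 t = s2 t * s1 s * c (em m * (s * t))
  com : ∀ s t, Commute (a s) (s1 t) ∧ Commute (a s) (s2 t) ∧ Commute (b s) (s1 t) ∧
    Commute (b s) (s2 t) ∧ Commute (a s) (x t)
  cc : ∀ s t, Commute (c s) (a t) ∧ Commute (c s) (b t) ∧ Commute (c s) (s1 t) ∧
    Commute (c s) (s2 t) ∧ Commute (c s) (x t) ∧ Commute (c s) w
  triv : m = false → w = 1 ∧ ∀ t, s1 t = 1 ∧ s2 t = 1 ∧ x t = 1
  h3 : h ^ 3 = 1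
  hact : ∀ t, h * a t * h⁻¹ = a (ω * t) ∧ h * b t * h⁻¹ = b (ω * t) ∧ h * c t * h⁻¹ = c (ω ^ 2 * t) ∧
    h * s1 t * h⁻¹ = s1 (ω * t) ∧ h * s2 t * h⁻¹ = s2 (ω * t)
  ξ3 : ξ ^ 3 = 1
  ξcom : Commute ξ n1 ∧ Commute ξ n2 ∧ Commute ξ h ∧
    ∀ t, Commute ξ (a t) ∧ Commute ξ (b t) ∧ Commute ξ (c t)
  ξact : ∀ t, ξ * s1 t * ξ⁻¹ = s1 (ω * t) ∧ ξ * s2 t * ξ⁻¹ = s2 (ω ^ 2 * t) ∧ ξ * x t * ξ⁻¹ = x (ω * t)
  nn : n1 * n1 = 1 ∧ n2 * n2 = 1 ∧ w * w = 1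
  nact : ∀ t, n1 * a t * n1 = c t ∧ n2 * b t * n2 = c t
  nh : (∃ j : ℕ, n1 * h * n1 = h⁻¹ * ξ ^ j) ∧ ∃ j : ℕ, n2 * h * n2 = h⁻¹ * ξ ^ j
  xact : m = true → ∀ t u, x t * b u * (x t)⁻¹ = a (t ^ 3 * u) * b u * s1 (t * u) * s2 (t ^ 2 * u) ∧
    x t * s1 u * (x t)⁻¹ = a (t ^ 2 * u) * s1 u * c (t * u ^ 2) ∧ x t * s2 u * (x t)⁻¹ = a (t * u) * s2 u
  wact : m = true → w * n1 * w = n2 ∧ (w * x 1) ^ 3 = 1 ∧
    ∀ t, w * a t * w = b t ∧ w * s1 t * w = s2 t ∧ n1 * x t * n1 = s1 t ∧ n1 * s2 t * n1 = s2 t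

namespace Lt

variable {m : Bool} {G : Type*} [Group G] (l : Lt m G)

abbrev K : Subgroup G := 𝐂[l.A]

abbrev N : Subgroup G := 𝐍[l.A]

/-- The long root subgroup. -/
def X : Subgroup G := rg l.c l.c_add

def QA : Subgroup G :=
  closure {g | ∃ t, g = l.a t ∨ g = l.b t ∨ g = l.s1 t ∨ g = l.s2 t ∨ g = l.c t}

/-- For `m = true` this is `C_A(X)`; for `m = false` it is `QA`. -/
def D : Subgroup G := l.QA ⊔ closure {g | g = l.w ∨ ∃ t, g = l.x t}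

/-- The facts on `Aut(A)`. -/
structure KF : Prop where
  k2 : ∀ n ∈ l.N, n ∈ 𝐍[l.X] → n ∈ 𝐍[l.QA]
  k5 : m = true → ∀ n ∈ l.N, n ∈ 𝐂[l.X] → ∃ d ∈ l.D, d⁻¹ * n ∈ l.K
  k6 : ∀ n ∈ l.N, n ∈ 𝐂[l.X] → (∀ u ∈ l.QA, n * u * n⁻¹ * u⁻¹ ∈ l.X) → ∃ u ∈ l.QA, u⁻¹ * n ∈ l.K
  k7 : m = true → ∀ P : Subgroup G, P ≤ l.N → P ≤ 𝐂[l.X] → IsPGroup 2 P → l.D ≤ 𝐍[P] →
    ∀ p ∈ P, ∃ u ∈ l.QA, u⁻¹ * p ∈ l.K

/-- Conjugate into `K`. -/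
def InT (u : G) : Prop := ∃ g : G, g * u * g⁻¹ ∈ l.K

/-- The two symmetric choices of the letters `a, b, n`. -/
def Sl (a b : F → G) (n : G) : Prop :=
  (a = l.a ∧ b = l.b ∧ n = l.n1) ∨ (a = l.b ∧ b = l.a ∧ n = l.n2)

end Lt

/-- The configuration given by the analysis of a pair of conjugates of `K`. -/
structure Cfg (m : Bool) (G : Type*) [Group G] extends Lt m G where
  kf : toLt.KF
  r : F → G
  g : G
  r_add : ∀ s t, r (s + t) = r s * r t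
  r_inj : ∀ s, r s = 1 → s = 0
  syl : Syl 2 (rg r r_add) toLt.K
  ti : ∀ k ∈ toLt.K, k * k = 1 → k ≠ 1 → ∀ n : G, n * k * n⁻¹ ∈ toLt.K → n ∈ toLt.N
  long : ∀ t, t ≠ 0 → ¬ toLt.InT (c t)
  g_X : g ∈ 𝐍[toLt.X]
  g_r : ∀ s, ∃ s', g * r s * g⁻¹ = r s' * c s'

def Cfg.R {m : Bool} {G : Type*} [Group G] (f : Cfg m G) : Subgroup G := rg f.r f.r_add

/-- The translations of `V = R X`. -/
structure Tr (m : Bool) (G : Type*) [Group G] extends Cfg m G where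
  y : F → G
  O : Subgroup G
  mem_O : ∀ k, k ∈ O ↔ k ∈ toLt.K ∧ k ∈ 𝐂[toCfg.R] ∧ Odd (orderOf k)
  y_zero : y 0 = 1
  y_h : ∀ μ, h * y μ * h⁻¹ = y (ω ^ 2 * μ)
  y_r : ∀ μ s, y μ * r s * (y μ)⁻¹ = r s * c (μ * s)
  y_D : ∀ μ, y μ ∈ 𝐂[toLt.D]
  y_ξ : ∀ μ, Commute (y μ) ξ
  y_O : ∀ μ, y μ ∈ 𝐂[O]
  y_comm : ∀ μ ν, Commute (y μ) (y ν)
  y_mul : ∀ μ ν, ∃ t, y μ * y ν = y (μ + ν) * c t
  y_K : ∀ μ k, (∀ ν, (y ν)⁻¹ * k * y ν ∈ toLt.K) → Commute (y μ) k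
  can : ∀ u ∈ 𝐂[toLt.QA], u ∈ 𝐂[O] → (∃ j : ℕ, u ^ 2 ^ j = 1) →
    (∀ s, ∃ t, u * r s * u⁻¹ = r s * c t) → ∃ μ s t, u = y μ * r s * c t
  y_mem : ∀ μ, y μ ∈ normalClosure (A : Set G)

namespace Tr

variable {m : Bool} {G : Type*} [Group G] (t : Tr m G)

/-- The action of `n y n`. -/
structure Del (a b : F → G) (n : G) (β : F) : Prop where
  nb : ∀ l ν, ∃ δ, n * t.y ν * n * b l * (n * t.y ν * n) =
    t.y (l * ν) * t.r (β * l * ν ^ 2) * a (β * l * ν ^ 3) * b l * t.c δ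
  ny : ∀ μ ν, n * t.y ν * n * t.y μ * (n * t.y ν * n) = t.y μ * a (β * μ * ν ^ 2) * t.c (β * μ ^ 2 * ν)
  zero : β = 0 → ∃ δ, ∀ l ν, n * t.y ν * n * b l * (n * t.y ν * n) = t.y (l * ν) * b l * t.c (δ * l * ν)

def W : Subgroup G := t.QA ⊔ closure {g | ∃ s, g = t.y s ∨ g = t.r s}

end Tr

/-- All local data. -/
structure Fu (m : Bool) (G : Type*) [Group G] extends Tr m G where
  β : F
  y_add : ∀ μ ν, y (μ + ν) = y μ * y ν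
  β_ne : β ≠ 0
  β_one : m = true → β = 1
  del1 : toTr.Del a b n1 β
  del2 : toTr.Del b a n2 (β ^ 2)
  cenR : ∀ n ∈ 𝐂[toLt.X], Commute n (r 1) → n ∈ 𝐂[toCfg.R]
  normW : ∀ n ∈ 𝐍[toLt.X], (∀ s, ∃ s' t, n * r s * n⁻¹ = r s' * c t) → n ∈ 𝐍[toTr.W]
  r_mem : ∀ s, r s ∈ normalClosure (A : Set G)

namespace Fu

variable {m : Bool} {G : Type*} [Group G] (f : Fu m G)

def el (μ s α β' t u γ : F) : G := f.y μ * f.r s * f.a α * f.b β' * f.s1 t * f.s2 u * f.c γ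

open Classical in
/-- The coordinates on `W / X`. -/
noncomputable def v (g : G) : Vec :=
  if h : ∃ u, ∃ μ s α β' t t' γ, g = f.el μ s α β' t t' γ ∧ u = co m f.β μ s α β' t t' then h.choose
  else 0

end Fu

/-! ### The group `4^(1+4)`, resp. `4^(1+6)` -/

/-- `g` acts on `W` modulo the centre as the permutation `σ`. -/
def Acts {G : Type*} [Group G] (W : Subgroup G) (v : G → Vec) (g : G) (σ : Perm (Fin 8)) : Prop :=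
  ∀ w ∈ W, v (g * w * g⁻¹) = act σ (v w)

structure Heis (m : Bool) (G : Type*) [Group G] where
  W : Subgroup G
  O : Subgroup G
  c : F → G
  r : F → G
  v : G → Vec
  n1 : G
  n2 : G
  h : G
  c_add : ∀ s t, c (s + t) = c s * c t
  c_inj : ∀ t, c t = 1 → t = 0
  c_mem : ∀ t, c t ∈ W
  c_cen : ∀ t, ∀ w ∈ W, Commute (c t) w
  v_mul : ∀ w ∈ W, ∀ w' ∈ W, v (w * w') = v w + v w'
  v_mem : ∀ w ∈ W, v w ∈ VV m
  v_surj : ∀ u ∈ VV m, ∃ w ∈ W, v w = u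
  v_ker : ∀ w ∈ W, v w = 0 ↔ ∃ t, w = c t
  sq : ∀ w ∈ W, w * w = c (qf (v w))
  ex_act : ∀ g ∈ 𝐍[W], (∀ t, Commute g (c t)) → ∃ σ ∈ Sg m, Acts W v g σ
  real : ∀ σ ∈ Sg m, Perm.sign σ = 1 →
    ∃ g ∈ 𝐍[W], (∀ t, Commute g (c t)) ∧ g ∈ 𝐂[O] ∧ Acts W v g σ
  ker : ∀ g ∈ 𝐍[W], (∀ t, Commute g (c t)) → Acts W v g 1 → ∃ w ∈ W, ∃ o ∈ O, g = w * o
  odd : Odd (Nat.card O)
  O_cen : O ≤ 𝐂[W]
  h_norm : h ∈ 𝐍[W]
  h_v : ∀ w ∈ W, v (h * w * h⁻¹) = ω • v w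
  h_c : ∀ t, h * c t * h⁻¹ = c (ω ^ 2 * t)
  r_mem : ∀ s, r s ∈ W ∧ v (r s) = s • vD
  n1_sq : n1 * n1 = 1
  n1_c : ∀ s, n1 * c s * n1 ∈ W ∧ v (n1 * c s * n1) = s • e1 ∧ Commute n1 (r s)
  n2_sq : n2 * n2 = 1
  n2_c : ∀ s, n2 * c s * n2 ∈ W ∧ v (n2 * c s * n2) = s • e2 ∧ Commute n2 (r s)
  d1 : ∀ g, (∀ t, Commute g (c t)) → (∃ t, g * r 1 * g⁻¹ = r 1 * c t) → g ∈ 𝐍[W]

namespace Heis

variable {m : Bool} {G : Type*} [Group G] (H : Heis m G)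

def X : Subgroup G := rg H.c H.c_add

theorem v_one : H.v 1 = 0 := by
  have := H.v_mul 1 H.W.one_mem 1 H.W.one_mem
  rwa [mul_one, left_eq_add] at this

theorem v_inv {w : G} (hw : w ∈ H.W) : H.v w⁻¹ = H.v w := by
  have := H.v_mul _ (H.W.inv_mem hw) w hw
  rw [inv_mul_cancel, H.v_one, eq_comm, add_eq_zero_iff_eq_neg] at this
  rw [this]
  funext i
  exact CharTwo.neg_eq _

/-- The preimage of an additive subgroup of the module. -/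
def pre (S : AddSubgroup Vec) : Subgroup G where
  carrier := {w | w ∈ H.W ∧ H.v w ∈ S}
  one_mem' := ⟨H.W.one_mem, H.v_one ▸ S.zero_mem⟩
  mul_mem' := fun h k => ⟨H.W.mul_mem h.1 k.1, H.v_mul _ h.1 _ k.1 ▸ S.add_mem h.2 k.2⟩
  inv_mem' := fun h => ⟨H.W.inv_mem h.1, H.v_inv h.1 ▸ h.2⟩

/-- The elementary abelian group of order 16 over the line spanned by `e1`. -/
def E : Subgroup G := H.pre (Submodule.span F {e1}).toAddSubgroup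

def RtS : AddSubgroup Vec where
  carrier := {u | Rt u}
  zero_mem' := fun _ => .inl rfl
  add_mem' := fun {u u'} h k i => by
    rcases h i with h | h <;> rcases k i with k | k <;> simp [h, k, CharTwo.add_self_eq_zero]
  neg_mem' := fun {u} h i => by
    rw [Pi.neg_apply, CharTwo.neg_eq]
    exact h i

/-- The preimage of the rational vectors. -/
def Q0 : Subgroup G := H.pre RtS

/-- The data lie in `L`. -/
structure In (L : Subgroup G) : Prop where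
  W : H.W ≤ L
  n : H.n1 ∈ L ∧ H.n2 ∈ L ∧ H.h ∈ L
  real : ∀ σ ∈ Sg m, Perm.sign σ = 1 →
    ∃ g ∈ 𝐍[H.W], g ∈ L ∧ (∀ t, Commute g (H.c t)) ∧ g ∈ 𝐂[H.O] ∧ Acts H.W H.v g σ

structure Pair (H' : Heis m G) : Prop where
  z : H'.c 1 = H.c 1
  E : H'.E = H.E
  ne : H'.X ≠ H.X

/-- An element inducing the field automorphism. -/
structure Can (s : G) : Prop where
  norm : s ∈ 𝐍[H.W]
  c : ∀ t, s * H.c t * s⁻¹ = H.c (t ^ 2)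
  v : ∀ w ∈ H.W, H.v (s * w * s⁻¹) = frob (H.v w)
  Q0 : ∀ w ∈ H.Q0, Eqv (H.c 1) (s * w * s⁻¹) w
  O : s ∈ 𝐂[H.O]
  sq : s * s = 1 ∨ s * s = H.c 1

end Heis

/-- An extraspecial group whose normalizer is transitive on the singular vectors. -/
structure Top {G : Type*} [Group G] (Q O : Subgroup G) (z x : G) : Prop where
  es : ES2 Q z
  card : 128 ≤ Nat.card Q
  x_mem : x ∈ Q
  x_sq : x * x = 1
  x_ne : x ≠ 1 ∧ x ≠ z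
  stab : ∀ g, g * z = z * g → Eqv z (g * x * g⁻¹) x → g ∈ 𝐍[Q]
  trans : ∀ u ∈ Q, u * u = 1 → u ≠ 1 → u ≠ z → ∃ n ∈ 𝐍[Q], n * u * n⁻¹ = x
  triv : ∀ g ∈ 𝐍[Q], (∀ q ∈ Q, Eqv z (g * q * g⁻¹) q) → ∃ q ∈ Q, ∃ o ∈ O, g = q * o
  odd : Odd (Nat.card O)
  O_cen : O ≤ 𝐂[Q]
  idx : ∀ p q, p * z = z * p → q * z = z * q → Eqv z (p * x * p⁻¹) x → Eqv z (q * x * q⁻¹) x →
    p ∈ 𝐂[O] ⊔ O ∨ q ∈ 𝐂[O] ⊔ O ∨ p * q ∈ 𝐂[O] ⊔ O
  fus : ∃ h ∈ 𝐍[O], h * z * h⁻¹ = x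

/-! ### The trivial intersection lemma -/

section TI

variable {G : Type*} [Group G]

structure EvenCase (Z W H : Subgroup G) (h : G) (Z0 Y T : Subgroup G) : Prop where
  h_mem : h ∈ H
  h_not : h ∉ 𝐍[W]
  le : Z ≤ Z0 ∧ Z0 ≤ Y ∧ Y ≤ W ∧ Z0 ≤ T ∧ T ≤ cj(h, W) ∧ T ≤ 𝐍[W]
  ne : Y ≠ W
  inf : ∀ t ∈ T, t ∈ W → t ∈ Z0
  ex : ∃ t ∈ T, t ∉ Z0
  fix : ∀ t ∈ T, t ∉ Z0 → ∀ w ∈ W, (t * w * t⁻¹ * w⁻¹ ∈ Z0 ↔ w ∈ Y)
  comm : ∀ t ∈ T, ∀ w ∈ W, t * w * t⁻¹ * w⁻¹ ∈ Y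
  onto : ∀ w ∈ W, w ∉ Y → ∀ y ∈ Y, ∃ t ∈ T, t * w * t⁻¹ * w⁻¹ * y⁻¹ ∈ Z0
  card : Nat.card T = Nat.card Y
  card' : Nat.card W * Nat.card Z0 ≤ Nat.card T ^ 2

structure OddCase (Z W H L Z0 : Subgroup G) : Prop where
  le : W ≤ L ∧ L ≤ H ∧ Z ≤ Z0 ∧ Z0 ≤ W
  not : ¬ L ≤ 𝐍[W]
  ne : Z0 ≠ W
  cen : ∀ l ∈ L, ∀ u ∈ Z0, l * u * l⁻¹ * u⁻¹ ∈ Z
  trans : ∀ w ∈ W, w ∉ Z0 → ∀ w' ∈ W, w' ∉ Z0 → ∃ n ∈ L, n ∈ 𝐍[W] ∧ n * w * n⁻¹ * w'⁻¹ ∈ Z0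

end TI

end Cfsg.Agent.STA
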