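import Mathlib
import Cfsg.Agent.STA.Defs

/-! The permutation model: basic facts. -/

set_option autoImplicit false
set_option linter.unusedSectionVars false

namespace Cfsg.Agent.STA

open Cfsg Cfsg.Agent.Loc.Mss Subgroup Equiv
open Cfsg.Agent.Spor (ES2 Eqv)

theorem ω_rel : ω ^ 2 + ω + 1 = 0 := Cl.prim_rel_GF4
theorem ω_ne : ω ≠ 0 ∧ ω ≠ 1 ∧ ω ^ 2 ≠ 0 ∧ ω ^ 2 ≠ 1 ∧ ω ^ 2 ≠ ω := by decide +kernel
theorem ω_cube : ω ^ 3 = 1 := by decide +kernel
theorem F_cases (t : F) : t = 0 ∨ t = 1 ∨ t = ω ∨ t = ω ^ 2 := by revert t; decide +kernel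
theorem F_four (t : F) : t ^ 4 = t := by revert t; decide +kernel
theorem F_cube {t : F} (h : t ≠ 0) : t ^ 3 = 1 := by revert t; decide +kernel
theorem F_two : (2 : F) = 0 := CharTwo.two_eq_zero
theorem card_F : Nat.card F = 4 := Cl.natCard_GF4
theorem vadd_self (u : Vec) : u + u = 0 := funext fun _ => CharTwo.add_self_eq_zero _

theorem bf_comm (u u' : Vec) : bf u u' = bf u' u := by simp only [bf]; ring
theorem bf_add (u u' w : Vec) : bf (u + u') w = bf u w + bf u' w := by simp only [bf, Pi.add_apply]; ring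
theorem bf_add' (w u u' : Vec) : bf w (u + u') = bf w u + bf w u' := by simp only [bf, Pi.add_apply]; ring
theorem bf_smul (k : F) (u w : Vec) : bf (k • u) w = k * bf u w := by
  simp only [bf, Pi.smul_apply, smul_eq_mul]; ring
theorem bf_smul' (k : F) (u w : Vec) : bf u (k • w) = k * bf u w := by
  simp only [bf, Pi.smul_apply, smul_eq_mul]; ring
theorem bf_zero (w : Vec) : bf 0 w = 0 := by simp [bf]
theorem qf_smul (k : F) (u : Vec) : qf (k • u) = k ^ 2 * qf u := by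
  simp only [qf, Pi.smul_apply, smul_eq_mul]; ring
theorem qf_zero : qf 0 = 0 := by simp [qf]
theorem bf_frob (u w : Vec) : bf (frob u) (frob w) = bf u w ^ 2 := by
  simp only [bf, frob, CharTwo.add_sq, mul_pow]
theorem qf_frob (u : Vec) : qf (frob u) = qf u ^ 2 := by
  simp only [qf, frob, CharTwo.add_sq, mul_pow]
theorem frob_add (u w : Vec) : frob (u + w) = frob u + frob w := funext fun _ => CharTwo.add_sq _ _
theorem frob_smul (k : F) (u : Vec) : frob (k • u) = k ^ 2 • frob u := funext fun _ => mul_pow _ _ _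
theorem frob_frob (u : Vec) : frob (frob u) = u := funext fun i => by
  simp only [frob, ← pow_mul]; exact F_four _

theorem sq_eq_iff (t : F) : t ^ 2 = t ↔ t = 0 ∨ t = 1 := by revert t; decide +kernel

theorem frob_eq_iff {u : Vec} : frob u = u ↔ Rt u := funext_iff.trans (forall_congr' fun _ => sq_eq_iff _)
theorem Rt.add {u w : Vec} (h : Rt u) (k : Rt w) : Rt (u + w) := Heis.RtS.add_mem h k
theorem Rt.qf {u : Vec} (h : Rt u) : qf u = 0 ∨ qf u = 1 :=
  (sq_eq_iff _).1 (by rw [← qf_frob, frob_eq_iff.2 h])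
theorem Rt.bf {u w : Vec} (h : Rt u) (k : Rt w) : bf u w = 0 ∨ bf u w = 1 :=
  (sq_eq_iff _).1 (by rw [← bf_frob, frob_eq_iff.2 h, frob_eq_iff.2 k])
theorem act_add (σ : Perm (Fin 8)) (u w : Vec) : act σ (u + w) = act σ u + act σ w := funext fun i => by
  simp only [act, Pi.add_apply]; ring
theorem act_smul (σ : Perm (Fin 8)) (k : F) (u : Vec) : act σ (k • u) = k • act σ u := funext fun i => by
  simp only [act, Pi.smul_apply, smul_eq_mul]; ring
theorem act_zero (σ : Perm (Fin 8)) : act σ 0 = 0 := funext fun i => by simp [act]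
theorem act_mul (σ τ : Perm (Fin 8)) (u : Vec) : act (σ * τ) u = act σ (act τ u) := funext fun i => by
  simp only [act, mul_inv_rev, Perm.mul_apply]
  linear_combination (-u (τ⁻¹ 7)) * F_two
theorem act_frob (σ : Perm (Fin 8)) (u : Vec) : act σ (frob u) = frob (act σ u) :=
  funext fun _ => (CharTwo.add_sq _ _).symm
theorem Rt.act {u : Vec} (h : Rt u) (σ : Perm (Fin 8)) : Rt (act σ u) :=
  frob_eq_iff.1 (by rw [← act_frob, frob_eq_iff.2 h])

namespace Model

theorem qf_comp (σ : Perm (Fin 8)) : ∀ u : Vec, qf (u ∘ σ) = qf u := by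
  have : σ ∈ Submonoid.closure (Set.range fun i : Fin 7 => swap i.castSucc i.succ) := by
    rw [Perm.mclosure_swap_castSucc_succ]; trivial
  induction this using Submonoid.closure_induction with
  | mem x hx =>
    obtain ⟨i, rfl⟩ := hx
    intro u
    fin_cases i <;> simp [qf, swap_apply_def] <;> ring
  | one => intro u; rfl
  | mul x y _ _ hx hy => intro u; rw [Perm.coe_mul, ← Function.comp_assoc, hy, hx]

theorem sum_cmp (σ : Perm (Fin 8)) (u : Vec) :
    u (σ 0) + u (σ 1) + u (σ 2) + u (σ 3) + u (σ 4) + u (σ 5) + u (σ 6) + u (σ 7) =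
      u 0 + u 1 + u 2 + u 3 + u 4 + u 5 + u 6 + u 7 := by
  have := Equiv.sum_comp σ u
  simpa only [Fin.sum_univ_eight] using this

theorem sum0 {m : Bool} {u : Vec} (hu : u ∈ VV m) (σ : Perm (Fin 8)) :
    u (σ 0) + u (σ 1) + u (σ 2) + u (σ 3) + u (σ 4) + u (σ 5) + u (σ 6) + u (σ 7) = 0 := by
  rw [sum_cmp, hu.2.1, hu.1, add_zero]

def pr (i j : Fin 8) : Vec := fun k => if k = i ∨ k = j then 1 else 0

theorem pr_mem : ∀ (m : Bool) (i j : Fin 8), i ≠ j → i < 7 → j < 7 → (m = false → i < 5 ∧ j < 5) →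
    pr i j ∈ VV m ∧ Rt (pr i j) := by decide +kernel

theorem bf_pr (u : Vec) {i j : Fin 8} (h : i ≠ j) : bf u (pr i j) = u i + u j := by
  have : bf u (pr i j) = ∑ k, u k * pr i j k := by simp only [bf, Fin.sum_univ_eight]
  rw [this, Fintype.sum_eq_add i j h] <;> simp +contextual [pr]

theorem pr_fix {s : Perm (Fin 8)} {i j : Fin 8} (h : ∀ k, pr i j (s k) + pr i j (s 7) = pr i j k) :
    s i = i ∨ s i = j := by
  by_contra hn
  have h1 := h i
  simp only [pr, if_neg hn, true_or, if_true, zero_add] at h1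
  have h2 : ∀ k, k ≠ i → k ≠ j → s k = i ∨ s k = j := fun k a b => by
    by_contra hk
    have := h k
    simp only [pr, if_neg hk, zero_add, a, b, or_self, if_false] at this
    exact one_ne_zero (h1.symm.trans this)
  obtain ⟨a, b, c, ab, ac, bc, ha, hb, hc⟩ : ∃ a b c : Fin 8, a ≠ b ∧ a ≠ c ∧ b ≠ c ∧ (a ≠ i ∧ a ≠ j) ∧
      (b ≠ i ∧ b ≠ j) ∧ c ≠ i ∧ c ≠ j := by
    clear h hn h1 h2
    revert i j
    decide +kernel
  have := s.injective.ne ab
  have := s.injective.ne ac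
  have := s.injective.ne bc
  have := h2 a ha.1 ha.2
  have := h2 b hb.1 hb.2
  have := h2 c hc.1 hc.2
  grind

def L35 : List (Fin 8 × Fin 8 × Fin 8 × Fin 8) :=
  [(0, 1, 0, 1), (0, 1, 0, 4), (0, 1, 1, 4), (0, 1, 2, 4), (0, 1, 3, 4), (0, 1, 0, 5), (0, 1, 0, 6), (0, 1, 0, 7), (0, 1, 1, 5), (0, 1, 1, 6), (0, 1, 1, 7), (0, 1, 2, 5), (0, 1, 2, 6), (0, 1, 2, 7), (0, 1, 3, 5), (0, 1, 3, 6), (0, 1, 3, 7), (0, 4, 1, 5), (0, 4, 1, 6), (0, 4, 1, 7), (0, 4, 2, 5), (0, 4, 2, 6), (0, 4, 2, 7), (0, 4, 3, 5), (0, 4, 3, 6), (0, 4, 3, 7), (0, 5, 1, 6), (0, 5, 1, 7), (0, 5, 2, 6), (0, 5, 2, 7), (0, 5, 3, 6), (0, 5, 3, 7), (0, 6, 1, 7), (0, 6, 2, 7), (0, 6, 3, 7)]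

set_option synthInstance.maxSize 4000 in
theorem sing_aux : ∀ m : Bool, ∀ a ∈ [(0 : F), 1], ∀ b ∈ [(0 : F), 1], ∀ c ∈ [(0 : F), 1],
    ∀ d ∈ [(0 : F), 1], ∀ e ∈ [(0 : F), 1], ∀ f ∈ [(0 : F), 1], ∀ g ∈ [(0 : F), 1],
    ![a, b, c, d, e, f, g, 0] ∈ VV m → ![a, b, c, d, e, f, g, 0] ≠ 0 → qf ![a, b, c, d, e, f, g, 0] = 0 →
    ∃ t ∈ L35, t.1 ≠ t.2.1 ∧ t.2.2.1 ≠ t.2.2.2 ∧ (m = false → ∀ i : Fin 8, 4 < i →
      (swap t.1 t.2.1 * swap t.2.2.1 t.2.2.2) i = i) ∧
      ![a, b, c, d, e, f, g, 0] = act (swap t.1 t.2.1 * swap t.2.2.1 t.2.2.2) e1 := by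
  decide +kernel

theorem card_sub (m : Bool) (P : AddSubgroup F) :
    Nat.card {u : Vec // u ∈ VV m ∧ ∀ i, u i ∈ P} = Nat.card P ^ (if m then 6 else 4) := by
  cases m
  · have e : {u : Vec // u ∈ VV false ∧ ∀ i, u i ∈ P} ≃ (Fin 4 → P) :=
      { toFun := fun u i => ⟨u.1 (i.castLE (by norm_num)), u.2.2 _⟩
        invFun := fun a => ⟨![a 0, a 1, a 2, a 3, (a 0 + a 1 + a 2 + a 3 : P), 0, 0, 0],
          ⟨rfl, by simp [CharTwo.add_self_eq_zero], fun _ => ⟨rfl, rfl⟩⟩, fun i => by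
            fin_cases i <;> first | exact Subtype.prop _ | exact P.zero_mem⟩
        left_inv := fun ⟨u, ⟨h1, h2, h3⟩, _⟩ => Subtype.ext (funext fun i => by
          have h4 := h3 rfl
          fin_cases i <;> simp [h1, h4, Fin.castLE]
          linear_combination h2 - h4.1 - h4.2 - u 4 * F_two)
        right_inv := fun a => funext fun i => by fin_cases i <;> rfl }
    rw [Nat.card_congr e, Nat.card_fun]; simp
  · have e : {u : Vec // u ∈ VV true ∧ ∀ i, u i ∈ P} ≃ (Fin 6 → P) :=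
      { toFun := fun u i => ⟨u.1 (i.castLE (by norm_num)), u.2.2 _⟩
        invFun := fun a => ⟨![a 0, a 1, a 2, a 3, a 4, a 5, (a 0 + a 1 + a 2 + a 3 + a 4 + a 5 : P), 0],
          ⟨rfl, by simp [CharTwo.add_self_eq_zero], nofun⟩, fun i => by
            fin_cases i <;> first | exact Subtype.prop _ | exact P.zero_mem⟩
        left_inv := fun ⟨u, ⟨h1, h2, h3⟩, _⟩ => Subtype.ext (funext fun i => by
          fin_cases i <;> simp [h1, Fin.castLE]
          linear_combination h2 - u 6 * F_two)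
        right_inv := fun a => funext fun i => by fin_cases i <;> rfl }
    rw [Nat.card_congr e, Nat.card_fun]; simp

theorem sum_char {A : Type*} [AddCommGroup A] [Fintype A] (f : A → ℤ) (hf : ∀ a b, f (a + b) = f a * f b)
    {a0 : A} (h : f a0 = -1) : ∑ a, f a = 0 := by
  have := Equiv.sum_comp (Equiv.addLeft a0) f
  simp only [Equiv.coe_addLeft, hf, h, neg_mul, one_mul, Finset.sum_neg_distrib] at this
  omega

def ψ (t : F) : ℤ := if t = 0 ∨ t = 1 then 1 else -1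

theorem ψ_add : ∀ s t, ψ (s + t) = ψ s * ψ t := by decide +kernel

end Model

open Model

variable {m : Bool} {u w : Vec} {σ τ : Perm (Fin 8)}

theorem named_mem (m : Bool) : vD ∈ VV m ∧ vE ∈ VV m ∧ e1 ∈ VV m ∧ e2 ∈ VV m ∧ em m • u1 ∈ VV m ∧
    em m • u2 ∈ VV m := by revert m; decide +kernel
theorem qf_add (hu : u ∈ VV m) (_hw : w ∈ VV m) : qf (u + w) = qf u + qf w + bf u w := by
  have h := sum0 hu 1
  simp only [Perm.one_apply] at h
  have h2 : bf u w * 2 = 0 := by rw [F_two, mul_zero]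
  simp only [qf, bf, Pi.add_apply] at h2 ⊢
  linear_combination (w 0 + w 1 + w 2 + w 3 + w 4 + w 5 + w 6 + w 7) * h - h2
theorem bf_self (hu : u ∈ VV m) : bf u u = 0 := by
  have := qf_add hu hu
  rwa [vadd_self, qf_zero, CharTwo.add_self_eq_zero, zero_add, eq_comm] at this
theorem frob_mem (hu : u ∈ VV m) : frob u ∈ VV m := by
  refine ⟨by simp [frob, hu.1], ?_, fun h => by simp [frob, hu.2.2 h]⟩
  have := congrArg (· ^ 2) hu.2.1
  simpa only [CharTwo.add_sq, frob, ne_eq, OfNat.ofNat_ne_zero, not_false_eq_true, zero_pow] using this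
theorem act_one (hu : u ∈ VV m) : act 1 u = u := funext fun i => by simp [act, hu.1]
theorem act_mem (hσ : σ ∈ Sg m) (hu : u ∈ VV m) : act σ u ∈ VV m := by
  refine ⟨CharTwo.add_self_eq_zero _, ?_, fun h => ?_⟩
  · simp only [act]
    linear_combination sum0 hu σ⁻¹ + 3 * u (σ⁻¹ 7) * F_two
  · have := ((Sg m).inv_mem hσ).2 h
    simp only [act, this, hu.1, hu.2.2 h, add_zero, and_self]
theorem qf_act (σ : Perm (Fin 8)) (hu : u ∈ VV m) : qf (act σ u) = qf u := by
  rw [← qf_comp σ⁻¹ u]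
  simp only [qf, act, Function.comp_apply]
  linear_combination 7 * u (σ⁻¹ 7) * sum0 hu σ⁻¹ + 14 * u (σ⁻¹ 7) ^ 2 * F_two
theorem bf_act (σ : Perm (Fin 8)) (hu : u ∈ VV m) (hw : w ∈ VV m) : bf (act σ u) (act σ w) = bf u w := by
  have := sum_cmp σ⁻¹ (u * w)
  simp only [bf, act, Pi.mul_apply] at this ⊢
  linear_combination this + w (σ⁻¹ 7) * sum0 hu σ⁻¹ + u (σ⁻¹ 7) * sum0 hw σ⁻¹ +
    4 * u (σ⁻¹ 7) * w (σ⁻¹ 7) * F_two
theorem eq_zero_of_bf (hu : u ∈ VV m) (h : ∀ w ∈ VV m, Rt w → bf u w = 0) : u = 0 := by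
  have k : ∀ j : Fin 8, 0 ≠ j → j < 7 → (m = false → j < 5) → u j = u 0 := fun j a b c => by
    have p := pr_mem m 0 j a (by decide) b fun h => ⟨by decide, c h⟩
    have := h _ p.1 p.2
    rw [bf_pr u a] at this
    linear_combination this - u 0 * F_two
  obtain ⟨h1, h2, h3⟩ := hu
  have k1 := k 1 (by decide) (by decide) fun _ => by decide
  have k2 := k 2 (by decide) (by decide) fun _ => by decide
  have k3 := k 3 (by decide) (by decide) fun _ => by decide
  have k4 := k 4 (by decide) (by decide) fun _ => by decide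
  cases m
  · obtain ⟨k5, k6⟩ := h3 rfl
    have k0 : u 0 = 0 := by linear_combination h2 - k1 - k2 - k3 - k4 - k5 - k6 - 2 * u 0 * F_two
    funext i
    fin_cases i <;> simp [*]
  · have k5 := k 5 (by decide) (by decide) nofun
    have k6 := k 6 (by decide) (by decide) nofun
    have k0 : u 0 = 0 := by linear_combination h2 - k1 - k2 - k3 - k4 - k5 - k6 - 3 * u 0 * F_two
    funext i
    fin_cases i <;> simp [*]
theorem rt_of_bf (hu : u ∈ VV m) (h : ∀ w ∈ VV m, Rt w → bf u w = 0 ∨ bf u w = 1) : Rt u := by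
  have := eq_zero_of_bf ((VV m).add_mem (frob_mem hu) hu) fun w hw r => by
    rw [bf_add, ← frob_eq_iff.2 r, bf_frob, frob_eq_iff.2 r, (sq_eq_iff _).2 (h w hw r),
      CharTwo.add_self_eq_zero]
  rw [← frob_eq_iff, ← add_zero (frob u), ← vadd_self u, ← add_assoc, this, zero_add]
theorem exists_bf (hu : u ∈ VV m) (h : u ≠ 0) (t : F) : ∃ w ∈ VV m, bf u w = t := by
  by_contra hn
  refine h (eq_zero_of_bf hu fun w hw _ => by_contra fun h0 => hn ⟨(t / bf u w) • w, (VV m).smul_mem _ hw, ?_⟩)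
  rw [bf_smul', div_mul_cancel₀ _ h0]
theorem exists_rt (hu : u ∈ VV m) : ∃ p ∈ VV m, ∃ p' ∈ VV m, Rt p ∧ Rt p' ∧ u = p + ω • p' := by
  have h := (VV m).add_mem hu (frob_mem hu)
  have k : ∀ t : F, (t + ω * (t + t ^ 2) = 0 ∨ t + ω * (t + t ^ 2) = 1) ∧ (t + t ^ 2 = 0 ∨ t + t ^ 2 = 1) := by
    decide +kernel
  exact ⟨u + ω • (u + frob u), (VV m).add_mem hu ((VV m).smul_mem _ h), _, h, fun i => (k _).1,
    fun i => (k _).2, by rw [add_assoc, vadd_self, add_zero]⟩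
theorem act_inj (hσ : σ ∈ Sg m) (hτ : τ ∈ Sg m) (h : ∀ u ∈ VV m, Rt u → act σ u = act τ u) : σ = τ := by
  have k : ∀ i j : Fin 8, i ≠ j → i < 7 → j < 7 → (m = false → i < 5 ∧ j < 5) →
      (τ⁻¹ * σ)⁻¹ i = i ∨ (τ⁻¹ * σ)⁻¹ i = j := fun i j a b c d => by
    have p := pr_mem m i j a b c d
    refine pr_fix fun k => congrFun (?_ : act (τ⁻¹ * σ) (pr i j) = pr i j) k
    rw [act_mul, h _ p.1 p.2, ← act_mul, inv_mul_cancel, act_one p.1]
  have hs := (Sg m).inv_mem ((Sg m).mul_mem ((Sg m).inv_mem hτ) hσ)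
  suffices (τ⁻¹ * σ)⁻¹ = 1 by rwa [inv_eq_one, inv_mul_eq_one, eq_comm] at this
  generalize (τ⁻¹ * σ)⁻¹ = s at k hs
  have k' : ∀ i : Fin 8, i < 7 → (m = false → i < 5) → s i = i := fun i a b => by
    obtain ⟨j, j', h1, h2, h3, h4, h5⟩ : ∃ j j' : Fin 8, i ≠ j ∧ i ≠ j' ∧ j ≠ j' ∧ j < 5 ∧ j' < 5 := by
      clear a b; revert i; decide +kernel
    rcases k i j h1 a (h4.trans (by decide)) fun h => ⟨b h, h4⟩ with e | e
    · exact e
    · exact (k i j' h2 a (h5.trans (by decide)) fun h => ⟨b h, h5⟩).resolve_right (e ▸ h3)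
  have k7 : ∀ i : Fin 8, i < 7 → s i = i := fun i a => by
    cases m
    · by_cases h5 : i < 5
      · exact k' i a fun _ => h5
      · obtain rfl | rfl : i = 5 ∨ i = 6 := by omega
        exacts [(hs.2 rfl).1, (hs.2 rfl).2.1]
    · exact k' i a nofun
  ext1 i
  by_cases h7 : i < 7
  · exact k7 i h7
  · by_contra hn
    have : s i < 7 := by simp only [Perm.one_apply] at hn; omega
    exact hn (s.injective (k7 _ this))
/-- Singular rational vectors form one orbit. -/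
theorem rt_sing (hu : u ∈ VV m) (h : Rt u) (h0 : u ≠ 0) (hq : qf u = 0) :
    ∃ σ ∈ Sg m, Perm.sign σ = 1 ∧ u = act σ e1 := by
  have e : u = ![u 0, u 1, u 2, u 3, u 4, u 5, u 6, 0] := funext fun i => by fin_cases i <;> simp [hu.1]
  have k : ∀ i, u i ∈ [(0 : F), 1] := fun i => by simpa using h i
  rw [e] at hu h0 hq ⊢
  obtain ⟨t, -, h1, h2, h3, h4⟩ := sing_aux m _ (k 0) _ (k 1) _ (k 2) _ (k 3) _ (k 4) _ (k 5) _ (k 6) hu h0 hq
  have s : Perm.sign (swap t.1 t.2.1 * swap t.2.2.1 t.2.2.2) = 1 := by simp [h1, h2]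
  exact ⟨_, ⟨fun _ => s, fun h => ⟨h3 h 5 (by decide), h3 h 6 (by decide), h3 h 7 (by decide)⟩⟩, s, h4⟩
theorem card_VV (m : Bool) : Nat.card (VV m) = if m then 4096 else 256 := by
  have := card_sub m ⊤
  rw [AddSubgroup.card_top, card_F] at this
  simp only [AddSubgroup.mem_top, implies_true, and_true] at this
  exact this.trans (by cases m <;> rfl)
theorem card_rt (m : Bool) : Nat.card {u // u ∈ VV m ∧ Rt u} = if m then 64 else 16 := by
  have h1 : ∀ t : F, t ∈ AddSubgroup.zmultiples (1 : F) ↔ t = 0 ∨ t = 1 := fun t => by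
    refine ⟨?_, by rintro (rfl | rfl) <;> simp⟩
    rintro ⟨k, rfl⟩
    rcases Int.even_or_odd' k with ⟨j, rfl | rfl⟩ <;> simp [F_two]
  have := card_sub m (AddSubgroup.zmultiples (1 : F))
  rw [Nat.card_zmultiples,
    show addOrderOf (1 : F) = 2 from CharP.eq F (CharP.addOrderOf_one F) inferInstance] at this
  simp only [h1] at this
  exact this.trans (by cases m <;> rfl)
/-- Subgroups on which the form takes values in the prime field. -/
theorem lagr {J : AddSubgroup Vec} (hJ : ∀ u ∈ J, u ∈ VV m)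
    (h : ∀ u ∈ J, ∀ w ∈ J, bf u w = 0 ∨ bf u w = 1) :
    Nat.card J ≤ (if m then 64 else 16) ∧ ((if m then 64 else 16) ≤ Nat.card J →
      ∀ u ∈ VV m, (∀ w ∈ J, bf u w = 0 ∨ bf u w = 1) → u ∈ J) := by
  classical
  let S : Set Vec := {u | u ∈ VV m ∧ ∀ w ∈ J, bf u w = 0 ∨ bf u w = 1}
  have hS : (J : Set Vec) ⊆ S := fun u hu => ⟨hJ u hu, h u hu⟩
  have e1 : ∑ w : J, ∑ u : VV m, ψ (bf u w) = Nat.card (VV m) := by
    rw [Fintype.sum_eq_single 0]
    · simp [bf_comm _ 0, bf_zero, ψ]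
    · intro w hw
      obtain ⟨u, hu, e⟩ := exists_bf (hJ _ w.2) (by simpa using hw) ω
      exact sum_char (a0 := ⟨u, hu⟩) _ (fun a b => by simp [bf_add, ψ_add])
        (by simp [bf_comm u, e, ψ, ω_ne])
  have e2 : ∀ u : VV m, ∑ w : J, ψ (bf u w) = if u.1 ∈ S then (Nat.card J : ℤ) else 0 := fun u => by
    split_ifs with hu
    · rw [Finset.sum_congr rfl fun w _ => if_pos (hu.2 w.1 w.2)]; simp
    · obtain ⟨w, hw, e⟩ : ∃ w ∈ J, ¬ (bf u w = 0 ∨ bf u w = 1) := by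
        by_contra hn
        exact hu ⟨u.2, fun w hw => by_contra fun e => hn ⟨w, hw, e⟩⟩
      exact sum_char (a0 := ⟨w, hw⟩) _ (fun a b => by simp [bf_add', ψ_add]) (if_neg e)
  have e3 : (Finset.univ.filter fun u : VV m => u.1 ∈ S).card = S.ncard := by
    rw [← Set.ncard_coe_finset, ← Set.ncard_image_of_injective _ Subtype.val_injective]
    congr 1
    ext u
    simp only [Finset.coe_filter, Finset.mem_univ, true_and, Set.mem_image, Set.mem_ofPred_eq]
    exact ⟨by rintro ⟨x, hx, rfl⟩; exact hx, fun hu => ⟨⟨u, hu.1⟩, hu, rfl⟩⟩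
  rw [Finset.sum_comm, Finset.sum_congr rfl fun u _ => e2 u, ← Finset.sum_filter, Finset.sum_const, e3,
    nsmul_eq_mul, card_VV] at e1
  have e4 : S.ncard * Nat.card J = (if m then 64 else 16) * (if m then 64 else 16) := by
    have : S.ncard * Nat.card J = if m then 4096 else 256 := by exact_mod_cast e1
    rw [this]; cases m <;> rfl
  have e5 : Nat.card J ≤ S.ncard := Set.ncard_le_ncard hS
  refine ⟨by_contra fun hn => ?_, fun hn u hu hu' => ?_⟩
  · have := Nat.mul_lt_mul'' ((not_le.1 hn).trans_le e5) (not_le.1 hn)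
    omega
  · have e6 : S.ncard ≤ (J : Set Vec).ncard := by
      by_contra hl
      have := Nat.mul_lt_mul_of_lt_of_le (hn.trans_lt (not_le.1 hl)) hn (by cases m <;> simp at hn ⊢ <;> omega)
      omega
    exact (Set.eq_of_subset_of_ncard_le hS e6 ▸ (⟨hu, hu'⟩ : u ∈ S) : u ∈ (J : Set Vec))

end Cfsg.Agent.STA
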