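import Mathlib
import Cfsg.Agent.STA.Model

/-! Basic facts on the letters and the configuration. -/

set_option autoImplicit false
set_option linter.unusedSectionVars false

namespace Cfsg.Agent.STA

open Cfsg Cfsg.Agent.Loc.Mss Subgroup Equiv
open Cfsg.Agent.Spor (ES2 Eqv)

variable {m : Bool} {G : Type*} [Group G]

theorem add_zero' {f : F → G} (h : ∀ s t, f (s + t) = f s * f t) : f 0 = 1 :=
  mul_left_cancel (a := f 0) (by rw [← h, add_zero, mul_one])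
theorem add_sq {f : F → G} (h : ∀ s t, f (s + t) = f s * f t) (t : F) : f t * f t = 1 := by
  rw [← h, CharTwo.add_self_eq_zero, add_zero' h]
theorem add_inv {f : F → G} (h : ∀ s t, f (s + t) = f s * f t) (t : F) : (f t)⁻¹ = f t :=
  inv_eq_of_mul_eq_one_right (add_sq h t)
theorem add_commute {f : F → G} (h : ∀ s t, f (s + t) = f s * f t) (s t : F) : Commute (f s) (f t) := by
  rw [commute_iff_eq, ← h, ← h, add_comm]

/-- Central extensions of 2-groups by elements of odd order are 2-closed. -/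
theorem two_closed [Finite G] {Γ : Subgroup G}
    (h : ∀ g ∈ Γ, g ^ 4 ∈ 𝐂[Γ] ∧ Odd (orderOf (g ^ 4))) {p q : G} (hp : p ∈ Γ) (hq : q ∈ Γ)
    (p2 : ∃ j : ℕ, p ^ 2 ^ j = 1) (q2 : ∃ j : ℕ, q ^ 2 ^ j = 1) : ∃ j : ℕ, (p * q) ^ 2 ^ j = 1 := by
  have h2 : IsPGroup 2 (Γ ⧸ center Γ) := fun x => by
    obtain ⟨g, rfl⟩ := QuotientGroup.mk_surjective x
    refine ⟨2, ?_⟩
    rw [← QuotientGroup.mk_pow, QuotientGroup.eq_one_iff, mem_center_iff]
    exact fun y => Subtype.ext ((h g g.2).1 y y.2)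
  obtain ⟨k, hk⟩ := h2.exists_card_eq
  obtain ⟨i, hi⟩ := p2
  obtain ⟨j, hj⟩ := q2
  have e : (MonoidHom.transferCenterPow Γ (⟨p, hp⟩ * ⟨q, hq⟩)) ^ 2 ^ (i + j) = 1 := by
    rw [map_mul, Commute.mul_pow (Subtype.ext ((mem_center_iff.1 (Subtype.prop _)) _)), ← map_pow, ← map_pow, show (⟨p, hp⟩ : Γ) ^ 2 ^ (i + j) = 1 from
      Subtype.ext (by simp [pow_add, pow_mul, hi]), show (⟨q, hq⟩ : Γ) ^ 2 ^ (i + j) = 1 from
      Subtype.ext (by simp [pow_add, pow_mul', hj]), map_one, mul_one]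
  refine ⟨k + (i + j), ?_⟩
  have e2 := congrArg (fun x : center Γ => ((x : Γ) : G)) e
  simp only [SubmonoidClass.coe_pow, MonoidHom.transferCenterPow_apply, index, hk] at e2
  rw [pow_add, pow_mul]
  exact e2

namespace Lt

variable (l : Lt m G)

def el (α β t u γ : F) : G := l.a α * l.b β * l.s1 t * l.s2 u * l.c γ

theorem mem_X {g : G} : g ∈ l.X ↔ ∃ t, g = l.c t := Iff.rfl
theorem c_eq {s t : F} : l.c s = l.c t ↔ s = t := by
  refine ⟨fun h => ?_, congrArg _⟩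
  have := l.c_inj (s + t) (by rw [l.c_add, h, add_sq l.c_add])
  rwa [CharTwo.add_eq_zero] at this

theorem ba (s t : F) : l.b t * l.a s = l.a s * l.b t * l.c (s * t) := by
  rw [l.ab, mul_assoc, add_sq l.c_add, mul_one]

theorem el_mul (α β t u γ α' β' t' u' γ' : F) : l.el α β t u γ * l.el α' β' t' u' γ' =
    l.el (α + α') (β + β') (t + t') (u + u') (γ + γ' + β * α' + em m * (u * t')) := by
  have h1 : l.a α * l.b β * (l.a α' * l.b β') = l.a (α + α') * l.b (β + β') * l.c (β * α') := by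
    rw [mul_assoc, ← mul_assoc (l.b β), ba, mul_assoc _ (l.c _), (l.cc _ _).2.1.eq, l.a_add, l.b_add,
      mul_comm β]
    group
  have h2 : l.s1 t * l.s2 u * (l.s1 t' * l.s2 u') =
      l.s1 (t + t') * l.s2 (u + u') * l.c (em m * (u * t')) := by
    have : l.s2 u * l.s1 t' = l.s1 t' * l.s2 u * l.c (em m * (t' * u)) := by
      rw [l.ss, mul_assoc, add_sq l.c_add, mul_one]
    rw [mul_assoc, ← mul_assoc (l.s2 u), this, mul_assoc _ (l.c _), (l.cc _ _).2.2.2.1.eq, l.s1_add,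
      l.s2_add, mul_comm u]
    group
  have c1 : Commute (l.s1 t * l.s2 u * l.c γ) (l.a α' * l.b β') :=
    (((l.com _ _).1.symm.mul_right (l.com _ _).2.2.1.symm).mul_left
      ((l.com _ _).2.1.symm.mul_right (l.com _ _).2.2.2.1.symm)).mul_left
      ((l.cc _ _).1.mul_right (l.cc _ _).2.1)
  have c2 : ∀ δ p q, Commute (l.c δ) (l.s1 p * l.s2 q) := fun _ _ _ =>
    (l.cc _ _).2.2.1.mul_right (l.cc _ _).2.2.2.1
  calc _ = l.a α * l.b β * (l.s1 t * l.s2 u * l.c γ * (l.a α' * l.b β')) * (l.s1 t' * l.s2 u') * l.c γ' := by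
        simp only [el, mul_assoc]
    _ = l.a α * l.b β * (l.a α' * l.b β') * (l.s1 t * l.s2 u * (l.c γ * (l.s1 t' * l.s2 u'))) * l.c γ' := by
        rw [c1.eq]; simp only [mul_assoc]
    _ = l.a (α + α') * l.b (β + β') * (l.c (β * α') * (l.s1 (t + t') * l.s2 (u + u'))) *
        (l.c (em m * (u * t')) * l.c γ * l.c γ') := by
        rw [h1, (c2 _ _ _).eq, ← mul_assoc (_ * l.s2 u), h2]; simp only [mul_assoc]
    _ = _ := by
        rw [(c2 _ _ _).eq]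
        simp only [el, mul_assoc, ← l.c_add]
        congr 5
        ring

theorem el_letters (t : F) : l.a t = l.el t 0 0 0 0 ∧ l.b t = l.el 0 t 0 0 0 ∧ l.s1 t = l.el 0 0 t 0 0 ∧
    l.s2 t = l.el 0 0 0 t 0 ∧ l.c t = l.el 0 0 0 0 t := by
  simp [el, add_zero' l.a_add, add_zero' l.b_add, add_zero' l.c_add, add_zero' l.s1_add, add_zero' l.s2_add]

theorem el_zero : l.el 0 0 0 0 0 = 1 := by rw [← (l.el_letters 0).1, add_zero' l.a_add]

theorem el_c (α β t u γ δ : F) : l.el α β t u γ * l.c δ = l.el α β t u (γ + δ) := by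
  simp only [el, l.c_add, mul_assoc]

theorem el_conj (α β t u γ α' β' t' u' γ' : F) :
    l.el α β t u γ * l.el α' β' t' u' γ' * (l.el α β t u γ)⁻¹ =
      l.el α' β' t' u' (γ' + α * β' + β * α' + em m * (t * u' + u * t')) := by
  rw [mul_inv_eq_iff_eq_mul, el_mul, el_mul, add_comm α, add_comm β, add_comm t, add_comm u]
  congr 1
  linear_combination (-(α * β') - em m * t * u') * F_two

theorem el_cancel {α β t u γ γ' : F} (h : l.el α β t u γ = l.el α β t u γ') : γ = γ' :=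
  l.c_eq.1 (mul_left_cancel h)

theorem el_em (α β t u γ : F) : l.el α β t u γ = l.el α β (em m * t) (em m * u) γ := by
  cases m
  · simp only [el, (l.triv rfl).2]
  · simp [em]

theorem el_inj {α β t u γ α' β' t' u' γ' : F} (h : l.el α β t u γ = l.el α' β' t' u' γ') :
    α = α' ∧ β = β' ∧ em m * t = em m * t' ∧ em m * u = em m * u' ∧ γ = γ' := by
  have k : ∀ p q r s, α * q + β * p + em m * (t * s + u * r) = α' * q + β' * p + em m * (t' * s + u' * r) :=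
    fun p q r s => by
      have := l.el_conj α β t u γ p q r s 0
      rw [h, el_conj] at this
      linear_combination -l.el_cancel this
  have h1 : α = α' := by simpa using k 0 1 0 0
  have h2 : β = β' := by simpa using k 1 0 0 0
  have h3 : em m * t = em m * t' := by linear_combination k 0 0 0 1
  have h4 : em m * u = em m * u' := by linear_combination k 0 0 1 0
  rw [l.el_em, l.el_em α', h1, h2, h3, h4] at h
  exact ⟨h1, h2, h3, h4, l.el_cancel h⟩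

theorem letters_mem (t : F) : l.a t ∈ l.QA ∧ l.b t ∈ l.QA ∧ l.s1 t ∈ l.QA ∧ l.s2 t ∈ l.QA ∧
    l.c t ∈ l.QA ∧ l.x t ∈ l.D ∧ l.w ∈ l.D :=
  ⟨subset_closure ⟨t, by simp⟩, subset_closure ⟨t, by simp⟩, subset_closure ⟨t, by simp⟩,
    subset_closure ⟨t, by simp⟩, subset_closure ⟨t, by simp⟩,
    mem_sup_right (subset_closure (.inr ⟨t, rfl⟩)), mem_sup_right (subset_closure (.inl rfl))⟩

theorem el_mem (α β t u γ : F) : l.el α β t u γ ∈ l.QA :=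
  mul_mem (mul_mem (mul_mem (mul_mem (l.letters_mem _).1 (l.letters_mem _).2.1) (l.letters_mem _).2.2.1)
    (l.letters_mem _).2.2.2.1) (l.letters_mem _).2.2.2.2.1

theorem el_inv (α β t u γ : F) : (l.el α β t u γ)⁻¹ = l.el α β t u (γ + β * α + em m * (u * t)) := by
  refine inv_eq_of_mul_eq_one_right ?_
  rw [el_mul, ← el_zero]
  simp only [CharTwo.add_self_eq_zero]
  congr 1
  linear_combination (γ + β * α + em m * (u * t)) * F_two

theorem mem_QA {g : G} : g ∈ l.QA ↔ ∃ α β t u γ, g = l.el α β t u γ := by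
  refine ⟨fun h => ?_, by rintro ⟨α, β, t, u, γ, rfl⟩; exact l.el_mem _ _ _ _ _⟩
  induction h using closure_induction with
  | mem x hx =>
    obtain ⟨t, h⟩ := hx
    have := l.el_letters t
    rcases h with rfl | rfl | rfl | rfl | rfl
    exacts [⟨_, _, _, _, _, this.1⟩, ⟨_, _, _, _, _, this.2.1⟩, ⟨_, _, _, _, _, this.2.2.1⟩,
      ⟨_, _, _, _, _, this.2.2.2.1⟩, ⟨_, _, _, _, _, this.2.2.2.2⟩]
  | one => exact ⟨_, _, _, _, _, l.el_zero.symm⟩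
  | mul x y _ _ hx hy =>
    obtain ⟨_, _, _, _, _, rfl⟩ := hx
    obtain ⟨_, _, _, _, _, rfl⟩ := hy
    exact ⟨_, _, _, _, _, l.el_mul ..⟩
  | inv x _ hx =>
    obtain ⟨_, _, _, _, _, rfl⟩ := hx
    exact ⟨_, _, _, _, _, l.el_inv ..⟩

theorem X_le_QA : l.X ≤ l.QA := by rintro _ ⟨t, rfl⟩; exact (l.letters_mem t).2.2.2.2.1
theorem QA_le_D : l.QA ≤ l.D := le_sup_left

theorem D_le {P : Subgroup G} (h : ∀ t, l.a t ∈ P ∧ l.b t ∈ P ∧ l.c t ∈ P ∧ l.s1 t ∈ P ∧ l.s2 t ∈ P ∧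
    l.x t ∈ P) (hw : l.w ∈ P) : l.D ≤ P :=
  sup_le ((closure_le _).2 (by rintro _ ⟨t, rfl | rfl | rfl | rfl | rfl⟩ <;> simp [h t]))
    ((closure_le _).2 (by rintro _ (rfl | ⟨t, rfl⟩) <;> simp [h, hw]))

theorem D_le_A : l.D ≤ l.A := l.D_le l.mem l.mem'.2.2.1

theorem mem_cX {g : G} : g ∈ 𝐂[l.X] ↔ ∀ t, Commute (l.c t) g :=
  ⟨fun h t => h _ ⟨t, rfl⟩, by rintro h _ ⟨t, rfl⟩; exact h t⟩

theorem D_le_cent : l.D ≤ 𝐂[l.X] := l.D_le (fun t => by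
  simp only [mem_cX]
  exact ⟨fun s => (l.cc s t).1, fun s => (l.cc s t).2.1, fun s => add_commute l.c_add s t,
    fun s => (l.cc s t).2.2.1, fun s => (l.cc s t).2.2.2.1, fun s => (l.cc s t).2.2.2.2.1⟩)
  (l.mem_cX.2 fun s => (l.cc s 0).2.2.2.2.2)

theorem cj_QA {g : G} (h : ∀ t, g * l.a t * g⁻¹ ∈ l.QA ∧ g * l.b t * g⁻¹ ∈ l.QA ∧ g * l.s1 t * g⁻¹ ∈ l.QA ∧
    g * l.s2 t * g⁻¹ ∈ l.QA ∧ g * l.c t * g⁻¹ ∈ l.QA) : cj(g, l.QA) ≤ l.QA :=
  map_le_iff_le_comap.2 ((closure_le _).2 (by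
    rintro _ ⟨t, rfl | rfl | rfl | rfl | rfl⟩ <;> simp [h t]))

theorem norm_of_pow {P : Subgroup G} {g : G} {n : ℕ} (e : g ^ (n + 1) = 1) (h : cj(g, P) ≤ P) : g ∈ 𝐍[P] := by
  have k : ∀ i : ℕ, cj(g ^ i, P) ≤ P := fun i => by
    induction i with
    | zero => rw [pow_zero, cj_one]
    | succ i ih => rw [pow_succ', ← cj_cj]; exact (cj_mono g ih).trans h
  refine cj_eq_iff.1 (le_antisymm h (le_cj_iff_inv_le.2 ?_))
  rw [inv_eq_of_mul_eq_one_right (pow_succ' g n ▸ e)]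
  exact k n

theorem D_le_norm : l.D ≤ 𝐍[l.QA] := by
  have M := l.letters_mem
  have q : ∀ {u}, u ∈ l.QA → u ∈ 𝐍[l.QA] := fun h => le_normalizer h
  refine l.D_le (fun t => ⟨q (M t).1, q (M t).2.1, q (M t).2.2.2.2.1, q (M t).2.2.1, q (M t).2.2.2.1, ?_⟩) ?_
  · rcases m.eq_false_or_eq_true.symm with m' | m'
    · rw [((l.triv m').2 t).2.2]; exact one_mem _
    · refine norm_of_pow (n := 1) (by rw [sq, add_sq l.x_add]) (l.cj_QA fun u => ?_)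
      obtain ⟨h1, h2, h3⟩ := l.xact m' t u
      rw [h1, h2, h3, ← (l.com u t).2.2.2.2.eq, ← (l.cc u t).2.2.2.2.1.eq, mul_inv_cancel_right,
        mul_inv_cancel_right]
      exact ⟨(M _).1, mul_mem (mul_mem (mul_mem (M _).1 (M _).2.1) (M _).2.2.1) (M _).2.2.2.1,
        mul_mem (mul_mem (M _).1 (M _).2.2.1) (M _).2.2.2.2.1, mul_mem (M _).1 (M _).2.2.2.1, (M _).2.2.2.2.1⟩
  · rcases m.eq_false_or_eq_true.symm with m' | m'
    · rw [(l.triv m').1]; exact one_mem _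
    · have w2 := l.nn.2.2
      refine norm_of_pow (n := 1) (by rw [sq, w2]) (l.cj_QA fun u => ?_)
      obtain ⟨h1, h2, -⟩ := (l.wact m').2.2 u
      have k : ∀ y, l.w * (l.w * y * l.w) * l.w = y := fun y => by
        rw [← mul_assoc, ← mul_assoc, w2, one_mul, mul_assoc, w2, mul_one]
      rw [← (l.cc u 0).2.2.2.2.2.eq, mul_inv_cancel_right, inv_eq_of_mul_eq_one_right w2]
      refine ⟨h1 ▸ (M _).2.1, ?_, h2 ▸ (M _).2.2.2.1, ?_, (M _).2.2.2.2.1⟩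
      · rw [← h1, k]; exact (M _).1
      · rw [← h2, k]; exact (M _).2.2.1

theorem h_el (α β t u γ : F) :
    l.h * l.el α β t u γ * l.h⁻¹ = l.el (ω * α) (ω * β) (ω * t) (ω * u) (ω ^ 2 * γ) := by
  simp only [el, ← conj_mul, l.hact]

theorem ξ_el (α β t u γ : F) :
    l.ξ * l.el α β t u γ * l.ξ⁻¹ = l.el α β (ω * t) (ω ^ 2 * u) γ := by
  simp only [el, ← conj_mul, l.ξact, (l.ξcom.2.2.2 _).1.eq, (l.ξcom.2.2.2 _).2.1.eq,
    (l.ξcom.2.2.2 _).2.2.eq, mul_inv_cancel_right]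

theorem hξ_norm : l.h ∈ 𝐍[l.QA] ∧ l.h ∈ 𝐍[l.X] ∧ l.ξ ∈ 𝐍[l.QA] ∧ l.ξ ∈ 𝐂[l.X] := by
  refine ⟨norm_of_pow (n := 2) l.h3 (cj_le_iff.2 fun u hu => ?_),
    norm_of_pow (n := 2) l.h3 (cj_le_iff.2 ?_), norm_of_pow (n := 2) l.ξ3 (cj_le_iff.2 fun u hu => ?_),
    l.mem_cX.2 fun t => (l.ξcom.2.2.2 t).2.2.symm⟩
  · obtain ⟨_, _, _, _, _, rfl⟩ := l.mem_QA.1 hu
    rw [h_el]; exact l.el_mem _ _ _ _ _
  · rintro _ ⟨t, rfl⟩
    exact ⟨_, (l.hact t).2.2.1⟩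
  · obtain ⟨_, _, _, _, _, rfl⟩ := l.mem_QA.1 hu
    rw [ξ_el]; exact l.el_mem _ _ _ _ _

theorem el_sq (α β t u γ : F) : l.el α β t u γ * l.el α β t u γ = l.c (β * α + em m * (u * t)) := by
  simp only [el_mul, CharTwo.add_self_eq_zero, zero_add, (l.el_letters _).2.2.2.2]

theorem pg_QA : IsPGroup 2 l.QA := pg_iff.2 fun u hu => by
  obtain ⟨_, _, _, _, _, rfl⟩ := l.mem_QA.1 hu
  exact ⟨2, by rw [show 2 ^ 2 = 2 * 2 from rfl, pow_mul, sq, sq, el_sq, add_sq l.c_add]⟩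

theorem cen_QA {u : G} (hu : u ∈ l.QA) (h : u ∈ 𝐂[l.QA]) : u ∈ l.X := by
  obtain ⟨α, β, t, u, γ, rfl⟩ := l.mem_QA.1 hu
  have k : ∀ p q r s, α * q + β * p + em m * (t * s + u * r) = 0 := fun p q r s => by
    have := l.el_conj α β t u γ p q r s 0
    rw [← h _ (l.el_mem _ _ _ _ _), mul_inv_cancel_right] at this
    linear_combination -l.el_cancel this
  have h1 : α = 0 := by simpa using k 0 1 0 0
  have h2 : β = 0 := by simpa using k 1 0 0 0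
  have h3 : em m * t = 0 := by linear_combination k 0 0 0 1
  have h4 : em m * u = 0 := by linear_combination k 0 0 1 0
  exact ⟨γ, by rw [l.el_em, h1, h2, h3, h4, (l.el_letters γ).2.2.2.2]⟩

theorem comm_K {g k : G} (hg : g ∈ l.A) (hk : k ∈ l.K) : Commute g k := hk g hg

theorem eq_one_of_K {u : G} (hu : u ∈ l.QA) (h : u ∈ l.K) : u = 1 := by
  obtain ⟨t, rfl⟩ := l.cen_QA hu (cent_anti (l.QA_le_D.trans l.D_le_A) h)
  have := (l.hact t).2.2.1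
  rw [(l.comm_K l.mem'.2.2.2.1 h).eq, mul_inv_cancel_right, c_eq] at this
  obtain rfl : t = 0 := (by decide +kernel : ∀ t : F, t = ω ^ 2 * t → t = 0) t this
  exact add_zero' l.c_add

theorem cj_K {n k : G} (hn : n ∈ l.N) (hk : k ∈ l.K) : n * k * n⁻¹ ∈ l.K :=
  conj_mem_of_norm (norm_cent le_rfl hn) hk

theorem InT.conj {l : Lt m G} {u : G} (h : l.InT u) (g : G) : l.InT (g * u * g⁻¹) := by
  obtain ⟨n, hn⟩ := h
  exact ⟨n * g⁻¹, by simpa [mul_assoc] using hn⟩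

/-- The properties shared by `(a, b, n1)` and `(b, a, n2)`. -/
theorem Sl.facts {l : Lt m G} {a b : F → G} {n : G} (h : l.Sl a b n) :
    (∀ s t, a (s + t) = a s * a t) ∧ (∀ s t, b (s + t) = b s * b t) ∧
    (∀ s t, b t * a s * (b t)⁻¹ = a s * l.c (s * t)) ∧ (∀ t, a t ∈ l.QA ∧ b t ∈ l.QA) ∧
    (∀ s t, Commute (l.c s) (a t) ∧ Commute (l.c s) (b t)) ∧
    (∀ s t, a s * l.c t = 1 → s = 0 ∧ t = 0) ∧
    n ∈ l.A ∧ n * n = 1 ∧ (∀ t, n * a t * n = l.c t ∧ n * l.c t * n = a t) ∧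
    (∃ j : ℕ, n * l.h * n = l.h⁻¹ * l.ξ ^ j) ∧ Commute l.ξ n ∧
    (∀ t, Commute l.ξ (a t) ∧ Commute l.ξ (b t)) ∧
    ∀ t, l.h * a t * l.h⁻¹ = a (ω * t) ∧ l.h * b t * l.h⁻¹ = b (ω * t) := by
  have k : ∀ {n y z : G}, n * n = 1 → n * y * n = z → n * z * n = y := fun {n y z} w2 e => by
    rw [← e, ← mul_assoc, ← mul_assoc, w2, one_mul, mul_assoc, w2, mul_one]
  rcases h with ⟨rfl, rfl, rfl⟩ | ⟨rfl, rfl, rfl⟩
  · refine ⟨l.a_add, l.b_add, fun s t => ?_, fun t => ⟨(l.letters_mem t).1, (l.letters_mem t).2.1⟩,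
      fun s t => ⟨(l.cc s t).1, (l.cc s t).2.1⟩, fun s t e => ?_, l.mem'.1, l.nn.1,
      fun t => ⟨(l.nact t).1, k l.nn.1 (l.nact t).1⟩, l.nh.1, l.ξcom.1,
      fun t => ⟨(l.ξcom.2.2.2 t).1, (l.ξcom.2.2.2 t).2.1⟩, fun t => ⟨(l.hact t).1, (l.hact t).2.1⟩⟩
    · rw [ba, mul_assoc (l.a s), ← (l.cc _ _).2.1.eq, ← mul_assoc, mul_inv_cancel_right]
    · rw [(l.el_letters s).1, el_c, ← el_zero] at e
      simpa using l.el_inj e
  · refine ⟨l.b_add, l.a_add, fun s t => ?_, fun t => ⟨(l.letters_mem t).2.1, (l.letters_mem t).1⟩,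
      fun s t => ⟨(l.cc s t).2.1, (l.cc s t).1⟩, fun s t e => ?_, l.mem'.2.1, l.nn.2.1,
      fun t => ⟨(l.nact t).2, k l.nn.2.1 (l.nact t).2⟩, l.nh.2, l.ξcom.2.1,
      fun t => ⟨(l.ξcom.2.2.2 t).2.1, (l.ξcom.2.2.2 t).1⟩, fun t => ⟨(l.hact t).2.1, (l.hact t).1⟩⟩
    · rw [l.ab, mul_assoc (l.b s), ← (l.cc _ _).1.eq, ← mul_assoc, mul_inv_cancel_right, mul_comm t]
    · rw [(l.el_letters s).2.1, el_c, ← el_zero] at e
      simpa using l.el_inj e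

/-- An element centralising `X` and normalising `QA` preserves the commutator form. -/
theorem form {n : G} (hc : n ∈ 𝐂[l.X]) {α β t u γ α' β' t' u' γ' p q r s δ p' q' r' s' δ' : F}
    (h : n * l.el α β t u γ * n⁻¹ = l.el p q r s δ) (h' : n * l.el α' β' t' u' γ' * n⁻¹ = l.el p' q' r' s' δ') :
    p * q' + q * p' + em m * (r * s' + s * r') = α * β' + β * α' + em m * (t * u' + u * t') := by
  have e := congrArg (MulAut.conj n) (l.el_conj α β t u γ α' β' t' u' γ')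
  simp only [add_assoc γ', ← el_c] at e
  simp only [map_mul, map_inv] at e
  simp only [MulAut.conj_apply] at e
  rw [h, h', ← (l.mem_cX.1 hc _).eq, mul_inv_cancel_right, el_conj, el_c] at e
  linear_combination l.el_cancel e

theorem form_sq {n : G} (hc : n ∈ 𝐂[l.X]) {α β t u γ p q r s δ : F}
    (h : n * l.el α β t u γ * n⁻¹ = l.el p q r s δ) : q * p + em m * (s * r) = β * α + em m * (u * t) := by
  rw [← l.c_eq, ← el_sq, ← h, conj_mul, el_sq, ← (l.mem_cX.1 hc _).eq, mul_inv_cancel_right]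

theorem triv_of {n : G} (hc : n ∈ 𝐂[l.X]) (h : ∀ t, (∃ δ, n * l.a t * n⁻¹ = l.a t * l.c δ) ∧
    (∃ δ, n * l.b t * n⁻¹ = l.b t * l.c δ) ∧ (∃ δ, n * l.s1 t * n⁻¹ = l.s1 t * l.c δ) ∧
    ∃ δ, n * l.s2 t * n⁻¹ = l.s2 t * l.c δ) : ∀ u ∈ l.QA, n * u * n⁻¹ * u⁻¹ ∈ l.X := by
  intro u hu
  obtain ⟨α, β, t, u, γ, rfl⟩ := l.mem_QA.1 hu
  obtain ⟨_, h1⟩ := (h α).1
  obtain ⟨_, h2⟩ := (h β).2.1
  obtain ⟨_, h3⟩ := (h t).2.2.1
  obtain ⟨_, h4⟩ := (h u).2.2.2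
  rw [el, ← conj_mul, ← conj_mul, ← conj_mul, ← conj_mul, h1, h2, h3, h4, ← (l.mem_cX.1 hc _).eq,
    mul_inv_cancel_right, ← el, el_inv, (l.el_letters α).1, (l.el_letters β).2.1, (l.el_letters t).2.2.1,
    (l.el_letters u).2.2.2.1]
  simp only [el_c, el_mul, add_zero, zero_add, CharTwo.add_self_eq_zero]
  exact ⟨_, (l.el_letters _).2.2.2.2.symm⟩

variable {l} [Finite G]

theorem KF.k3 (k : l.KF) {n : G} (hn : n ∈ l.N) (h : n ∈ 𝐂[l.QA]) : ∃ t, l.c t * n ∈ l.K := by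
  obtain ⟨u, hu, hk⟩ := k.k6 n hn (cent_anti l.X_le_QA h) fun u hu => by
    rw [← h u hu, mul_inv_cancel_right, mul_inv_cancel]; exact one_mem _
  obtain ⟨t, rfl⟩ := l.cen_QA hu (by
    simpa using mul_mem h (inv_mem (cent_anti (l.QA_le_D.trans l.D_le_A) hk)))
  exact ⟨t, by rwa [add_inv l.c_add] at hk⟩

theorem KF.img (k : l.KF) {n : G} (hn : n ∈ l.N) (hc : n ∈ 𝐂[l.X]) (α β t u γ : F) :
    ∃ p q r s δ, n * l.el α β t u γ * n⁻¹ = l.el p q r s δ :=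
  l.mem_QA.1 (conj_mem_of_norm (k.k2 n hn (cent_le_norm _ hc)) (l.el_mem _ _ _ _ _))

theorem KF.k4 (k : l.KF) {a b : F → G} {n' : G} (hs : l.Sl a b n') {n : G} (hn : n ∈ l.N)
    (ha : ∀ t, Commute n (a t)) (hc : ∀ t, Commute n (l.c t)) (hξ : Commute n l.ξ) :
    ∃ α γ, ∃ j : ℕ, (a α * l.c γ * l.ξ ^ j)⁻¹ * n ∈ l.K := by
  have hX : n ∈ 𝐂[l.X] := l.mem_cX.2 fun t => (hc t).symm
  have eqv : ∀ {α β t u γ p q r s δ}, n * l.el α β t u γ * n⁻¹ = l.el p q r s δ →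
      n * l.el α β (ω * t) (ω ^ 2 * u) γ * n⁻¹ = l.el p q (ω * r) (ω ^ 2 * s) δ := fun h => by
    rw [← l.ξ_el, ← l.ξ_el, ← h, ← mul_assoc, ← mul_assoc, hξ.eq, mul_assoc _ l.ξ⁻¹, ← hξ.inv_inv.eq]
    group
  have U : ∀ α β, ∃ p q δ, n * l.el α β 0 0 0 * n⁻¹ = l.el p q 0 0 δ := fun α β => by
    obtain ⟨p, q, r, s, δ, e⟩ := k.img hn hX α β 0 0 0
    have e' := eqv e
    rw [mul_zero, mul_zero, e] at e'
    obtain ⟨-, -, h1, h2, -⟩ := l.el_inj e'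
    have z : ∀ e r s : F, e * r = e * (ω * r) → e * s = e * (ω ^ 2 * s) → e * r = 0 ∧ e * s = 0 := by
      decide +kernel
    exact ⟨p, q, δ, by rw [e, l.el_em, (z _ _ _ h1 h2).1, (z _ _ _ h1 h2).2]⟩
  have L := l.el_letters
  have hab : ∀ t, (∃ δ, n * l.el t 0 0 0 0 * n⁻¹ = l.el t 0 0 0 δ) ∧
      ∃ δ, n * l.el 0 t 0 0 0 * n⁻¹ = l.el 0 t 0 0 δ := fun t => by
    have z : ∀ t p q : F, q = t → q * p = 0 → (t = 0 → p = 0) → p = 0 := by decide +kernel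
    rcases hs with ⟨rfl, -, -⟩ | ⟨rfl, -, -⟩
    · have a1 : ∀ t, n * l.el t 0 0 0 0 * n⁻¹ = l.el t 0 0 0 0 := fun t => by
        rw [← (L t).1, (ha t).eq, mul_inv_cancel_right]
      obtain ⟨p, q, δ, e⟩ := U 0 t
      have h1 : q = t := by simpa using l.form hX (a1 1) e
      obtain rfl : p = 0 := z t p q h1 (by simpa using l.form_sq hX e) fun h => by
        rw [h, l.el_zero, mul_one, mul_inv_cancel, ← l.el_zero] at e
        exact (l.el_inj e).1.symm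
      exact ⟨⟨0, a1 t⟩, δ, h1 ▸ e⟩
    · have a1 : ∀ t, n * l.el 0 t 0 0 0 * n⁻¹ = l.el 0 t 0 0 0 := fun t => by
        rw [← (L t).2.1, (ha t).eq, mul_inv_cancel_right]
      obtain ⟨p, q, δ, e⟩ := U t 0
      have h1 : p = t := by simpa using l.form hX (a1 1) e
      obtain rfl : q = 0 := z t q p h1 (by simpa [mul_comm] using l.form_sq hX e) fun h => by
        rw [h, l.el_zero, mul_one, mul_inv_cancel, ← l.el_zero] at e
        exact (l.el_inj e).2.1.symm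
      exact ⟨⟨δ, h1 ▸ e⟩, 0, a1 t⟩
  have S : ∀ t u, ∃ r s δ, n * l.el 0 0 t u 0 * n⁻¹ = l.el 0 0 r s δ := fun t u => by
    obtain ⟨p, q, r, s, δ, e⟩ := k.img hn hX 0 0 t u 0
    obtain ⟨⟨_, a1⟩, _, b1⟩ := hab 1
    obtain rfl : q = 0 := by simpa using l.form hX a1 e
    obtain rfl : p = 0 := by simpa using l.form hX b1 e
    exact ⟨r, s, δ, e⟩
  obtain ⟨j, hj⟩ : ∃ j : ℕ, ∀ t u, ∃ δ, n * l.el 0 0 t u 0 * n⁻¹ =
      l.el 0 0 (ω ^ j * t) ((ω ^ 2) ^ j * u) δ := by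
    cases m
    · have z : ∀ t u, l.el 0 0 t u 0 = 1 := fun t u => by rw [l.el_em]; simp [em, l.el_zero]
      exact ⟨0, fun t u => ⟨0, by simp [z]⟩⟩
    · obtain ⟨p, q, _, e1⟩ := S 1 0
      obtain ⟨p', q', _, e2⟩ := S 0 1
      have z : ∀ p q p' q' : F, p * q' + q * p' = 1 → ω * p * q' + ω ^ 2 * q * p' = ω → q * p = 0 →
          q' * p' = 0 → q = 0 ∧ p' = 0 ∧ ∃ j < 3, p = ω ^ j ∧ q' = (ω ^ 2) ^ j := by decide +kernel
      obtain ⟨rfl, rfl, j, -, rfl, rfl⟩ := z p q p' q' (by simpa [em] using l.form hX e1 e2)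
        (by simpa [em] using l.form hX (eqv e1) e2) (by simpa [em] using l.form_sq hX e1)
        (by simpa [em] using l.form_sq hX e2)
      refine ⟨j, fun t u => ?_⟩
      obtain ⟨r, s, δ, e⟩ := S t u
      have h1 : ω ^ j * s = u := by simpa [em] using l.form hX e1 e
      have h2 : (ω ^ 2) ^ j * r = t := by simpa [em] using l.form hX e2 e
      have h3 : ω ^ j * (ω ^ 2) ^ j = 1 := by rw [← mul_pow, ← pow_succ', ω_cube, one_pow]
      refine ⟨δ, e.trans ?_⟩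
      rw [← h1, ← h2, ← mul_assoc, ← mul_assoc, h3, mul_comm _ (ω ^ j), h3, one_mul, one_mul]
  have ξp : ∀ (i : ℕ) α β t u γ, l.ξ ^ i * l.el α β t u γ * (l.ξ ^ i)⁻¹ =
      l.el α β (ω ^ i * t) ((ω ^ 2) ^ i * u) γ := fun i α β t u γ => by
    induction i with
    | zero => simp
    | succ i ih =>
      rw [pow_succ', mul_inv_rev, ← mul_assoc, mul_assoc l.ξ, mul_assoc l.ξ, ih, ξ_el, pow_succ' ω i,
        pow_succ' (ω ^ 2) i, mul_assoc, mul_assoc]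
  have ξA := pow_mem l.mem'.2.2.2.2 j
  have T : ∀ {α β t u δ}, n * l.el α β t u 0 * n⁻¹ = l.el α β (ω ^ j * t) ((ω ^ 2) ^ j * u) δ →
      (l.ξ ^ j)⁻¹ * n * l.el α β t u 0 * ((l.ξ ^ j)⁻¹ * n)⁻¹ = l.el α β t u 0 * l.c δ := fun {α β t u _} h => by
    rw [← ξp] at h
    rw [el_c, zero_add]
    calc _ = (l.ξ ^ j)⁻¹ * (n * l.el α β t u 0 * n⁻¹) * l.ξ ^ j := by group
      _ = _ := by rw [h]; group
  obtain ⟨u, hu, hk⟩ := k.k6 _ (mul_mem (inv_mem (le_normalizer ξA)) hn)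
    (mul_mem (inv_mem (pow_mem l.hξ_norm.2.2.2 j)) hX) (l.triv_of
      (mul_mem (inv_mem (pow_mem l.hξ_norm.2.2.2 j)) hX) fun t => by
      rw [(L t).1, (L t).2.1, (L t).2.2.1, (L t).2.2.2.1]
      obtain ⟨⟨_, a1⟩, _, b1⟩ := hab t
      obtain ⟨_, c1⟩ := hj t 0
      obtain ⟨_, d1⟩ := hj 0 t
      exact ⟨⟨_, T (by simpa using a1)⟩, ⟨_, T (by simpa using b1)⟩, ⟨_, T c1⟩, ⟨_, T d1⟩⟩)
  have cu : ∀ y ∈ l.A, Commute n y → Commute l.ξ y → Commute u y := fun y hy h1 h2 => by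
    have := ((h2.pow_left j).inv_left.mul_left h1).mul_left (l.comm_K hy hk).symm.inv_left
    simpa [mul_assoc] using this
  obtain ⟨α, β, t, s, γ, rfl⟩ := l.mem_QA.1 hu
  have e := l.ξ_el α β t s γ
  rw [← (cu _ l.mem'.2.2.2.2 hξ (Commute.refl _)).eq, mul_inv_cancel_right] at e
  obtain ⟨-, -, h1, h2, -⟩ := l.el_inj e
  have z : ∀ e r s : F, e * r = e * (ω * r) → e * s = e * (ω ^ 2 * s) → e * r = 0 ∧ e * s = 0 := by
    decide +kernel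
  rw [l.el_em, (z _ _ _ h1 h2).1, (z _ _ _ h1 h2).2] at hk cu
  have fin : ∀ y, y = l.el α β 0 0 γ → (y * l.ξ ^ j)⁻¹ * n ∈ l.K := by
    rintro _ rfl
    have : Commute (l.el α β 0 0 γ) (l.ξ ^ j) := (cu _ l.mem'.2.2.2.2 hξ (Commute.refl _)).pow_right j
    rwa [this.eq, mul_inv_rev, mul_assoc]
  have e1 := cu _ (l.D_le_A (l.QA_le_D (hs.facts.2.2.2.1 1).1)) (ha 1) (hs.facts.2.2.2.2.2.2.2.2.2.2.2.1 1).1
  rcases hs with ⟨rfl, -, -⟩ | ⟨rfl, -, -⟩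
  · have := l.el_conj α β 0 0 γ 1 0 0 0 0
    rw [← (L 1).1, e1.eq, mul_inv_cancel_right, (L 1).1] at this
    obtain rfl : β = 0 := by simpa [eq_comm] using l.el_cancel this
    exact ⟨α, γ, j, fin _ (by rw [(L α).1, el_c, zero_add])⟩
  · have := l.el_conj α β 0 0 γ 0 1 0 0 0
    rw [← (L 1).2.1, e1.eq, mul_inv_cancel_right, (L 1).2.1] at this
    obtain rfl : α = 0 := by simpa [eq_comm] using l.el_cancel this
    exact ⟨β, γ, j, fin _ (by rw [(L β).2.1, el_c, zero_add])⟩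

set_option synthInstance.maxSize 2000 in
theorem KF.diag {l : Lt false G} (k : l.KF) {n : G} (hn : n ∈ l.N) (hc : n ∈ 𝐂[l.X]) :
    ∃ κ : F, κ ≠ 0 ∧ ((∀ s, (∃ t, n * l.a s * n⁻¹ = l.a (κ * s) * l.c t) ∧
        ∃ t, n * l.b s * n⁻¹ = l.b (κ ^ 2 * s) * l.c t) ∨
      ∀ s, (∃ t, n * l.a s * n⁻¹ = l.b (κ * s) * l.c t) ∧
        ∃ t, n * l.b s * n⁻¹ = l.a (κ ^ 2 * s) * l.c t) := by
  have U : ∀ α β, ∃ p q δ, n * l.el α β 0 0 0 * n⁻¹ = l.el p q 0 0 δ := fun α β => by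
    obtain ⟨p, q, r, s, δ, e⟩ := k.img hn hc α β 0 0 0
    exact ⟨p, q, δ, by rw [e, l.el_em]; simp [em]⟩
  choose p q δ e using fun s => U s 0
  choose p' q' δ' e' using fun s => U 0 s
  have z : ∀ s p1 q1 p1' q1' p q p' q' : F, q1 * p1 = 0 → q1' * p1' = 0 → p1 * q1' + q1 * p1' = 1 →
      p1 * q + q1 * p = 0 → p * q1' + q * p1' = s → p1 * q' + q1 * p' = s → p1' * q' + q1' * p' = 0 →
      p1 + q1 ≠ 0 ∧ (q1 = 0 → p = (p1 + q1) * s ∧ q = 0 ∧ p' = 0 ∧ q' = (p1 + q1) ^ 2 * s) ∧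
        (q1 ≠ 0 → p = 0 ∧ q = (p1 + q1) * s ∧ p' = (p1 + q1) ^ 2 * s ∧ q' = 0) := by
    intro s p1 q1 p1' q1' p q p' q' h1 h2 h3 h4 h5 h6 h7
    have z1 : ∀ p1 q1 p1' q1' : F, q1 * p1 = 0 → q1' * p1' = 0 → p1 * q1' + q1 * p1' = 1 → ∀ s p q : F,
        p1 * q + q1 * p = 0 → p * q1' + q * p1' = s → p1 + q1 ≠ 0 ∧ (q1 = 0 → p = (p1 + q1) * s ∧ q = 0) ∧
          (q1 ≠ 0 → p = 0 ∧ q = (p1 + q1) * s) := by decide +kernel
    have z2 : ∀ p1 q1 p1' q1' : F, q1 * p1 = 0 → q1' * p1' = 0 → p1 * q1' + q1 * p1' = 1 → ∀ s p' q' : F,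
        p1 * q' + q1 * p' = s → p1' * q' + q1' * p' = 0 → (q1 = 0 → p' = 0 ∧ q' = (p1 + q1) ^ 2 * s) ∧
          (q1 ≠ 0 → p' = (p1 + q1) ^ 2 * s ∧ q' = 0) := by decide +kernel
    have a := z1 _ _ _ _ h1 h2 h3 s p q h4 h5
    have b := z2 _ _ _ _ h1 h2 h3 s p' q' h6 h7
    exact ⟨a.1, fun h => ⟨(a.2.1 h).1, (a.2.1 h).2, b.1 h⟩, fun h => ⟨(a.2.2 h).1, (a.2.2 h).2, b.2 h⟩⟩
  have Z := fun s => z s (p 1) (q 1) (p' 1) (q' 1) (p s) (q s) (p' s) (q' s)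
    (by simpa using l.form_sq hc (e 1)) (by simpa using l.form_sq hc (e' 1))
    (by simpa using l.form hc (e 1) (e' 1)) (by simpa using l.form hc (e 1) (e s))
    (by simpa using l.form hc (e s) (e' 1)) (by simpa using l.form hc (e 1) (e' s))
    (by simpa using l.form hc (e' 1) (e' s))
  refine ⟨_, (Z 0).1, ?_⟩
  simp only [(l.el_letters _).1, (l.el_letters _).2.1, el_c, zero_add, e, e']
  by_cases h : q 1 = 0
  · exact .inl fun s => by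
      obtain ⟨h1, h2, h3, h4⟩ := (Z s).2.1 h
      exact ⟨⟨_, by rw [← h1, h2]⟩, _, by rw [← h4, h3]⟩
  · exact .inr fun s => by
      obtain ⟨h1, h2, h3, h4⟩ := (Z s).2.2 h
      exact ⟨⟨_, by rw [← h2, h1]⟩, _, by rw [← h3, h4]⟩

end Lt

namespace Cfg

variable (f : Cfg m G)

theorem mem_R {g : G} : g ∈ f.R ↔ ∃ s, g = f.r s := Iff.rfl
theorem r_K (s : F) : f.r s ∈ f.K := f.syl.le ⟨s, rfl⟩
theorem r_comm {g : G} (hg : g ∈ f.A) (s : F) : Commute g (f.r s) := f.comm_K hg (f.r_K s)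
theorem rq_inj {s s' : F} {u u' : G} (hu : u ∈ f.QA) (hu' : u' ∈ f.QA) (h : f.r s * u = f.r s' * u') :
    s = s' ∧ u = u' := by
  have e : f.r (s' + s) = u' * u⁻¹ := by
    rw [f.r_add, eq_mul_inv_iff_mul_eq, mul_assoc, h, ← mul_assoc, add_sq f.r_add, one_mul]
  have e1 := f.eq_one_of_K (mul_mem hu' (inv_mem hu)) (e ▸ f.r_K _)
  exact ⟨(CharTwo.add_eq_zero.1 (f.r_inj _ (e.trans e1))).symm, (mul_inv_eq_one.1 e1).symm⟩
theorem mem_N {n : G} {s : F} (hs : s ≠ 0) (h : n * f.r s * n⁻¹ ∈ f.K) : n ∈ f.N :=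
  f.ti _ (f.r_K s) (add_sq f.r_add s) (fun e => hs (f.r_inj s e)) n h

theorem to_c {a b : F → G} {n : G} (hs : f.Sl a b n) {α : F} (h : α ≠ 0) (γ : F) :
    ∃ g ∈ f.A, g * (a α * f.c γ) * g⁻¹ = f.c α := by
  obtain ⟨-, -, h1, h2, h3, -, h4, h5, h6, -⟩ := hs.facts
  refine ⟨n * b (γ / α), mul_mem h4 (f.D_le_A (f.QA_le_D (h2 _).2)), ?_⟩
  rw [mul_inv_rev, ← mul_assoc, mul_assoc n, mul_assoc n, ← conj_mul (b := b _), h1, ← (h3 _ _).2.eq,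
    mul_inv_cancel_right, mul_div_cancel₀ _ h, mul_assoc (a α), add_sq f.c_add, mul_one,
    inv_eq_of_mul_eq_one_right h5, (h6 α).1]

theorem not_inT {a b : F → G} {n : G} (hs : f.Sl a b n) {α γ : F} (h : α ≠ 0 ∨ γ ≠ 0) :
    ¬ f.InT (a α * f.c γ) := fun hT => by
  by_cases h0 : α = 0
  · rw [h0, add_zero' hs.facts.1, one_mul] at hT
    exact f.long γ (h.resolve_left (not_not.2 h0)) hT
  · obtain ⟨g, -, e⟩ := f.to_c hs h0 γ
    exact f.long α h0 (e ▸ hT.conj g)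

variable [Finite G]

theorem exists_cj (μ : F) : ∃ n ∈ 𝐍[f.X], ∀ s, n⁻¹ * (f.r s * f.c (μ * s)) * n ∈ f.K := by
  have h1 : ∀ s, f.g⁻¹ * (f.r s * f.c s) * f.g ∈ f.K := fun s => by
    choose φ e using f.g_r
    obtain ⟨s, rfl⟩ := Finite.surjective_of_injective (f := φ) (fun s t h => by
      have : f.r (s + t) = 1 := by
        rw [f.r_add, ← conj_eq_one_iff (a := f.g), ← conj_mul, e, h, ← e, conj_mul, add_sq f.r_add]
        group
      exact CharTwo.add_eq_zero.1 (f.r_inj _ this)) s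
    simpa [← e, mul_assoc] using f.r_K s
  have h2 : ∀ μ, (∃ n ∈ 𝐍[f.X], ∀ s, n⁻¹ * (f.r s * f.c (μ * s)) * n ∈ f.K) →
      ∃ n ∈ 𝐍[f.X], ∀ s, n⁻¹ * (f.r s * f.c (ω ^ 2 * μ * s)) * n ∈ f.K := fun μ ⟨n, hn, h⟩ =>
    ⟨f.h * n, mul_mem f.hξ_norm.2.1 hn, fun s => by
      rw [mul_assoc (ω ^ 2), ← (f.hact _).2.2.1, ← mul_inv_cancel_right (f.r s) f.h,
        ← (f.r_comm f.mem'.2.2.2.1 s).eq, conj_mul]
      simpa [mul_assoc] using h s⟩
  have h3 : ∃ n ∈ 𝐍[f.X], ∀ s, n⁻¹ * (f.r s * f.c (1 * s)) * n ∈ f.K := ⟨_, f.g_X, by simpa using h1⟩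
  rcases F_cases μ with rfl | rfl | rfl | rfl
  · exact ⟨1, one_mem _, fun s => by simpa [add_zero' f.c_add] using f.r_K s⟩
  · exact h3
  · have := h2 _ (h2 _ h3)
    rwa [show ω ^ 2 * (ω ^ 2 * 1) = ω by decide +kernel] at this
  · simpa using h2 _ h3

theorem inT {a b : F → G} {n : G} (hs : f.Sl a b n) {s : F} (h : s ≠ 0) (α γ : F) :
    f.InT (f.r s * a α * f.c γ) := by
  have k : ∀ t, f.InT (f.r s * f.c t) := fun t => by
    obtain ⟨n, -, hn⟩ := f.exists_cj (t / s)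
    exact ⟨n⁻¹, by simpa [div_mul_cancel₀ _ h] using hn s⟩
  by_cases h0 : α = 0
  · rw [h0, add_zero' hs.facts.1, mul_one]
    exact k γ
  · obtain ⟨g, hg, e⟩ := f.to_c hs h0 γ
    have := (k α).conj g⁻¹
    rw [← e, ← mul_inv_cancel_right (f.r s) g, ← (f.r_comm hg s).eq, conj_mul] at this
    simpa [mul_assoc] using this

theorem lin {u : G} (h : ∀ s, ∃ t, u * f.r s * u⁻¹ = f.r s * f.c t) :
    ∃ μ, ∀ s, u * f.r s * u⁻¹ = f.r s * f.c (μ * s) := by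
  obtain ⟨μ, e⟩ := h 1
  obtain ⟨n, -, hn⟩ := f.exists_cj μ
  have hN : n⁻¹ * u ∈ f.N := f.mem_N one_ne_zero (by
    have := hn 1
    rw [mul_one, ← e] at this
    simpa [mul_assoc] using this)
  refine ⟨μ, fun s => ?_⟩
  obtain ⟨t, e⟩ := h s
  have h1 : n⁻¹ * (f.r s * f.c t) * n ∈ f.K := by simpa [← e, mul_assoc] using f.cj_K hN (f.r_K s)
  rw [e, ← CharTwo.add_eq_zero.1 (by_contra fun h0 => f.long (μ * s + t) h0 ⟨n⁻¹, ?_⟩)]
  have := mul_mem (inv_mem (hn s)) h1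
  rw [f.c_add, ← add_inv f.c_add (μ * s)]
  simpa [mul_assoc] using this

theorem mem_R_of {k : G} (hk : k ∈ f.K) (hc : k ∈ 𝐂[f.R]) (h2 : ∃ j : ℕ, k ^ 2 ^ j = 1) : k ∈ f.R := by
  obtain ⟨j, e⟩ := h2
  have hp : IsPGroup 2 (zpowers k) := pg_iff.2 (by
    rintro _ ⟨i, rfl⟩
    exact ⟨j, by rw [← zpow_natCast, ← zpow_mul, mul_comm, zpow_mul, zpow_natCast, e, one_zpow]⟩)
  exact f.syl.le_of_norm' hp (zpowers_le.2 hk) (zpowers_le.2 (cent_le_norm _ hc)) (mem_zpowers k)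

theorem sq_of_K {k : G} (hk : k ∈ f.K) (h2 : ∃ j : ℕ, k ^ 2 ^ j = 1) : k * k = 1 := by
  obtain ⟨j, e⟩ := h2
  have hp : IsPGroup 2 (zpowers k) := pg_iff.2 (by
    rintro _ ⟨i, rfl⟩
    exact ⟨j, by rw [← zpow_natCast, ← zpow_mul, mul_comm, zpow_mul, zpow_natCast, e, one_zpow]⟩)
  obtain ⟨g, -, hg⟩ := f.syl.conj_le hp (zpowers_le.2 hk)
  obtain ⟨s, e⟩ := hg (conj_mem_cj (mem_zpowers k))
  rw [← conj_eq_one_iff (a := g), ← conj_mul, e, add_sq f.r_add]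

theorem cenK {k : G} (hk : k ∈ f.K) (hc : k ∈ 𝐂[f.R]) :
    ∃ s o, o ∈ f.K ∧ o ∈ 𝐂[f.R] ∧ Odd (orderOf o) ∧ o ∈ zpowers k ∧ k = f.r s * o := by
  obtain ⟨i, j, hj, e⟩ := Nat.exists_eq_two_pow_mul_odd (orderOf_pos k).ne'
  obtain ⟨s, hs⟩ := f.mem_R_of (pow_mem hk j) (pow_mem hc j)
    ⟨i, by rw [← pow_mul, mul_comm, ← e, pow_orderOf_eq_one]⟩
  have h2 : k ^ j * k ^ j = 1 := hs ▸ add_sq f.r_add s
  refine ⟨s, k ^ (j + 1), pow_mem hk _, pow_mem hc _, hj.of_dvd_nat (orderOf_dvd_of_pow_eq_one ?_),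
    pow_mem (mem_zpowers k) _, by rw [← hs, pow_succ, ← mul_assoc, h2, one_mul]⟩
  obtain ⟨n, hn⟩ := hj.add_one
  rw [← pow_mul, mul_comm, pow_mul, hn, ← two_mul, pow_mul, sq, h2, one_pow]

end Cfg

end Cfsg.Agent.STA
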