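import Mathlib
import Cfsg.Prelude.Def_Local
import Cfsg.Agent.STA.LBasic

/-! Standard subgroups with letters: the data for the analysis of a pair of conjugates of `C(A)`. -/

set_option autoImplicit false

namespace Cfsg.Agent.STA

open Cfsg Cfsg.Agent.Loc.Mss Subgroup

variable {m : Bool} {G : Type*} [Group G]

/-- A Sylow 2-subgroup of `A`. -/
def Lt.U (l : Lt m G) : Subgroup G := l.QA ⊔ rg l.x l.x_add

/-- `t` acts on `A` as a long root element. -/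
def Lt.Long (l : Lt m G) (t : G) : Prop := ∃ n ∈ l.N, ∃ δ, δ ≠ 0 ∧ ∃ k ∈ l.K, n * t * n⁻¹ = k * l.c δ

/-- `t` acts on `A` as an element of `QA`. -/
def Lt.QK (l : Lt m G) (t : G) : Prop := ∃ u ∈ l.QA, u⁻¹ * t ∈ l.K

/-- `t` interchanges the letters `a` and `b` modulo `X`. -/
def Lt.Sw (l : Lt m G) (t : G) : Prop :=
  ∃ κ : F, κ ≠ 0 ∧ ∀ s, (∃ δ, t * l.a s * t⁻¹ = l.b (κ * s) * l.c δ) ∧ ∃ δ, t * l.b s * t⁻¹ = l.a (κ ^ 2 * s) * l.c δ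

structure Std (m : Bool) (G : Type*) [Group G] extends Lt m G where
  kf : toLt.KF
  z2 : ∀ k ∈ A, k ∈ toLt.K → k ^ 3 = 1 ∧ (m = true → k = 1)
  cen : ∀ g ∈ A, Commute g (c 1) → ∃ d ∈ toLt.D, d⁻¹ * g ∈ toLt.K
  syl : Syl 2 toLt.U toLt.D
  gen : ∀ P : Subgroup G, toLt.D ≤ P → n1 ∈ P → n2 ∈ P → A ≤ P
  std : IsStandardSubgroup A
  four : ∃ p ∈ toLt.K, ∃ q ∈ toLt.K, p * p = 1 ∧ q * q = 1 ∧ Commute p q ∧ p ≠ 1 ∧ q ≠ 1 ∧ p ≠ q

/-- An involution of another conjugate of `K` normalising `A`. -/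
structure Std.Pair (s : Std m G) (g t : G) : Prop where
  not : g ∉ s.N
  mem : t ∈ cj(g, s.K)
  norm : t ∈ s.N
  sq : t * t = 1
  ne : t ≠ 1

end Cfsg.Agent.STA
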