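import Mathlib
import Cfsg.Agent.STA.P1Defs
import Cfsg.Agent.ABG.Tools
import Cfsg.Agent.S1910

/-! Basic facts for the analysis of a pair of conjugates of `C(A)`. -/

set_option autoImplicit false
set_option linter.unusedSectionVars false

namespace Cfsg.Agent.STA

open Cfsg Cfsg.Agent.Loc.Mss Subgroup

variable {m : Bool} {G : Type*} [Group G] [Finite G]

namespace P1A

theorem pg_zpowers {k : G} (h2 : ∃ j : ℕ, k ^ 2 ^ j = 1) : IsPGroup 2 (zpowers k) := pg_iff.2 (by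
  obtain ⟨j, e⟩ := h2
  rintro _ ⟨i, rfl⟩
  exact ⟨j, by rw [← zpow_natCast, ← zpow_mul, mul_comm, zpow_mul, zpow_natCast, e, one_zpow]⟩)

theorem not_odd {K : Subgroup G} {k : G} (hk : k ∈ K) (h2 : k * k = 1) (h1 : k ≠ 1) : ¬ Odd (Nat.card K) :=
  Nat.not_odd_iff_even.2 (even_iff_two_dvd.2
    (orderOf_eq_prime (p := 2) (by rwa [sq]) h1 ▸ K.orderOf_dvd_natCard hk))

theorem eq_one_of_two {K : Subgroup G} (h : ∀ k ∈ K, k * k = 1 → k = 1) {k : G} (hk : k ∈ K)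
    (h2 : ∃ j : ℕ, k ^ 2 ^ j = 1) : k = 1 := by
  obtain ⟨j, e⟩ := h2
  induction j with
  | zero => simpa using e
  | succ j ih => exact ih (h _ (pow_mem hk _) (by rw [← sq, ← pow_mul, ← pow_succ, e]))

theorem sq_conj {t n : G} (h : t * t = 1) : n * t * n⁻¹ * (n * t * n⁻¹) = 1 := by
  rw [conj_mul, h, mul_one, mul_inv_cancel]

end P1A

open P1A

namespace Lt

variable (l : Lt m G)

theorem to_c' {a b : F → G} {n : G} (hs : l.Sl a b n) {α : F} (h : α ≠ 0) (γ : F) :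
    ∃ g ∈ l.A, g * (a α * l.c γ) * g⁻¹ = l.c α := by
  obtain ⟨-, -, h1, h2, h3, -, h4, h5, h6, -⟩ := hs.facts
  refine ⟨n * b (γ / α), mul_mem h4 (l.D_le_A (l.QA_le_D (h2 _).2)), ?_⟩
  rw [mul_inv_rev, ← mul_assoc, mul_assoc n, mul_assoc n, ← conj_mul (b := b _), h1, ← (h3 _ _).2.eq,
    mul_inv_cancel_right, mul_div_cancel₀ _ h, mul_assoc (a α), add_sq l.c_add, mul_one,
    inv_eq_of_mul_eq_one_right h5, (h6 α).1]

theorem mem_AK {g : G} : g ∈ l.A ⊔ l.K ↔ ∃ a ∈ l.A, a⁻¹ * g ∈ l.K := by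
  rw [mem_sup_norm (cent_le_norm _)]
  exact ⟨by rintro ⟨a, ha, k, hk, rfl⟩; exact ⟨a, ha, by simpa using hk⟩,
    fun ⟨a, ha, h⟩ => ⟨a, ha, _, h, mul_inv_cancel_left a g⟩⟩

theorem cj_AK {g n : G} (hn : n ∈ l.N) : n * g * n⁻¹ ∈ l.A ⊔ l.K ↔ g ∈ l.A ⊔ l.K :=
  (mem_normalizer_iff.1 (norm_sup le_rfl (norm_cent le_rfl) hn) g).symm

theorem cj_K_iff {g n : G} (hn : n ∈ l.N) : n * g * n⁻¹ ∈ l.K ↔ g ∈ l.K :=
  (mem_normalizer_iff.1 (norm_cent le_rfl hn) g).symm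

theorem mem_U {u : G} : u ∈ l.U ↔ ∃ q ∈ l.QA, ∃ τ, u = q * l.x τ := by
  rw [U, mem_sup_norm (by rintro _ ⟨t, rfl⟩; exact l.D_le_norm (l.letters_mem t).2.2.2.2.2.1)]
  exact ⟨by rintro ⟨q, hq, _, ⟨τ, rfl⟩, rfl⟩; exact ⟨q, hq, τ, rfl⟩,
    by rintro ⟨q, hq, τ, rfl⟩; exact ⟨q, hq, _, ⟨τ, rfl⟩, rfl⟩⟩

theorem U_le_D : l.U ≤ l.D := sup_le l.QA_le_D (by rintro _ ⟨t, rfl⟩; exact (l.letters_mem t).2.2.2.2.2.1)

theorem x_el (hm : m = true) (τ α β t u γ : F) : ∃ δ, l.x τ * l.el α β t u γ * (l.x τ)⁻¹ =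
    l.el (α + τ ^ 3 * β + τ ^ 2 * t + τ * u) β (t + τ * β) (u + τ ^ 2 * β) δ := by
  have L := l.el_letters
  rw [el, ← conj_mul, ← conj_mul, ← conj_mul, ← conj_mul, (l.xact hm τ β).1, (l.xact hm τ t).2.1,
    (l.xact hm τ u).2.2, ← (l.com _ _).2.2.2.2.eq, ← (l.cc _ _).2.2.2.2.1.eq, mul_inv_cancel_right,
    mul_inv_cancel_right]
  simp only [(L _).1, (L _).2.1, (L _).2.2.1, (L _).2.2.2.1, (L _).2.2.2.2, el_mul, add_zero, zero_add]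
  exact ⟨_, by rw [add_comm t, add_comm u]⟩

theorem comm_onto {u : G} (hu : u ∈ l.QA) (h : u ∉ l.X) (δ : F) : ∃ w ∈ l.QA, w * u * w⁻¹ = u * l.c δ := by
  obtain ⟨α, β, t, s, γ, rfl⟩ := l.mem_QA.1 hu
  have z : ∀ e α β t s δ : F, (α = 0 ∧ β = 0 ∧ e * t = 0 ∧ e * s = 0) ∨ ∃ k, k * β = δ ∨ α * k = δ ∨
      e * (k * s) = δ ∨ e * (k * t) = δ := by decide +kernel
  rcases z (em m) α β t s δ with ⟨rfl, rfl, h3, h4⟩ | ⟨k, e | e | e | e⟩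
  · exact absurd ⟨γ, by rw [l.el_em, h3, h4, (l.el_letters γ).2.2.2.2]⟩ h
  · exact ⟨_, l.el_mem k 0 0 0 0, by simp [el_conj, el_c, e]⟩
  · exact ⟨_, l.el_mem 0 k 0 0 0, by simp [el_conj, el_c, ← e, mul_comm]⟩
  · exact ⟨_, l.el_mem 0 0 k 0 0, by simp [el_conj, el_c, e]⟩
  · exact ⟨_, l.el_mem 0 0 0 k 0, by simp [el_conj, el_c, e]⟩

theorem comm_X {u w : G} (hu : u ∈ l.QA) (hw : w ∈ l.QA) : ∃ δ, w * u * w⁻¹ = u * l.c δ := by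
  obtain ⟨_, _, _, _, _, rfl⟩ := l.mem_QA.1 hu
  obtain ⟨_, _, _, _, _, rfl⟩ := l.mem_QA.1 hw
  exact ⟨_, by rw [el_conj, el_c, add_assoc, add_assoc]⟩

theorem card_X : Nat.card l.X = 4 :=
  (Nat.card_congr (Equiv.ofBijective (fun t : F => (⟨l.c t, t, rfl⟩ : l.X))
    ⟨fun _ _ h => l.c_eq.1 (congrArg Subtype.val h), by rintro ⟨_, t, rfl⟩; exact ⟨t, rfl⟩⟩)).symm.trans card_F

theorem card_QA : Nat.card l.QA = if m then 1024 else 64 := by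
  cases m
  · refine (Nat.card_congr (Equiv.ofBijective (fun p : F × F × F =>
      (⟨l.el p.1 p.2.1 0 0 p.2.2, l.el_mem _ _ _ _ _⟩ : l.QA)) ⟨fun p q h => ?_, fun ⟨u, hu⟩ => ?_⟩)).symm.trans
      (by simp only [Nat.card_prod, card_F]; rfl)
    · obtain ⟨h1, h2, -, -, h3⟩ := l.el_inj (congrArg Subtype.val h)
      exact Prod.ext h1 (Prod.ext h2 h3)
    · obtain ⟨α, β, t, s, γ, rfl⟩ := l.mem_QA.1 hu
      exact ⟨(α, β, γ), Subtype.ext (by simp [l.el_em α β t, em])⟩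
  · refine (Nat.card_congr (Equiv.ofBijective (fun p : F × F × F × F × F =>
      (⟨l.el p.1 p.2.1 p.2.2.1 p.2.2.2.1 p.2.2.2.2, l.el_mem _ _ _ _ _⟩ : l.QA))
      ⟨fun p q h => ?_, fun ⟨u, hu⟩ => ?_⟩)).symm.trans (by simp only [Nat.card_prod, card_F]; rfl)
    · simpa [Prod.ext_iff, em] using l.el_inj (congrArg Subtype.val h)
    · obtain ⟨α, β, t, s, γ, rfl⟩ := l.mem_QA.1 hu
      exact ⟨(α, β, t, s, γ), rfl⟩

theorem sq_U (hm : m = true) (τ α β t u γ : F) : ∃ δ, l.el α β t u γ * l.x τ * (l.el α β t u γ * l.x τ) =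
    l.el (τ ^ 3 * β + τ ^ 2 * t + τ * u) 0 (τ * β) (τ ^ 2 * β) δ := by
  obtain ⟨δ, e⟩ := l.x_el hm τ α β t u γ
  rw [add_inv l.x_add] at e
  rw [mul_assoc, ← mul_assoc (l.x τ), e, el_mul]
  simp only [← add_assoc, CharTwo.add_self_eq_zero, zero_add]
  exact ⟨_, rfl⟩

theorem inv_U {u : G} (hu : u ∈ l.U) (h : u * u = 1) : ∃ a ∈ l.A, a * u * a⁻¹ ∈ l.QA := by
  obtain ⟨q, hq, τ, rfl⟩ := l.mem_U.1 hu
  by_cases h0 : l.x τ = 1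
  · exact ⟨1, one_mem _, by simpa [h0] using hq⟩
  obtain rfl : m = true := by
    by_contra hm
    exact h0 ((l.triv (by simpa using hm)).2 τ).2.2
  have hτ : τ ≠ 0 := fun e => h0 (e ▸ add_zero' l.x_add)
  obtain ⟨α, β, t, s, γ, rfl⟩ := l.mem_QA.1 hq
  obtain ⟨δ, e⟩ := l.sq_U rfl τ α β t s γ
  obtain ⟨h1, -, h2, -⟩ := l.el_inj (e.symm.trans (h.trans l.el_zero.symm))
  have z : ∀ τ β t s : F, τ ≠ 0 → τ ^ 3 * β + τ ^ 2 * t + τ * s = 0 → em true * (τ * β) = em true * 0 →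
      β = 0 ∧ t + τ * (t / τ) = 0 ∧ s + τ ^ 2 * (t / τ) = 0 := by decide +kernel
  obtain ⟨rfl, h3, h4⟩ := z τ β t s hτ h1 h2
  obtain ⟨δ, e⟩ := l.x_el rfl τ 0 (t / τ) 0 0 0
  have L := l.el_letters
  have : ∃ p r, l.b (t / τ) * (l.el α 0 t s γ * l.x τ) * (l.b (t / τ))⁻¹ = l.a p * l.c r * l.x τ := by
    rw [add_inv l.b_add, (L _).2.1, ← mul_assoc, mul_assoc, ← inv_mul_cancel_right (l.x τ * _) (l.x τ), e,
      ← mul_assoc, el_mul, el_mul]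
    simp only [zero_add, add_zero, h3, h4, CharTwo.add_self_eq_zero]
    exact ⟨_, _, by rw [(L _).1, el_c, zero_add]⟩
  obtain ⟨p, r, e⟩ := this
  obtain ⟨-, -, -, -, -, -, nA, nn, na, -⟩ := Sl.facts (l := l) (.inl ⟨rfl, rfl, rfl⟩)
  refine ⟨l.n1 * l.b (t / τ), mul_mem nA (l.mem _).2.1, ?_⟩
  rw [mul_inv_rev, ← mul_assoc, mul_assoc l.n1, mul_assoc l.n1, e, ← conj_mul, ← conj_mul,
    inv_eq_of_mul_eq_one_right nn, (na _).1, (na _).2, ((l.wact rfl).2.2 τ).2.2.1]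
  exact mul_mem (mul_mem (l.letters_mem _).2.2.2.2.1 (l.letters_mem _).1) (l.letters_mem _).2.2.1

theorem c_notK {δ : F} (h : δ ≠ 0) : l.c δ ∉ l.K := fun k =>
  h (l.c_inj _ (l.eq_one_of_K (l.letters_mem δ).2.2.2.2.1 k))

theorem Long.norm {l : Lt m G} {t : G} (h : l.Long t) : t ∈ l.N ∧ t ∉ l.K := by
  obtain ⟨n, hn, δ, hδ, k, hk, e⟩ := h
  refine ⟨?_, fun ht => l.c_notK hδ ((mul_mem_cancel_left hk).1 (e ▸ l.cj_K hn ht :))⟩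
  have := mul_mem (mul_mem (inv_mem hn) (mul_mem (cent_le_norm _ hk) (le_normalizer (l.mem δ).2.2.1))) hn
  simpa [← e, mul_assoc] using this

theorem Long.conj {l : Lt m G} {t n : G} (h : l.Long t) (hn : n ∈ l.N) : l.Long (n * t * n⁻¹) := by
  obtain ⟨n', hn', h⟩ := h
  exact ⟨n' * n⁻¹, mul_mem hn' (inv_mem hn), by simpa [mul_assoc] using h⟩

theorem Long.of_conj {l : Lt m G} {t n : G} (h : l.Long (n * t * n⁻¹)) (hn : n ∈ l.N) : l.Long t := by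
  simpa [mul_assoc] using h.conj (inv_mem hn)

theorem Long.mul {l : Lt m G} {t k : G} (h : l.Long t) (hk : k ∈ l.K) : l.Long (k * t) := by
  obtain ⟨n, hn, δ, hδ, k', hk', e⟩ := h
  exact ⟨n, hn, δ, hδ, _, mul_mem (l.cj_K hn hk) hk', by rw [← conj_mul, e, mul_assoc _ k']⟩

theorem long_ac {a b : F → G} {n : G} (hs : l.Sl a b n) {α γ : F} (h : a α * l.c γ ≠ 1) :
    l.Long (a α * l.c γ) := by
  by_cases h0 : α = 0
  · rw [h0, add_zero' hs.facts.1, one_mul] at h ⊢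
    exact ⟨1, one_mem _, γ, fun e => h (e ▸ add_zero' l.c_add), 1, one_mem _, by simp⟩
  · obtain ⟨g, hg, e⟩ := l.to_c' hs h0 γ
    exact ⟨g, le_normalizer hg, α, h0, 1, one_mem _, by rw [e, one_mul]⟩

theorem K_le_cX : l.K ≤ 𝐂[l.X] := cent_anti (l.X_le_QA.trans (l.QA_le_D.trans l.D_le_A))

theorem QK.cent {l : Lt m G} {t : G} (h : l.QK t) : t ∈ 𝐂[l.X] ∧ t ∈ l.A ⊔ l.K := by
  obtain ⟨u, hu, h⟩ := h
  exact ⟨by simpa using mul_mem (l.D_le_cent (l.QA_le_D hu)) (l.K_le_cX h),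
    l.mem_AK.2 ⟨u, l.D_le_A (l.QA_le_D hu), h⟩⟩

theorem Sw.not {l : Lt m G} {t : G} (h : l.Sw t) {κ δ : F} (e : t * l.a 1 * t⁻¹ = l.a κ * l.c δ) : False := by
  obtain ⟨κ', h0, h⟩ := h
  obtain ⟨δ', e'⟩ := (h 1).1
  rw [e, (l.el_letters _).1, (l.el_letters _).2.1, el_c, el_c] at e'
  exact h0 (by simpa using (l.el_inj e').2.1.symm)

end Lt

namespace Std

variable (s : Std m G)

theorem normK : 𝐍[s.K] = s.N := s.std.2.2.2.symm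

theorem ti {k n : G} (hk : k ∈ s.K) (h2 : k * k = 1) (h1 : k ≠ 1) (h : n * k * n⁻¹ ∈ s.K) : n ∈ s.N :=
  by_contra fun hn => not_odd (K := s.K ⊓ cj(n, s.K)) ⟨h, conj_mem_cj hk⟩ (sq_conj h2)
    (mt conj_eq_one_iff.1 h1) (s.std.2.1.2 n (s.normK.symm ▸ hn))

theorem ti' {g t n : G} (ht : t ∈ cj(g, s.K)) (h2 : t * t = 1) (h1 : t ≠ 1) (h : n * t * n⁻¹ ∈ cj(g, s.K)) :
    n ∈ cj(g, s.N) :=
  mem_cj.2 (s.ti (mem_cj.1 ht) (by simpa using sq_conj (n := g⁻¹) h2)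
    (by simpa using mt (conj_eq_one_iff (a := g⁻¹)).1 h1) (by simpa [mul_assoc] using mem_cj.1 h))

theorem cen' {g t n : G} (ht : t ∈ cj(g, s.K)) (h2 : t * t = 1) (h1 : t ≠ 1) (h : Commute n t) :
    n ∈ cj(g, s.N) := s.ti' ht h2 h1 (by rwa [h.eq, mul_inv_cancel_right])

theorem cj_mem {g n t : G} (hn : n ∈ cj(g, s.N)) (ht : t ∈ cj(g, s.K)) : n * t * n⁻¹ ∈ cj(g, s.K) :=
  mem_cj.2 (by simpa [mul_assoc] using s.cj_K (mem_cj.1 hn) (mem_cj.1 ht))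

theorem inter {g k : G} (hg : g ∉ s.N) (hk : k ∈ s.K) (hk' : k ∈ cj(g, s.K)) (h2 : ∃ j : ℕ, k ^ 2 ^ j = 1) :
    k = 1 := eq_one_of_two (K := s.K ⊓ cj(g, s.K)) (fun _ hk h2 => by_contra fun h1 =>
      not_odd hk h2 h1 (s.std.2.1.2 g (s.normK.symm ▸ hg))) ⟨hk, hk'⟩ h2

theorem AK {k : G} (hA : k ∈ s.A) (hK : k ∈ s.K) (h2 : ∃ j : ℕ, k ^ 2 ^ j = 1) : k = 1 :=
  eq_one_of_two (K := s.A ⊓ s.K) (fun k hk h2 => by
    rw [← (s.z2 k hk.1 hk.2).1, pow_succ, sq, h2, one_mul]) ⟨hA, hK⟩ h2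

theorem D_eq (s : Std false G) : s.D = s.QA := le_antisymm (s.D_le (fun t =>
  have h := s.letters_mem t
  ⟨h.1, h.2.1, h.2.2.2.2.1, h.2.2.1, h.2.2.2.1, ((s.triv rfl).2 t).2.2 ▸ one_mem _⟩)
  ((s.triv rfl).1 ▸ one_mem _)) s.QA_le_D

theorem DK {k : G} (hD : k ∈ s.D) (hK : k ∈ s.K) : k = 1 := by
  cases m
  · exact s.eq_one_of_K (s.D_eq ▸ hD) hK
  · exact (s.z2 k (s.D_le_A hD) hK).2 rfl

theorem cenX {g : G} {δ : F} (hg : g ∈ s.A) (hδ : δ ≠ 0) (h : Commute g (s.c δ)) : g ∈ 𝐂[s.X] := by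
  have h1 : ∀ g ∈ s.A, Commute g (s.c 1) → g ∈ 𝐂[s.X] := fun g hg h => by
    obtain ⟨d, hd, e⟩ := s.cen g hg h
    simpa using mul_mem (s.D_le_cent hd) (s.K_le_cX e)
  have h2 : ∀ δ, (∀ g ∈ s.A, Commute g (s.c δ) → g ∈ 𝐂[s.X]) →
      ∀ g ∈ s.A, Commute g (s.c (ω ^ 2 * δ)) → g ∈ 𝐂[s.X] := fun δ k g hg h => by
    have hA := s.mem'.2.2.2.1
    have := k _ (mul_mem (mul_mem (inv_mem hA) hg) hA) (by
      simpa [← (s.hact δ).2.2.1, mul_assoc] using h.map (MulAut.conj s.h⁻¹))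
    simpa [mul_assoc] using conj_mem_of_norm (norm_cent le_rfl s.hξ_norm.2.1) this
  rcases F_cases δ with rfl | rfl | rfl | rfl
  · exact absurd rfl hδ
  · exact h1 g hg h
  · exact h2 _ (h2 _ h1) g hg (by rwa [show ω ^ 2 * (ω ^ 2 * 1) = ω by decide +kernel])
  · exact h2 _ h1 g hg (by rwa [mul_one])

theorem mem_X {z : G} (hA : z ∈ s.A) (h : z ∈ 𝐂[s.QA]) (h2 : z * z = 1) : z ∈ s.X := by
  obtain ⟨t, e⟩ := s.kf.k3 (le_normalizer hA) h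
  have c : Commute (s.c t) z := h _ (s.letters_mem t).2.2.2.2.1
  have := s.AK (mul_mem (s.mem t).2.2.1 hA) e ⟨1, by rw [pow_one, c.mul_pow, sq, sq, h2, add_sq s.c_add, one_mul]⟩
  exact ⟨t, by rw [← inv_eq_of_mul_eq_one_right this, add_inv s.c_add]⟩

theorem normX {n : G} {δ : F} (hn : n ∈ s.N) (hδ : δ ≠ 0) (h : Commute n (s.c δ)) :
    n ∈ 𝐍[s.X] ∧ n ∈ 𝐍[s.QA] := by
  have : n ∈ 𝐍[s.X] := mem_norm_of_cj_le (cj_le_iff.2 (by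
    rintro _ ⟨γ, rfl⟩
    refine s.mem_X (conj_mem_of_norm hn (s.mem γ).2.2.1) (fun u hu => ?_) (sq_conj (add_sq s.c_add γ))
    have uD := s.QA_le_D hu
    have := s.cenX (conj_mem_of_norm' hn (s.D_le_A uD)) hδ
      ((h.inv_left.mul_left (s.mem_cX.1 (s.D_le_cent uD) δ).symm).mul_left h)
    simpa [mul_assoc] using ((s.mem_cX.1 this γ).map (MulAut.conj n)).symm.eq))
  exact ⟨this, s.kf.k2 n hn this⟩

theorem cenQ {P : Subgroup G} (hP : IsPGroup 2 P) (hN : P ≤ s.N) (hQ : s.QA ≤ P) :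
    ∃ δ, δ ≠ 0 ∧ ∀ p ∈ P, Commute p (s.c δ) := by
  obtain ⟨z, hz, z2, z1, h⟩ := ABG.exists_inv_of_even (K := P ⊓ s.A) hP (norm_inf le_normalizer hN)
    (not_odd ⟨hQ (s.letters_mem 1).2.2.2.2.1, (s.mem 1).2.2.1⟩ (add_sq s.c_add 1)
      fun e => one_ne_zero (s.c_inj 1 e))
  obtain ⟨δ, rfl⟩ := s.mem_X hz.2 (fun u hu => h u (hQ hu)) z2
  exact ⟨δ, fun e => z1 (e ▸ add_zero' s.c_add), h⟩

theorem QA_le_N : s.QA ≤ s.N := s.QA_le_D.trans (s.D_le_A.trans le_normalizer)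

theorem toC {P : Subgroup G} (hP : IsPGroup 2 P) (hN : P ≤ s.N) :
    ∃ n ∈ s.N, ∃ δ, δ ≠ 0 ∧ ∀ p ∈ P, Commute (n * p * n⁻¹) (s.c δ) := by
  obtain ⟨S, h1, hS⟩ := Syl.exists_ge s.pg_QA s.QA_le_N
  obtain ⟨n, hn, h⟩ := hS.conj_le hP hN
  obtain ⟨δ, hδ, k⟩ := s.cenQ hS.pg hS.le h1
  exact ⟨n, hn, δ, hδ, fun p hp => k _ (h (conj_mem_cj hp))⟩

set_option synthInstance.maxSize 2000 in
theorem mov {p : G} {δ : F} (hp : p ∈ s.N) (hδ : δ ≠ 0) (h : Commute p (s.c δ)) (h' : p ∉ 𝐂[s.X]) {γ : F}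
    (h0 : γ ≠ 0) (h1 : γ ≠ δ) : p * s.c γ * p⁻¹ = s.c (γ + δ) := by
  obtain ⟨γ', e⟩ := conj_mem_of_norm (s.normX hp hδ h).1 (⟨γ, rfl⟩ : s.c γ ∈ s.X)
  have z : ∀ δ γ γ' : F, δ ≠ 0 → γ ≠ 0 → γ ≠ δ → γ' = 0 ∨ γ' = δ ∨ γ' = γ + δ ∨
      γ' = γ ∧ ∀ t, t = 0 ∨ t = δ ∨ t = γ ∨ t = γ + δ := by decide +kernel
  rcases z δ γ γ' hδ h0 h1 with rfl | rfl | rfl | ⟨rfl, k⟩
  · rw [add_zero' s.c_add, conj_eq_one_iff] at e
    exact absurd (s.c_inj _ e) h0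
  · rw [mul_inv_eq_iff_eq_mul, ← h.eq, mul_right_inj, s.c_eq] at e
    exact absurd e h1
  · exact e
  · have c : Commute p (s.c γ') := mul_inv_eq_iff_eq_mul.1 e
    refine absurd (s.mem_cX.2 fun t => Commute.symm ?_) h'
    rcases k t with rfl | rfl | rfl | rfl
    exacts [add_zero' s.c_add ▸ Commute.one_right p, h, c, s.c_add _ _ ▸ c.mul_right h]

theorem two {p q : G} {δ : F} (hp : p ∈ s.N) (hq : q ∈ s.N) (hδ : δ ≠ 0) (h : Commute p (s.c δ))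
    (h' : Commute q (s.c δ)) : p ∈ 𝐂[s.X] ∨ q ∈ 𝐂[s.X] ∨ p * q ∈ 𝐂[s.X] := by
  refine or_iff_not_imp_left.2 fun h1 => or_iff_not_imp_left.2 fun h2 => by_contra fun h3 => ?_
  have z : ∀ δ : F, δ ≠ 0 → ω * δ ≠ 0 ∧ ω * δ ≠ δ ∧ ω * δ + δ ≠ 0 ∧ ω * δ + δ ≠ δ ∧
    ω * δ + δ + δ ≠ ω * δ + δ := by decide +kernel
  obtain ⟨z1, z2, z3, z4, z5⟩ := z δ hδ
  have := s.mov (mul_mem hp hq) hδ (h.mul_left h') h3 z1 z2
  rw [mul_inv_rev, ← mul_assoc, mul_assoc p, mul_assoc p, s.mov hq hδ h' h2 z1 z2, s.mov hp hδ h h1 z3 z4,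
    s.c_eq] at this
  exact z5 this

theorem qk_of {p : G} (hp : p ∈ s.N) (h : ∀ u ∈ s.QA, p * u * p⁻¹ * u⁻¹ ∈ s.X) : s.QK p := by
  refine s.kf.k6 p hp (s.mem_cX.2 fun t => ?_) h
  obtain ⟨δ, e⟩ := h _ (s.letters_mem t).1
  obtain ⟨δ', e'⟩ := h _ (s.letters_mem 1).2.1
  rw [mul_inv_eq_iff_eq_mul] at e e'
  have := congrArg (MulAut.conj p) (s.ab t 1)
  simp only [map_mul, MulAut.conj_apply, e, e', mul_one] at this
  rw [mul_assoc, ← mul_assoc (s.a t), ← (s.cc _ _).1.eq, mul_assoc, s.ab, mul_one, mul_assoc (s.c δ') (s.b 1),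
    ← mul_assoc (s.b 1), ← (s.cc _ _).2.1.eq, ← mul_assoc (s.c δ), (add_commute s.c_add δ δ').eq] at this
  simp only [mul_assoc, mul_right_inj] at this
  exact mul_inv_eq_iff_eq_mul.1 (by rw [mul_assoc, ← this]) |>.symm

theorem toU {s : Std true G} {P : Subgroup G} (hP : IsPGroup 2 P) (hN : P ≤ s.N) (hX : P ≤ 𝐂[s.X]) :
    ∃ d ∈ s.D, ∀ p ∈ P, ∃ u ∈ s.U, u⁻¹ * (d * p * d⁻¹) ∈ s.K := by
  have hK : P ≤ 𝐍[s.K] := hN.trans (norm_cent le_rfl)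
  obtain ⟨d, hd, h⟩ := s.syl.conj_le (P := (s.K ⊔ P) ⊓ s.D) (pg_iff.2 fun x hx => by
    obtain ⟨k, hk, p, hp, rfl⟩ := (mem_sup_norm hK).1 hx.1
    obtain ⟨j, e⟩ := pg_iff.1 hP p hp
    have c := s.comm_K (s.D_le_A hx.2) (inv_mem hk)
    rw [← inv_mul_cancel_left k p, c.symm.mul_pow, inv_pow, inv_mul_eq_one] at e
    exact ⟨j, s.DK (pow_mem hx.2 _) (e ▸ pow_mem hk _)⟩) inf_le_right
  refine ⟨d, hd, fun p hp => ?_⟩
  obtain ⟨u, hu, e⟩ := s.kf.k5 rfl p (hN hp) (hX hp)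
  refine ⟨_, h (conj_mem_cj ⟨?_, hu⟩), by
    simpa [mul_assoc] using s.cj_K (le_normalizer (s.D_le_A hd)) e⟩
  simpa using mul_mem (mem_sup_right (S := s.K) hp) (inv_mem (mem_sup_left (T := P) e))

theorem qk_or_sw {s : Std false G} {p : G} (hp : p ∈ s.N) (hX : p ∈ 𝐂[s.X]) (h2 : ∃ j : ℕ, p ^ 2 ^ j = 1) :
    s.QK p ∨ s.Sw p := by
  obtain ⟨κ, h0, h | h⟩ := s.kf.diag hp hX
  · left
    have it : ∀ i : ℕ, ∃ t, p ^ i * s.a 1 * (p ^ i)⁻¹ = s.a (κ ^ i) * s.c t := fun i => by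
      induction i with
      | zero => exact ⟨0, by simp [add_zero' s.c_add]⟩
      | succ i ih =>
        obtain ⟨t, e⟩ := ih
        obtain ⟨t', e'⟩ := (h (κ ^ i)).1
        exact ⟨t' + t, by rw [pow_succ', mul_inv_rev, ← mul_assoc, mul_assoc p, mul_assoc p, e, ← conj_mul, e',
          ← (s.mem_cX.1 hX t).eq, mul_inv_cancel_right, pow_succ', s.c_add, mul_assoc]⟩
    obtain ⟨j, e⟩ := h2
    obtain ⟨t, e'⟩ := it (2 ^ j)
    rw [e, one_mul, inv_one, mul_one, (s.el_letters _).1, (s.el_letters _).1, Lt.el_c] at e'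
    obtain rfl : κ = 1 := (pow_eq_one_iff_of_coprime (Nat.Coprime.pow_left j (by norm_num : Nat.Coprime 2 3))).1
      ⟨(s.el_inj e').1.symm, F_cube h0⟩
    refine s.kf.k6 p hp hX (s.triv_of hX fun t => ⟨by simpa using (h t).1, by simpa using (h t).2, ?_⟩)
    simp only [(s.triv rfl).2 t, mul_one, mul_inv_cancel, one_mul]
    exact ⟨⟨0, (add_zero' s.c_add).symm⟩, 0, (add_zero' s.c_add).symm⟩
  · exact .inr ⟨κ, h0, h⟩

theorem two' {s : Std false G} {P : Subgroup G} (hP : IsPGroup 2 P) (hN : P ≤ s.N) (hX : P ≤ 𝐂[s.X])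
    {p q : G} (hp : p ∈ P) (hq : q ∈ P) : s.QK p ∨ s.QK q ∨ s.QK (p * q) := by
  have k := fun p hp => qk_or_sw (hN hp) (hX hp) (pg_iff.1 hP p hp)
  refine (k p hp).imp_right fun ⟨κ, _, h1⟩ => (k q hq).imp_right fun ⟨κ', _, h2⟩ =>
    (k _ (mul_mem hp hq)).resolve_right fun h3 => ?_
  obtain ⟨δ, e⟩ := (h2 1).1
  obtain ⟨δ', e'⟩ := (h1 (κ' * 1)).2
  exact h3.not (by rw [mul_inv_rev, ← mul_assoc, mul_assoc p, mul_assoc p, e, ← conj_mul, e',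
    ← (s.mem_cX.1 (hX hp) δ).eq, mul_inv_cancel_right, mul_assoc, ← s.c_add])

theorem k5' {s : Std true G} {p : G} (hp : p ∈ s.N) (hX : p ∈ 𝐂[s.X]) : p ∈ s.A ⊔ s.K :=
  have ⟨d, hd, e⟩ := s.kf.k5 rfl p hp hX
  s.mem_AK.2 ⟨d, s.D_le_A hd, e⟩

theorem sq_inn {p : G} (hp : p ∈ s.N) (h2 : ∃ j : ℕ, p ^ 2 ^ j = 1) : p * p ∈ s.A ⊔ s.K := by
  obtain ⟨n, hn, δ, hδ, h⟩ := s.toC (pg_zpowers h2) (zpowers_le.2 hp)
  rw [← s.cj_AK hn, ← conj_mul]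
  replace h := h p (mem_zpowers p)
  replace hp := mul_mem (mul_mem hn hp) (inv_mem hn)
  replace h2 : ∃ j : ℕ, (n * p * n⁻¹) ^ 2 ^ j = 1 := h2.imp fun j e => by rw [conj_pow, e]; simp
  generalize n * p * n⁻¹ = q at h hp h2
  have hX : q * q ∈ 𝐂[s.X] := by
    rcases s.two hp hp hδ h h with k | k | k
    exacts [mul_mem k k, mul_mem k k, k]
  cases m
  · refine ((qk_or_sw (mul_mem hp hp) hX (h2.imp fun j e => by
      rw [← sq, ← pow_mul, mul_comm, pow_mul, e, one_pow])).resolve_right ?_).cent.2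
    rintro ⟨κ, h0, k⟩
    obtain ⟨nX, nQ⟩ := s.normX hp hδ h
    obtain ⟨α, β, t, u, γ, e⟩ := s.mem_QA.1 (conj_mem_of_norm nQ (s.letters_mem 1).1)
    obtain ⟨δ', e'⟩ := (k 1).1
    rw [mul_inv_rev, ← mul_assoc, mul_assoc q, mul_assoc q, e] at e'
    have h1 : β * α = 0 := by
      have := sq_conj (n := q) (add_sq s.a_add 1)
      rw [e, Lt.el_sq] at this
      simpa [em] using s.c_inj _ this
    have h3 := congrArg (MulAut.conj q) (s.el_conj 1 0 0 0 0 α β t u γ)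
    rw [show γ + 1 * β + 0 * α + em false * (0 * u + 0 * t) = γ + β by simp, ← Lt.el_c, ← (s.el_letters 1).1] at h3
    simp only [map_mul, map_inv] at h3
    simp only [MulAut.conj_apply, e, e'] at h3
    rw [(s.el_letters _).2.1, Lt.el_c, Lt.el_conj, show 0 + δ' + α * (κ * 1) + β * 0 + em false * (t * 0 + u * 0) =
      0 + δ' + α * κ by simp, ← Lt.el_c _ _ _ _ _ (0 + δ'), mul_right_inj] at h3
    obtain ⟨rfl, rfl⟩ : α = 0 ∧ β = 0 := by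
      rcases mul_eq_zero.1 h1 with rfl | rfl
      · rw [add_zero' s.c_add, mul_one, mul_inv_cancel] at h3
        exact ⟨by simpa [h0] using s.c_inj _ h3, rfl⟩
      · rw [zero_mul, add_zero' s.c_add, eq_comm, conj_eq_one_iff] at h3
        exact ⟨rfl, s.c_inj _ h3⟩
    obtain ⟨ε, e1⟩ := (mem_normalizer_iff.1 nX (s.a 1)).2
      ⟨γ, by rw [e, s.el_em, (s.el_letters γ).2.2.2.2]; simp [em]⟩
    rw [(s.el_letters _).1, (s.el_letters _).2.2.2.2] at e1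
    exact one_ne_zero (s.el_inj e1).1
  · exact k5' (mul_mem hp hp) hX

theorem comm_inn {P : Subgroup G} (hP : IsPGroup 2 P) (hN : P ≤ s.N) {p q : G} (hp : p ∈ P) (hq : q ∈ P) :
    p * q * p⁻¹ * q⁻¹ ∈ s.A ⊔ s.K := by
  have k := fun p hp => s.sq_inn (hN hp) (pg_iff.1 hP p hp)
  have := mul_mem (mul_mem (k _ (mul_mem hp hq)) ((s.cj_AK (hN (inv_mem hq))).2 (k _ (inv_mem hp))))
    (k _ (inv_mem hq))
  simpa [mul_assoc] using this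

theorem out2 {s : Std true G} {P : Subgroup G} (hP : IsPGroup 2 P) (hN : P ≤ s.N) {p q : G} (hp : p ∈ P)
    (hq : q ∈ P) : p ∈ s.A ⊔ s.K ∨ q ∈ s.A ⊔ s.K ∨ p * q ∈ s.A ⊔ s.K := by
  obtain ⟨n, hn, δ, hδ, h⟩ := s.toC hP hN
  have N : ∀ p ∈ P, n * p * n⁻¹ ∈ s.N := fun p hp => mul_mem (mul_mem hn (hN hp)) (inv_mem hn)
  have k : ∀ p ∈ P, n * p * n⁻¹ ∈ 𝐂[s.X] → p ∈ s.A ⊔ s.K := fun p hp e => (s.cj_AK hn).1 (k5' (N p hp) e)
  exact (s.two (N p hp) (N q hq) hδ (h p hp) (h q hq)).imp (k p hp) (Or.imp (k q hq)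
    fun e => k _ (mul_mem hp hq) (by rwa [← conj_mul]))

theorem index_le {H : Type*} [Group H] {M : Subgroup H} (h : ∀ p q, p ∈ M ∨ q ∈ M ∨ p * q ∈ M) :
    M.index ∣ 2 := by
  by_cases e : M = ⊤
  · simp [e]
  · obtain ⟨a, ha⟩ : ∃ a, a ∉ M := by simpa [eq_top_iff'] using e
    rw [index_eq_two_iff.2 ⟨a, fun b => ?_⟩]
    by_cases hb : b ∈ M
    · exact .inr ⟨hb, fun k => ha (by simpa using mul_mem (inv_mem hb) k)⟩
    · exact .inl ⟨((h b a).resolve_left hb).resolve_left ha, hb⟩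

theorem card_le {P M : Subgroup G} (h : ∀ p ∈ P, ∀ q ∈ P, p ∈ M ∨ q ∈ M ∨ p * q ∈ M) :
    Nat.card P ≤ 2 * Nat.card ↥(P ⊓ M) := by
  rw [← (M.subgroupOf P).index_mul_card, inf_comm, ← subgroupOf_map_subtype, card_subtype]
  exact Nat.mul_le_mul_right _ (Nat.le_of_dvd two_pos (index_le fun p q => h p p.2 q q.2))

theorem out4 {P : Subgroup G} (hP : IsPGroup 2 P) (hN : P ≤ s.N) (h : 4 < Nat.card P) :
    ∃ y ∈ P, y ≠ 1 ∧ y ∈ s.A ⊔ s.K := by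
  by_contra! hc
  obtain ⟨n, hn, δ, hδ, k⟩ := s.toC hP hN
  have hQ := pg_cj hP n
  have QN : cj(n, P) ≤ s.N := cj_le_of_mem hN hn
  have h1 := card_le (P := cj(n, P)) (M := 𝐂[s.X]) fun p hp q hq =>
    s.two (QN hp) (QN hq) hδ (by simpa [mul_assoc] using k _ (mem_cj.1 hp))
      (by simpa [mul_assoc] using k _ (mem_cj.1 hq))
  have h2 := card_le (P := cj(n, P) ⊓ 𝐂[s.X]) (M := s.A ⊔ s.K) fun p hp q hq => by
    cases m
    · exact (two' (hQ.to_inf_left) (inf_le_left.trans QN) inf_le_right hp hq).imp (·.cent.2)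
        (Or.imp (·.cent.2) (·.cent.2))
    · exact .inl (k5' (QN hp.1) hp.2)
  rw [show cj(n, P) ⊓ 𝐂[s.X] ⊓ (s.A ⊔ s.K) = ⊥ from eq_bot_iff.2 fun y hy => by
    have := mt (hc _ (mem_cj.1 hy.1.1)) (not_not.2 (by simpa using (s.cj_AK (inv_mem hn)).2 hy.2))
    simpa [mul_eq_one_iff_eq_inv] using this, card_bot] at h2
  rw [card_cj] at h1
  omega

/-- A 2-element of `A` is conjugate into `U`. -/
theorem into_U {a : G} (ha : a ∈ s.A) (h2 : ∃ j : ℕ, a ^ 2 ^ j = 1) : ∃ n ∈ s.N, n * a * n⁻¹ ∈ s.U := by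
  obtain ⟨n, hn, δ, hδ, h⟩ := s.toC (pg_zpowers h2) (zpowers_le.2 (le_normalizer ha))
  have hA := conj_mem_of_norm hn ha
  obtain ⟨d, hd, e⟩ := s.cen _ hA (s.mem_cX.1 (s.cenX hA hδ (h a (mem_zpowers a))) 1).symm
  have h3 : ∃ j : ℕ, (n * a * n⁻¹) ^ 2 ^ j = 1 := h2.imp fun j e => by rw [conj_pow, e]; simp
  obtain ⟨j, ej⟩ := h3
  have c := s.comm_K (s.D_le_A hd) e
  have e1 : (d⁻¹ * (n * a * n⁻¹)) ^ 2 ^ j = 1 := by
    have := c.mul_pow (2 ^ j)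
    rw [mul_inv_cancel_left, ej] at this
    exact s.DK (by simpa [← inv_eq_of_mul_eq_one_right this.symm] using pow_mem hd _) (pow_mem e _)
  have hD : n * a * n⁻¹ ∈ s.D :=
    inv_mul_eq_one.1 (s.AK (mul_mem (inv_mem (s.D_le_A hd)) hA) e ⟨j, e1⟩) ▸ hd
  obtain ⟨d, hd, k⟩ := s.syl.conj_le (pg_zpowers ⟨j, ej⟩) (zpowers_le.2 hD)
  exact ⟨d * n, mul_mem (le_normalizer (s.D_le_A hd)) hn, by
    simpa [mul_assoc] using k (conj_mem_cj (mem_zpowers _))⟩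

theorem long_of_inn {s : Std false G} {t : G} (h : t ∈ s.A ⊔ s.K) (h2 : t * t = 1) (hK : t ∉ s.K) :
    s.Long t := by
  obtain ⟨a, ha, k, hk, rfl⟩ := (mem_sup_norm (cent_le_norm _)).1 h
  have c := s.comm_K ha hk
  have e : a ^ 2 * k ^ 2 = 1 := by rw [← c.mul_pow, sq, h2]
  have a2 : a ^ 3 * a ^ 3 = 1 := by
    rw [← sq, ← pow_mul, mul_comm, pow_mul]
    exact (s.z2 _ (pow_mem ha 2) (by simpa [eq_inv_of_mul_eq_one_left e] using pow_mem hk 2)).1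
  have e3 : a * k = k ^ 3 * a ^ 3 := by
    rw [← c.symm.mul_pow, ← c.eq, pow_succ, sq, h2, one_mul]
  obtain ⟨n, hn, hu⟩ := s.into_U (pow_mem ha 3) ⟨1, by rwa [pow_one, sq]⟩
  obtain ⟨α, β, t, u, γ, e⟩ := s.mem_QA.1 (s.D_eq ▸ s.U_le_D hu)
  rw [e3] at hK ⊢
  refine Lt.Long.mul (.of_conj ?_ hn) (pow_mem hk 3)
  have h0 : n * a ^ 3 * n⁻¹ ≠ 1 := fun e => hK (by simpa [conj_eq_one_iff.1 e] using pow_mem hk 3)
  have h1 := sq_conj (n := n) a2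
  rw [e, s.el_em] at h0 h1 ⊢
  simp only [em, Bool.false_eq_true, if_false, zero_mul] at h0 h1 ⊢
  rw [Lt.el_sq] at h1
  rcases mul_eq_zero.1 (show β * α = 0 by simpa using s.c_inj _ h1) with rfl | rfl
  · rw [← zero_add γ, ← Lt.el_c, ← (s.el_letters _).1] at h0 ⊢
    exact s.long_ac (.inl ⟨rfl, rfl, rfl⟩) h0
  · rw [← zero_add γ, ← Lt.el_c, ← (s.el_letters _).2.1] at h0 ⊢
    exact s.long_ac (.inr ⟨rfl, rfl, rfl⟩) h0

theorem long_of_sq {s : Std true G} {v : G} (h : v ∈ s.A ⊔ s.K) (h4 : v * v * (v * v) = 1)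
    (hK : v * v ∉ s.K) : s.Long (v * v) := by
  obtain ⟨a, ha, k, hk, rfl⟩ := (mem_sup_norm (cent_le_norm _)).1 h
  have c := s.comm_K ha hk
  have e2 : a * k * (a * k) = k * k * (a * a) := by rw [← sq, ← sq, ← sq, ← c.symm.mul_pow, c.eq]
  have a4 : a * a * (a * a) = 1 := by
    rw [← sq, ← sq, ← pow_mul, c.mul_pow] at h4
    rw [← sq, ← sq, ← pow_mul]
    exact (s.z2 _ (pow_mem ha _) (by simpa [eq_inv_of_mul_eq_one_left h4] using pow_mem hk _)).2 rfl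
  obtain ⟨n, hn, hu⟩ := s.into_U ha ⟨2, by rw [← a4, ← sq, ← sq, ← pow_mul]; rfl⟩
  rw [e2] at hK ⊢
  refine Lt.Long.mul (.of_conj ?_ hn) (mul_mem hk hk)
  have h0 : n * (a * a) * n⁻¹ ≠ 1 := fun e => hK (by simpa [conj_eq_one_iff.1 e] using mul_mem hk hk)
  have h1 := sq_conj (n := n) a4
  obtain ⟨q, hq, τ, e⟩ := s.mem_U.1 hu
  obtain ⟨α, β, t, u, γ, rfl⟩ := s.mem_QA.1 hq
  obtain ⟨δ, e'⟩ := s.sq_U rfl τ α β t u γ
  rw [← conj_mul, e, e'] at h0 h1 ⊢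
  rw [Lt.el_sq] at h1
  have z : ∀ α τ β : F, 0 * α + em true * (τ ^ 2 * β * (τ * β)) = 0 → τ * β = 0 ∧ τ ^ 2 * β = 0 := by
    decide +kernel
  rw [(z _ _ _ (s.c_inj _ h1)).1, (z _ _ _ (s.c_inj _ h1)).2, ← zero_add δ, ← Lt.el_c, ← (s.el_letters _).1] at h0 ⊢
  exact s.long_ac (.inl ⟨rfl, rfl, rfl⟩) h0

/-- From S1910. -/
theorem big {g : G} {P T : Subgroup G} (hg : g ∉ s.N) (hP : IsPGroup 2 P) (h1 : P ≤ s.K) (h2 : P ≤ cj(g, s.N))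
    (hT : Syl 2 T (cj(g, s.K) ⊓ s.N)) : Nat.card P ≤ Nat.card T := by
  by_cases e : P = ⊥
  · rw [e, card_bot]; exact Nat.card_pos
  have hg' : g⁻¹ ∉ 𝐍[s.K] := fun h => hg (by simpa [s.normK] using inv_mem h)
  obtain ⟨T0, l0, h0⟩ := Syl.exists_ge (pg_cj hP g⁻¹) (L := cj(g⁻¹, s.K) ⊓ 𝐍[s.K])
    (le_inf (cj_mono _ h1) (s.normK ▸ le_cj_iff_inv_le.1 h2))
  obtain ⟨S, l1, hS⟩ := Syl.exists_ge h0.pg (le_sup_right : T0 ≤ s.K ⊔ T0)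
  have n0 : T0 ≠ ⊥ := fun k => e (cj_eq_bot.1 (eq_bot_iff.2 (k ▸ l0)))
  obtain ⟨-, -, k1, -, ⟨k2⟩⟩ := S1910.result s.K s.std.2.1 g⁻¹ hg' T0 n0 h0.le ⟨h0.pg, h0.nd⟩ S l1 hS.le
    ⟨hS.pg, hS.nd⟩
  obtain ⟨z, hz, z2, z1, -⟩ := ABG.exists_inv_of_even (K := T0) h0.pg le_normalizer fun o =>
    n0 (eq_bot_of_coprime h0.pg le_rfl (Nat.coprime_two_right.2 o))
  obtain ⟨x, -, k⟩ := hT.conj_le (pg_cj (hS.pg.to_inf_left.to_inf_left (K := s.K)) g) (le_inf (cj_mono g inf_le_right)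
    (cj_le_iff_le_inv.2 fun y hy => s.cen' (h0.le hz).1 z2 z1 (comm_eq_bot_iff'.1 k1 hy z hz).symm))
  calc _ = _ := (card_cj P g⁻¹).symm
    _ ≤ _ := card_le_of_le l0
    _ = _ := (Nat.card_congr k2.toEquiv).symm
    _ = _ := ((card_cj _ x).trans (card_cj _ g)).symm
    _ ≤ _ := card_le_of_le k

theorem four_in {g k : G} {R : Subgroup G} (hR : Syl 2 R cj(g, s.K)) (hk : k ∈ R) (h2 : k * k = 1) :
    ∃ p ∈ R, Commute p k ∧ p * p = 1 ∧ p ≠ 1 ∧ p ≠ k := by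
  obtain ⟨p, hp, q, hq, p2, q2, c, p1, q1, pq⟩ := s.four
  obtain ⟨x, -, h⟩ := hR.conj_le (pg_cj (pg_sup (pg_zpowers ⟨1, by rwa [pow_one, sq]⟩)
    (pg_zpowers ⟨1, by rwa [pow_one, sq]⟩) (zpowers_le.2 (cent_le_norm _ (by
      rintro _ ⟨i, rfl⟩; exact (c.symm.zpow_left i).eq)))) g) (cj_mono g (sup_le (zpowers_le.2 hp) (zpowers_le.2 hq)))
  rw [cj_cj] at h
  have mp := h (conj_mem_cj (mem_sup_left (mem_zpowers p)))
  have mq := h (conj_mem_cj (mem_sup_right (mem_zpowers q)))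
  obtain ⟨z, hz, z2, z1, cz⟩ := ABG.exists_inv_of_even (K := R) hR.pg le_normalizer
    (not_odd mp (sq_conj p2) (mt conj_eq_one_iff.1 p1))
  by_cases e : z = k
  · subst e
    by_cases e' : x * g * p * (x * g)⁻¹ = z
    · exact ⟨_, mq, cz _ mq, sq_conj q2, mt conj_eq_one_iff.1 q1, fun e => pq (by simpa using e'.trans e.symm)⟩
    · exact ⟨_, mp, cz _ mp, sq_conj p2, mt conj_eq_one_iff.1 p1, e'⟩
  · exact ⟨z, hz, (cz k hk).symm, z2, z1, e⟩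

theorem Pair.conj {s : Std m G} {g t n : G} (h : s.Pair g t) (hn : n ∈ s.N) :
    s.Pair (n * g) (n * t * n⁻¹) :=
  ⟨fun k => h.not (by simpa using mul_mem (inv_mem hn) k), cj_cj s.K g n ▸ conj_mem_cj h.mem,
    mul_mem (mul_mem hn h.norm) (inv_mem hn), sq_conj h.sq, mt conj_eq_one_iff.1 h.ne⟩

theorem Pair.notK {s : Std m G} {g t : G} (h : s.Pair g t) : t ∉ s.K := fun k =>
  h.ne (s.inter h.not k h.mem ⟨1, by rw [pow_one, pow_two, h.sq]⟩)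

end Std

end Cfsg.Agent.STA
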