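import Mathlib
import Cfsg.Agent.STA.LBasic

/-! The action of `n y n` (PLAN: Del). -/

set_option autoImplicit false
set_option linter.unusedSectionVars false

namespace Cfsg.Agent.STA

open Cfsg Cfsg.Agent.Loc.Mss Subgroup Equiv
open Cfsg.Agent.Spor (ES2 Eqv)

variable {m : Bool} {G : Type*} [Group G] [Finite G]

namespace Del

variable {t : Tr m G} {a b : F → G} {n : G}

/-- The elements of the elementary abelian group `R E`. -/
def T (t : Tr m G) (a : F → G) (s α γ : F) : G := t.r s * a α * t.c γ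

theorem aA (h : t.Sl a b n) (α : F) : a α ∈ t.A := t.D_le_A (t.QA_le_D (h.facts.2.2.2.1 α).1)
theorem bA (h : t.Sl a b n) (α : F) : b α ∈ t.A := t.D_le_A (t.QA_le_D (h.facts.2.2.2.1 α).2)
theorem cA (γ : F) : t.c γ ∈ t.A := (t.mem γ).2.2.1

theorem T_mul (h : t.Sl a b n) (s α γ s' α' γ' : F) :
    T t a s α γ * T t a s' α' γ' = T t a (s + s') (α + α') (γ + γ') := by
  simp only [T, t.r_add, h.facts.1, t.c_add, mul_assoc]
  rw [(t.r_comm (cA γ) s').left_comm, (t.r_comm (aA h α) s').left_comm,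
    (h.facts.2.2.2.2.1 γ α').1.left_comm]

theorem T_zero (h : t.Sl a b n) : T t a 0 0 0 = 1 := by
  rw [T, add_zero' t.r_add, add_zero' h.facts.1, add_zero' t.c_add]; simp

theorem T_r (h : t.Sl a b n) (s : F) : t.r s = T t a s 0 0 := by
  rw [T, add_zero' h.facts.1, add_zero' t.c_add]; simp

theorem T_c (h : t.Sl a b n) (γ : F) : t.c γ = T t a 0 0 γ := by
  rw [T, add_zero' h.facts.1, add_zero' t.r_add]; simp

theorem T_sq (h : t.Sl a b n) (s α γ : F) : T t a s α γ * T t a s α γ = 1 := by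
  simp only [T_mul h, CharTwo.add_self_eq_zero, T_zero h]

theorem T_inj (h : t.Sl a b n) {s α γ s' α' γ' : F} (e : T t a s α γ = T t a s' α' γ') :
    s = s' ∧ α = α' ∧ γ = γ' := by
  have h1 := T_sq h s α γ
  nth_rewrite 2 [e] at h1
  rw [T_mul h, T, mul_assoc, ← mul_one 1] at h1
  nth_rewrite 1 [← add_zero' t.r_add] at h1
  obtain ⟨h2, h3⟩ := t.rq_inj (mul_mem (h.facts.2.2.2.1 _).1 (t.letters_mem _).2.2.2.2.1) (one_mem _) h1
  obtain ⟨h4, h5⟩ := h.facts.2.2.2.2.2.1 _ _ h3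
  exact ⟨CharTwo.add_eq_zero.1 h2, CharTwo.add_eq_zero.1 h4, CharTwo.add_eq_zero.1 h5⟩

theorem T_conj (h : t.Sl a b n) {g : G} (ha : ∀ α, Commute g (a α)) (hc : ∀ γ, Commute g (t.c γ))
    {s α γ : F} (e : g * t.r s * g⁻¹ = T t a s α γ) (α' γ' : F) :
    g * T t a s α' γ' * g⁻¹ = T t a s (α + α') (γ + γ') := by
  rw [T, ← conj_mul, ← conj_mul, e, (ha α').mul_inv_cancel, (hc γ').mul_inv_cancel, mul_assoc,
    ← one_mul (a α' * _), ← add_zero' t.r_add, ← mul_assoc (t.r 0), ← T, T_mul h, add_zero]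

/-- The auxiliary group. -/
def Γ (h : t.Sl a b n) : Subgroup G where
  carrier := {g | (∀ α, Commute g (a α)) ∧ (∀ γ, Commute g (t.c γ)) ∧ Commute g t.ξ ∧
    (∀ o ∈ t.O, Commute g o) ∧ ∀ s, ∃ α γ, g * t.r s * g⁻¹ = T t a s α γ}
  one_mem' := ⟨fun _ => .one_left _, fun _ => .one_left _, .one_left _, fun _ _ => .one_left _,
    fun s => ⟨0, 0, by simp [← T_r h]⟩⟩
  mul_mem' := by
    rintro g g' ⟨h1, h2, h3, h4, h5⟩ ⟨k1, k2, k3, k4, k5⟩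
    refine ⟨fun α => (h1 α).mul_left (k1 α), fun α => (h2 α).mul_left (k2 α), h3.mul_left k3,
      fun o ho => (h4 o ho).mul_left (k4 o ho), fun s => ?_⟩
    obtain ⟨α, γ, e⟩ := h5 s
    obtain ⟨α', γ', e'⟩ := k5 s
    exact ⟨_, _, by rw [← T_conj h h1 h2 e α' γ', ← e']; group⟩
  inv_mem' := by
    rintro g ⟨h1, h2, h3, h4, h5⟩
    refine ⟨fun α => (h1 α).inv_left, fun α => (h2 α).inv_left, h3.inv_left,
      fun o ho => (h4 o ho).inv_left, fun s => ?_⟩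
    obtain ⟨α, γ, e⟩ := h5 s
    have := T_conj h h1 h2 e α γ
    simp only [CharTwo.add_self_eq_zero, ← T_r h] at this
    exact ⟨α, γ, by rw [← this]; group⟩

theorem OK {o : G} (ho : o ∈ t.O) : o ∈ t.K := ((t.mem_O o).1 ho).1

theorem rO {o : G} (ho : o ∈ t.O) (s : F) : Commute (t.r s) o := ((t.mem_O o).1 ho).2.1 _ ⟨s, rfl⟩

theorem mem_Γ (h : t.Sl a b n) {g : G} (hg : g ∈ t.A) (h1 : ∀ α, Commute g (a α))
    (h2 : ∀ γ, Commute g (t.c γ)) (h3 : Commute g t.ξ) : g ∈ Γ h :=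
  ⟨h1, h2, h3, fun _ ho => t.comm_K hg (OK ho), fun s =>
    ⟨0, 0, by rw [(t.r_comm hg s).mul_inv_cancel, ← T_r h]⟩⟩

theorem T_mem (h : t.Sl a b n) (s α γ : F) : T t a s α γ ∈ Γ h := by
  obtain ⟨f1, -, -, -, f5, -, -, -, -, -, -, f12, -⟩ := h.facts
  refine mul_mem (mul_mem ⟨fun α => (t.r_comm (aA h α) s).symm, fun γ => (t.r_comm (cA γ) s).symm,
    (t.r_comm t.mem'.2.2.2.2 s).symm, fun o ho => rO ho s, fun s' => ⟨0, 0, ?_⟩⟩ ?_) ?_
  · rw [(add_commute t.r_add s s').mul_inv_cancel, ← T_r h]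
  · exact mem_Γ h (aA h α) (add_commute f1 α) (fun γ => (f5 γ α).1.symm) (f12 α).1.symm
  · exact mem_Γ h (cA γ) (fun α => (f5 γ α).1) (add_commute t.c_add γ) (t.ξcom.2.2.2 γ).2.2.symm

theorem cen_R (h : t.Sl a b n) {g : G} (hg : g ∈ Γ h) (hr : ∀ s, Commute g (t.r s)) :
    ∃ s α γ z, z ∈ 𝐂[Γ h] ∧ Odd (orderOf z) ∧ g = T t a s α γ * z := by
  obtain ⟨α, γ, j, hk⟩ := t.kf.k4 h (t.mem_N one_ne_zero (by
    rw [(hr 1).mul_inv_cancel]; exact t.r_K 1)) hg.1 hg.2.1 hg.2.2.1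
  have hA : a α * t.c γ * t.ξ ^ j ∈ t.A := mul_mem (mul_mem (aA h α) (cA γ)) (pow_mem t.mem'.2.2.2.2 j)
  obtain ⟨s, o, o1, o2, o3, -, e⟩ := t.cenK hk (by
    rintro _ ⟨s, rfl⟩
    exact ((t.r_comm hA s).inv_left.mul_left (hr s)).symm)
  have ho := (t.mem_O o).2 ⟨o1, o2, o3⟩
  have hc : Commute (t.ξ ^ j) o := t.comm_K (pow_mem t.mem'.2.2.2.2 j) o1
  refine ⟨s, α, γ, t.ξ ^ j * o, fun g' hg' => (hg'.2.2.1.pow_right j).mul_right (hg'.2.2.2.1 o ho),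
    Odd.of_dvd_nat (Odd.mul (by decide : Odd 3) o3) (orderOf_dvd_of_pow_eq_one ?_), ?_⟩
  · rw [hc.mul_pow, ← pow_mul, mul_comm j, mul_assoc, pow_mul, t.ξ3, one_pow, one_mul, mul_comm 3,
      pow_mul, pow_orderOf_eq_one, one_pow]
  · rw [inv_mul_eq_iff_eq_mul.1 e, ← mul_assoc, (t.r_comm hA s).eq, T]; group

theorem sq_cen (h : t.Sl a b n) {g : G} (hg : g ∈ Γ h) (s : F) : Commute (g * g) (t.r s) := by
  obtain ⟨α, γ, e⟩ := hg.2.2.2.2 s
  have := T_conj h hg.1 hg.2.1 e α γ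
  simp only [CharTwo.add_self_eq_zero, ← T_r h] at this
  rw [← e] at this
  exact mul_inv_eq_iff_eq_mul.1 (Eq.trans (by group) this)

theorem sq_eq (h : t.Sl a b n) {z : G} (hz : z ∈ 𝐂[Γ h]) (s α γ : F) :
    T t a s α γ * z * (T t a s α γ * z) = z * z := by
  rw [mul_assoc, ← mul_assoc z, ← hz _ (T_mem h s α γ), ← mul_assoc, ← mul_assoc, T_sq h, one_mul]

/-- The 2-elements of `Γ`. -/
def W2 (h : t.Sl a b n) : Subgroup G where
  carrier := {g | g ∈ Γ h ∧ ∃ j : ℕ, g ^ 2 ^ j = 1}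
  one_mem' := ⟨one_mem _, 0, by simp⟩
  mul_mem' := fun hp hq => ⟨mul_mem hp.1 hq.1, two_closed (fun g hg => by
    obtain ⟨s, α, γ, z, z1, z2, e⟩ := cen_R h (mul_mem hg hg) (sq_cen h hg)
    rw [show g ^ 4 = g * g * (g * g) by simp only [pow_succ, pow_zero, one_mul, mul_assoc], e, sq_eq h z1]
    exact ⟨mul_mem z1 z1, z2.of_dvd_nat (by rw [← sq]; exact orderOf_pow_dvd 2)⟩) hp.1 hq.1 hp.2 hq.2⟩
  inv_mem' := fun ⟨hp, j, e⟩ => ⟨inv_mem hp, j, by rw [inv_pow, e, inv_one]⟩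

theorem eq_T (h : t.Sl a b n) {g : G} (hg : g ∈ W2 h) (hr : ∀ s, Commute g (t.r s)) :
    ∃ s α γ, g = T t a s α γ := by
  obtain ⟨s, α, γ, z, z1, z2, e⟩ := cen_R h hg.1 hr
  obtain ⟨j, hj⟩ := hg.2
  have h1 : z ^ 2 ^ (j + 1) = 1 := by
    rw [pow_succ', pow_mul, sq, ← sq_eq h z1 s α γ, ← e, ← sq, ← pow_mul, mul_comm, pow_mul, hj, one_pow]
  have h2 := (Nat.Coprime.pow_right (j + 1) (Nat.coprime_two_right.2 z2)).eq_one_of_dvd
    (orderOf_dvd_of_pow_eq_one h1)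
  exact ⟨s, α, γ, by rw [e, orderOf_eq_one_iff.1 h2, mul_one]⟩

theorem T0_cen (h : t.Sl a b n) {g : G} (hg : g ∈ Γ h) (α γ : F) : Commute g (T t a 0 α γ) := by
  rw [T, add_zero' t.r_add, one_mul]; exact (hg.1 α).mul_right (hg.2.1 γ)

theorem sq_T (h : t.Sl a b n) {g : G} (hg : g ∈ W2 h) : ∃ α γ, g * g = T t a 0 α γ := by
  obtain ⟨s, α, γ, e⟩ := eq_T h (mul_mem hg hg) (sq_cen h hg.1)
  by_cases hs : s = 0
  · exact ⟨α, γ, hs ▸ e⟩
  have h1 : Commute g (t.r s) := by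
    have := ((Commute.refl g).mul_right (Commute.refl g)).mul_right (T0_cen h hg.1 α γ)
    simpa only [e, T_mul h, add_zero, CharTwo.add_self_eq_zero, ← T_r h] using this
  have h2 := t.mem_N hs (by rw [h1.mul_inv_cancel]; exact t.r_K s)
  obtain ⟨s', α', γ', e'⟩ := eq_T h hg fun s' => by
    obtain ⟨α', γ', e'⟩ := hg.1.2.2.2.2 s'
    have h3 := t.cj_K h2 (t.r_K s')
    rw [e', T, mul_assoc, mul_mem_cancel_left (t.r_K s')] at h3
    rw [T, mul_assoc (t.r s'), t.eq_one_of_K (mul_mem (h.facts.2.2.2.1 _).1 (t.letters_mem _).2.2.2.2.1) h3,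
      mul_one] at e'
    exact mul_inv_eq_iff_eq_mul.1 e'
  exact ⟨0, 0, by rw [e', T_sq h, T_zero h]⟩

theorem comm_T (h : t.Sl a b n) {p q : G} (hp : p ∈ W2 h) (hq : q ∈ W2 h) :
    ∃ α γ, p * q * p = q * T t a 0 α γ := by
  obtain ⟨α, γ, e⟩ := sq_T h (mul_mem hp hq)
  obtain ⟨α', γ', e'⟩ := sq_T h hq
  refine ⟨α' + α, γ' + γ, ?_⟩
  have h1 : p * q * p = T t a 0 α γ * q⁻¹ := by rw [← e]; group
  have h2 : q⁻¹ = q * T t a 0 α' γ' := inv_eq_of_mul_eq_one_right (by rw [← mul_assoc, e', T_sq h])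
  rw [h1, ← (T0_cen h (inv_mem hq.1) α γ).eq, h2, mul_assoc, T_mul h, add_zero]

theorem b_T (h : t.Sl a b n) (l s α γ : F) :
    b l * T t a s α γ * (b l)⁻¹ = T t a s α (γ + α * l) := by
  rw [T, ← conj_mul, ← conj_mul, (t.r_comm (bA h l) s).mul_inv_cancel, h.facts.2.2.1,
    (h.facts.2.2.2.2.1 γ l).2.symm.mul_inv_cancel, T, add_comm, t.c_add]
  group

theorem h_T (h : t.Sl a b n) (s α γ : F) :
    t.h * T t a s α γ * t.h⁻¹ = T t a s (ω * α) (ω ^ 2 * γ) := by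
  rw [T, ← conj_mul, ← conj_mul, (t.r_comm t.mem'.2.2.2.1 s).mul_inv_cancel,
    (h.facts.2.2.2.2.2.2.2.2.2.2.2.2 α).1, (t.hact γ).2.2.1, T]

theorem n_inv (h : t.Sl a b n) : n⁻¹ = n := inv_eq_of_mul_eq_one_right h.facts.2.2.2.2.2.2.2.1

theorem n_T (h : t.Sl a b n) (s α γ : F) : n * T t a s α γ * n⁻¹ = T t a s γ α := by
  obtain ⟨-, -, -, -, f5, -, f7, -, f9, -⟩ := h.facts
  rw [T, ← conj_mul, ← conj_mul, (t.r_comm f7 s).mul_inv_cancel, n_inv h, (f9 α).1, (f9 γ).2, T,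
    mul_assoc, (f5 α γ).1.eq, mul_assoc]

theorem yQ (μ : F) {u : G} (hu : u ∈ t.QA) : Commute (t.y μ) u := (t.y_D μ u (t.QA_le_D hu)).symm

theorem y_T (h : t.Sl a b n) (μ s α γ : F) :
    t.y μ * T t a s α γ * (t.y μ)⁻¹ = T t a s α (γ + μ * s) := by
  have := T_conj h (fun α => yQ μ (h.facts.2.2.2.1 α).1) (fun γ => yQ μ (t.letters_mem γ).2.2.2.2.1)
    (s := s) (α := 0) (γ := μ * s) (by rw [t.y_r, T, add_zero' h.facts.1, mul_one]) α γ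
  rwa [zero_add, add_comm] at this

theorem T_y (h : t.Sl a b n) (μ s α γ : F) :
    T t a s α γ * t.y μ = t.y μ * T t a s α (γ + μ * s) := by
  have := y_T h μ s α (γ + μ * s)
  rw [add_assoc, CharTwo.add_self_eq_zero, add_zero] at this
  rw [← this]; group

theorem yW (h : t.Sl a b n) (μ : F) : t.y μ ∈ W2 h := by
  refine ⟨⟨fun α => yQ μ (h.facts.2.2.2.1 α).1, fun γ => yQ μ (t.letters_mem γ).2.2.2.2.1, t.y_ξ μ,
    fun o ho => (t.y_O μ o ho).symm, fun s => ⟨_, _, by rw [T_r h, y_T h]⟩⟩, 2, ?_⟩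
  obtain ⟨τ, e⟩ := t.y_mul μ μ
  rw [CharTwo.add_self_eq_zero, t.y_zero, one_mul] at e
  rw [show 2 ^ 2 = 2 * 2 from rfl, pow_mul, sq, sq, e, add_sq t.c_add]

/-- Conjugation by an element of `A` normalising `E`. -/
theorem conj_mem (h : t.Sl a b n) {k g : G} (hk : k ∈ t.A) (hξ : Commute t.ξ k)
    (h1 : ∀ s α γ, ∃ α' γ', k * T t a s α γ * k⁻¹ = T t a s α' γ')
    (h2 : ∀ α γ, ∃ α' γ', k * T t a 0 α' γ' * k⁻¹ = T t a 0 α γ) (hg : g ∈ W2 h) :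
    k * g * k⁻¹ ∈ W2 h := by
  have h3 : ∀ α γ, Commute (k * g * k⁻¹) (T t a 0 α γ) := fun α γ => by
    obtain ⟨α', γ', e⟩ := h2 α γ
    exact e ▸ (T0_cen h hg.1 α' γ').conj k
  obtain ⟨⟨-, -, g3, g4, g5⟩, j, hj⟩ := hg
  refine ⟨⟨fun α => ?_, fun γ => T_c h γ ▸ h3 0 γ, (hξ.symm.mul_left g3).mul_left hξ.symm.inv_left,
    fun o ho => ((t.comm_K hk (OK ho)).mul_left (g4 o ho)).mul_left (t.comm_K hk (OK ho)).inv_left,
    fun s => ?_⟩, j, by rw [conj_pow, hj]; simp⟩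
  · simpa only [T, add_zero' t.r_add, add_zero' t.c_add, one_mul, mul_one] using h3 α 0
  · obtain ⟨α, γ, e⟩ := g5 s
    obtain ⟨α', γ', e'⟩ := h1 s α γ
    refine ⟨α', γ', ?_⟩
    rw [← e', ← e]
    nth_rewrite 1 [← (t.r_comm hk s).mul_inv_cancel]
    group

/-- The conjugated translations. -/
def Y (t : Tr m G) (n : G) (ν : F) : G := n * t.y ν * n⁻¹

theorem Y_mem (h : t.Sl a b n) (ν : F) : Y t n ν ∈ W2 h :=
  conj_mem h h.facts.2.2.2.2.2.2.1 h.facts.2.2.2.2.2.2.2.2.2.2.1 (fun _ _ _ => ⟨_, _, n_T h _ _ _⟩)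
    (fun _ _ => ⟨_, _, n_T h _ _ _⟩) (yW h ν)

theorem b_mem (h : t.Sl a b n) (l : F) {g : G} (hg : g ∈ W2 h) : b l * g * (b l)⁻¹ ∈ W2 h :=
  conj_mem h (bA h l) (h.facts.2.2.2.2.2.2.2.2.2.2.2.1 l).2 (fun _ _ _ => ⟨_, _, b_T h _ _ _ _⟩)
    (fun α γ => ⟨α, γ + α * l, by rw [b_T h, add_assoc, CharTwo.add_self_eq_zero, add_zero]⟩) hg

theorem Y_T (h : t.Sl a b n) (ν s α γ : F) :
    Y t n ν * T t a s α γ * (Y t n ν)⁻¹ = T t a s (α + ν * s) γ := by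
  rw [← n_T h s γ α, ← n_T h s γ, ← y_T h, Y]; group

theorem Y_T' (h : t.Sl a b n) (ν s α γ : F) :
    (Y t n ν)⁻¹ * T t a s α γ * Y t n ν = T t a s (α + ν * s) γ := by
  have := Y_T h ν s (α + ν * s) γ
  rw [add_assoc, CharTwo.add_self_eq_zero, add_zero] at this
  rw [← this]; group

/-- The commutator `Δ`. -/
def D (t : Tr m G) (b : F → G) (n : G) (l ν : F) : G := (Y t n ν)⁻¹ * (b l * Y t n ν * (b l)⁻¹)

theorem delta (h : t.Sl a b n) (l ν : F) : ∃ β ε δ, D t b n l ν = t.y (l * ν) * T t a β ε δ := by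
  obtain ⟨β, ε, δ, e⟩ := eq_T h (mul_mem (inv_mem (yW h (l * ν)))
    (mul_mem (inv_mem (Y_mem h ν)) (b_mem h l (Y_mem h ν)))) fun s => by
      have h1 := (t.r_comm (bA h l) s).inv_mul_cancel
      refine mul_inv_eq_iff_eq_mul.1 ?_
      calc _ = (t.y (l * ν))⁻¹ * ((Y t n ν)⁻¹ * (b l * (Y t n ν * ((b l)⁻¹ * t.r s * b l) * (Y t n ν)⁻¹) *
          (b l)⁻¹) * Y t n ν) * t.y (l * ν) := by group
        _ = _ := by
          rw [h1, T_r h, Y_T h, b_T h, Y_T' h, mul_assoc, T_y h, inv_mul_cancel_left]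
          congr 1
          · linear_combination (ν * s) * F_two
          · linear_combination (ν * s * l) * F_two
  exact ⟨β, ε, δ, by rw [← e, D, mul_inv_cancel_left]⟩

theorem coc (h : t.Sl a b n) {l l' ν β ε δ β' ε' δ' β'' ε'' δ'' τ : F}
    (e1 : D t b n l ν = t.y (l * ν) * T t a β ε δ) (e2 : D t b n l' ν = t.y (l' * ν) * T t a β' ε' δ')
    (e3 : D t b n (l + l') ν = t.y ((l + l') * ν) * T t a β'' ε'' δ'')
    (hτ : t.y (l * ν) * t.y (l' * ν) = t.y (l * ν + l' * ν) * t.c τ) :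
    β'' = β + β' ∧ ε'' = ε + ε' ∧ δ'' = τ + δ + l' * ν * β + δ' + ε' * l := by
  have h1 : D t b n (l + l') ν = D t b n l ν * (b l * D t b n l' ν * (b l)⁻¹) := by
    simp only [D, h.facts.2.1]; group
  rw [e1, e2, e3, ← conj_mul, (yQ _ (h.facts.2.2.2.1 l).2).symm.mul_inv_cancel, b_T h, mul_assoc,
    ← mul_assoc (T t a β ε δ), T_y h, mul_assoc, T_mul h, ← mul_assoc, hτ, mul_assoc, T_c h, T_mul h,
    add_mul] at h1
  obtain ⟨h2, h3, h4⟩ := T_inj h (mul_left_cancel h1)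
  exact ⟨by rw [h2, zero_add], by rw [h3, zero_add], by rw [h4]; ring⟩

theorem D_zero (h : t.Sl a b n) {ν β ε δ : F} (e : D t b n 0 ν = t.y (0 * ν) * T t a β ε δ) :
    β = 0 ∧ ε = 0 ∧ δ = 0 := by
  rw [D, add_zero' h.facts.2.1, zero_mul, t.y_zero] at e
  exact T_inj h (by rw [T_zero h]; simpa using e.symm)

theorem eps (h : t.Sl a b n) {γ0 : F} (h0 : ∀ μ, t.y μ * t.y μ = t.c (γ0 * μ)) {l ν β ε δ : F} (hl : l ≠ 0)
    (e : D t b n l ν = t.y (l * ν) * T t a β ε δ) : ε = ν * (γ0 + β) := by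
  obtain ⟨β'', ε'', δ'', e3⟩ := delta h (l + l) ν
  have h1 := (coc h e e e3 (τ := γ0 * (l * ν))
    (by rw [CharTwo.add_self_eq_zero, t.y_zero, one_mul, h0])).2.2
  rw [CharTwo.add_self_eq_zero] at e3
  rw [(D_zero h e3).2.2] at h1
  exact mul_left_cancel₀ hl (by linear_combination h1 + (ε * l + δ) * F_two)

theorem y_sq (t : Tr m G) (μ : F) : t.y μ * t.y μ = 1 := by
  have h : t.Sl t.a t.b t.n1 := .inl ⟨rfl, rfl, rfl⟩
  obtain ⟨γ0, e⟩ := t.y_mul 1 1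
  rw [CharTwo.add_self_eq_zero, t.y_zero, one_mul] at e
  have h1 : ∀ μ, t.y μ * t.y μ = t.c (γ0 * μ) → t.y (ω ^ 2 * μ) * t.y (ω ^ 2 * μ) = t.c (γ0 * (ω ^ 2 * μ)) :=
    fun μ e => by rw [← t.y_h, conj_mul, e, (t.hact _).2.2.1, mul_left_comm]
  have h0 : ∀ μ, t.y μ * t.y μ = t.c (γ0 * μ) := fun μ => by
    have h2 := h1 1 (by rwa [mul_one])
    have h3 := h1 _ h2
    rw [show ω ^ 2 * (ω ^ 2 * 1) = ω by decide +kernel] at h3
    rw [mul_one] at h2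
    rcases F_cases μ with rfl | rfl | rfl | rfl
    exacts [by rw [t.y_zero, mul_zero, add_zero' t.c_add, mul_one], by rwa [mul_one], h3, h2]
  obtain ⟨β, ε, δ, e1⟩ := delta h 1 1
  obtain ⟨β', ε', δ', e2⟩ := delta h ω 1
  obtain ⟨β'', ε'', δ'', e3⟩ := delta h (1 + ω) 1
  obtain ⟨τ, hτ⟩ := t.y_mul (1 * 1) (ω * 1)
  obtain ⟨h2, h3, -⟩ := coc h e1 e2 e3 hτ
  rw [eps h h0 one_ne_zero e1, eps h h0 ω_ne.1 e2, eps h h0 (by decide +kernel) e3, h2] at h3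
  rw [h0, show γ0 = 0 by linear_combination -h3, zero_mul, add_zero' t.c_add]

end Del

open Del

theorem Tr.y_add (t : Tr m G) (μ ν : F) : t.y (μ + ν) = t.y μ * t.y ν := by
  obtain ⟨τ, e⟩ := t.y_mul 1 ω
  have h1 : ∀ μ ν τ, t.y μ * t.y ν = t.y (μ + ν) * t.c τ → t.y (ω ^ 2 * μ) * t.y (ω ^ 2 * ν) =
      t.y (ω ^ 2 * μ + ω ^ 2 * ν) * t.c (ω ^ 2 * τ) := fun μ ν τ e => by
    rw [← mul_add, ← t.y_h, ← t.y_h, ← t.y_h, conj_mul, e, ← (t.hact _).2.2.1, conj_mul]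
  have e2 := h1 _ _ _ e
  rw [show ω ^ 2 * ω = 1 by decide +kernel, mul_one, show ω ^ 2 + 1 = ω by decide +kernel] at e2
  rw [show 1 + ω = ω ^ 2 by decide +kernel] at e
  have h2 : τ = 0 := by
    have h3 : t.c τ = t.c (ω ^ 2 * τ) := by
      rw [← inv_mul_eq_iff_eq_mul.2 e, ← inv_mul_eq_iff_eq_mul.2 e2,
        inv_eq_of_mul_eq_one_right (y_sq t _), inv_eq_of_mul_eq_one_right (y_sq t _),
        ((t.y_comm ω _).mul_right (t.y_comm ω _)).eq, mul_assoc]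
    exact (mul_eq_zero.1 (show (1 - ω ^ 2) * τ = 0 by linear_combination t.c_eq.1 h3)).resolve_left
      (sub_ne_zero.2 ω_ne.2.2.2.1.symm)
  rw [h2, mul_zero, add_zero' t.c_add, mul_one] at e2
  rw [h2, add_zero' t.c_add, mul_one] at e
  have e3 : t.y ω * t.y (ω ^ 2) = t.y 1 := by rw [← e, (t.y_comm 1 ω).eq, ← mul_assoc, y_sq, one_mul]
  have h4 : ∀ μ, t.y (μ + μ) = t.y μ * t.y μ := fun μ => by rw [y_sq, CharTwo.add_self_eq_zero, t.y_zero]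
  have h5 : ∀ μ ν, t.y (μ + ν) = t.y μ * t.y ν → t.y (ν + μ) = t.y ν * t.y μ := fun μ ν e => by
    rw [add_comm, e, (t.y_comm _ _).eq]
  have h6 : ∀ μ, t.y (0 + μ) = t.y 0 * t.y μ := fun μ => by rw [zero_add, t.y_zero, one_mul]
  have s1 : t.y (1 + ω) = t.y 1 * t.y ω := (congrArg t.y (by decide +kernel)).trans e.symm
  have s2 : t.y (ω ^ 2 + 1) = t.y (ω ^ 2) * t.y 1 := (congrArg t.y (by decide +kernel)).trans e2.symm
  have s3 : t.y (ω + ω ^ 2) = t.y ω * t.y (ω ^ 2) := (congrArg t.y (by decide +kernel)).trans e3.symm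
  rcases F_cases μ with rfl | rfl | rfl | rfl <;> rcases F_cases ν with rfl | rfl | rfl | rfl
  exacts [h4 _, h6 _, h6 _, h6 _, h5 _ _ (h6 _), h4 _, s1, h5 _ _ s2, h5 _ _ (h6 _), h5 _ _ s1, h4 _, s3,
    h5 _ _ (h6 _), s2, h5 _ _ s3, h4 _]

namespace Del

theorem lin {f : F → F} (h : ∀ s t, f (s + t) = f s + f t) (k : f ω = ω * f 1) (s : F) : f s = s * f 1 := by
  have h0 : f 0 = 0 := by simpa using h 0 0
  rcases F_cases s with rfl | rfl | rfl | rfl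
  · rw [h0, zero_mul]
  · rw [one_mul]
  · exact k
  · rw [show ω ^ 2 = ω + 1 by decide +kernel, h, k]; ring

end Del

theorem Tr.exists_del (t : Tr m G) {a b : F → G} {n : G} (h : t.Sl a b n) : ∃ β, t.Del a b n β := by
  choose β ε δ hD using delta h
  have Ysq : ∀ ν, Y t n ν * Y t n ν = 1 := fun ν => by rw [Y, conj_mul, y_sq]; simp
  have Yinv : ∀ ν, (Y t n ν)⁻¹ = Y t n ν := fun ν => inv_eq_of_mul_eq_one_right (Ysq ν)
  have Yeq : ∀ ν, n * t.y ν * n = Y t n ν := fun ν => by rw [Y, n_inv h]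
  have c1 := fun l l' ν => coc h (hD l ν) (hD l' ν) (hD (l + l') ν) (τ := 0)
    (by rw [t.y_add, add_zero' t.c_add, mul_one])
  have c2 : ∀ l ν, ε l ν = ν * β l ν := fun l ν => by
    by_cases hl : l = 0
    · rw [hl, (D_zero h (hD 0 ν)).1, (D_zero h (hD 0 ν)).2.1, mul_zero]
    · rw [eps h (γ0 := 0) (fun μ => by rw [y_sq, zero_mul, add_zero' t.c_add]) hl (hD l ν), zero_add]
  choose A C hA using fun μ ν => comm_T h (Y_mem h ν) (yW h μ)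
  have c3 : ∀ l ν ν', β l (ν + ν') = β l ν + β l ν' ∧
      ε l (ν + ν') = A (l * ν) ν' + (ε l ν + ν' * β l ν) + ε l ν' ∧
      δ l (ν + ν') = C (l * ν) ν' + δ l ν + l * ν' * β l ν + δ l ν' := fun l ν ν' => by
    have h1 : D t b n l (ν + ν') = (Y t n ν')⁻¹ * D t b n l ν * Y t n ν' * D t b n l ν' := by
      simp only [D, Y, t.y_add]; group
    have h2 : (Y t n ν')⁻¹ * (t.y (l * ν) * T t a (β l ν) (ε l ν) (δ l ν)) * Y t n ν' =
        Y t n ν' * t.y (l * ν) * Y t n ν' * ((Y t n ν')⁻¹ * T t a (β l ν) (ε l ν) (δ l ν) * Y t n ν') := by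
      nth_rewrite 1 [Yinv]
      group
    rw [hD, hD, hD, h2, hA, Y_T' h, mul_assoc (t.y _), T_mul h, mul_assoc, ← mul_assoc (T ..), T_y h,
      mul_assoc, T_mul h, ← mul_assoc, ← t.y_add, ← mul_add] at h1
    simpa only [zero_add] using T_inj h (mul_left_cancel h1)
  have c4 : ∀ l ν ν', A (l * ν) ν' = ν * β l ν' := fun l ν ν' => by
    obtain ⟨h1, h2, -⟩ := c3 l ν ν'
    rw [c2, c2, c2, h1] at h2
    linear_combination -h2
  have c5 : ∀ l ν, β l ν = l * β 1 ν := fun l ν => by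
    rw [← c4, one_mul, ← one_mul (β l ν), ← c4, mul_one]
  have c6 : ∀ l ν, β (ω * l) (ω * ν) = β l ν ∧ δ (ω * l) (ω * ν) = ω ^ 2 * δ l ν := fun l ν => by
    obtain ⟨j, hj⟩ := h.facts.2.2.2.2.2.2.2.2.2.1
    have h1 : t.h * Y t n ν * t.h⁻¹ = Y t n (ω * ν) := by
      have h2 := t.y_h (ω * ν)
      rw [← mul_assoc (ω ^ 2), ← pow_succ, ω_cube, one_mul] at h2
      calc _ = n⁻¹ * (n * t.h * n) * t.y ν * (n * t.h * n)⁻¹ * n := by rw [Y]; group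
        _ = n⁻¹ * t.h⁻¹ * (t.ξ ^ j * t.y ν * (t.ξ ^ j)⁻¹) * t.h * n := by rw [hj]; group
        _ = _ := by
          rw [((t.y_ξ ν).pow_right j).symm.mul_inv_cancel, ← h2, ← Yeq, n_inv h]; group
    have h2 : D t b n (ω * l) (ω * ν) = t.h * D t b n l ν * t.h⁻¹ := by
      rw [D, D, ← h1, ← (h.facts.2.2.2.2.2.2.2.2.2.2.2.2 l).2]; group
    rw [hD, hD, ← conj_mul, h_T h, t.y_h, show ω ^ 2 * (l * ν) = ω * l * (ω * ν) by ring] at h2
    exact ⟨(T_inj h (mul_left_cancel h2)).1, (T_inj h (mul_left_cancel h2)).2.2⟩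
  have c7 : ∀ l ν, β l ν = β 1 1 * l * ν ^ 2 := fun l ν => by
    have h1 : ∀ ν, β 1 (ω * ν) = ω ^ 2 * β 1 ν := fun ν => by
      rw [← (c6 1 ν).1, c5 (ω * 1)]; linear_combination (-β 1 (ω * ν)) * ω_cube
    have h2 := h1 1
    have h3 := h1 ω
    have h4 := (c3 1 0 0).1
    rw [mul_one] at h2
    rw [← sq, h2] at h3
    rw [add_zero] at h4
    rw [c5]
    rcases F_cases ν with rfl | rfl | rfl | rfl
    · linear_combination (-l) * h4
    · ring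
    · rw [h2]; ring
    · rw [h3]; ring
  have c8 : ∀ μ ν, A μ ν = β 1 1 * μ * ν ^ 2 := fun μ ν => by rw [← c7, ← one_mul (β μ ν), ← c4, mul_one]
  have c9 : ∀ μ ν, C μ ν = A ν μ := fun μ ν => by
    have h1 : t.y ν * Y t n μ * t.y ν = Y t n μ * T t a 0 (C μ ν) (A μ ν) := by
      rw [← n_T h, Y, conj_mul, ← hA, ← Yeq, n_inv h]
      simp only [mul_assoc, ← mul_assoc n n, h.facts.2.2.2.2.2.2.2.1, one_mul, mul_one]
    have h2 : t.y ν * (Y t n μ * t.y ν * Y t n μ) = t.y ν * Y t n μ * t.y ν * Y t n μ := by group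
    rw [hA, h1, ← mul_assoc, y_sq, one_mul, mul_assoc, ← (T0_cen h (Y_mem h μ).1 _ _).eq, ← mul_assoc,
      Ysq, one_mul] at h2
    exact (T_inj h h2).2.1.symm
  have c10 : ∀ l ν, n * t.y ν * n * b l * (n * t.y ν * n) =
      t.y (l * ν) * t.r (β l ν) * a (ε l ν) * b l * t.c (δ l ν) := fun l ν => by
    have h1 := hD l ν
    rw [D, Yinv, ← mul_assoc, mul_inv_eq_iff_eq_mul, ← mul_assoc] at h1
    rw [Yeq, h1, T, mul_assoc, mul_assoc, (h.facts.2.2.2.2.1 _ _).2.eq]; group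
  refine ⟨β 1 1, fun l ν => ⟨δ l ν, ?_⟩, fun μ ν => ?_, fun h0 => ⟨δ 1 1, fun l ν => ?_⟩⟩
  · rw [c10, c2, c7 l ν, show ν * (β 1 1 * l * ν ^ 2) = β 1 1 * l * ν ^ 3 by ring]
  · rw [Yeq, hA, c9, c8, c8, T, add_zero' t.r_add, one_mul, ← mul_assoc,
      show β 1 1 * ν * μ ^ 2 = β 1 1 * μ ^ 2 * ν by ring]
  · have b0 : ∀ l ν, β l ν = 0 := fun l ν => by rw [c7, h0]; ring
    have d1 : ∀ ν l l', δ (l + l') ν = δ l ν + δ l' ν := fun ν l l' => by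
      rw [(c1 l l' ν).2.2, c2, b0, b0]; ring
    have d2 : ∀ l ν ν', δ l (ν + ν') = δ l ν + δ l ν' := fun l ν ν' => by
      rw [(c3 l ν ν').2.2, c9, c8, b0, b0]; ring
    have d3 := (c6 1 1).2
    have d4 := (c6 1 ω).2
    have d5 := (c6 ω 1).2
    rw [show ω * ω = ω + 1 by decide +kernel, mul_one] at d4 d5
    rw [mul_one] at d3
    rw [d2, d3] at d4
    rw [d1, d3] at d5
    obtain ⟨d6, d7⟩ := (by decide +kernel : ∀ x y z : F, ω ^ 2 * x + z = ω ^ 2 * y →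
      ω ^ 2 * x + y = ω ^ 2 * z → y = ω * x ∧ z = ω * x) _ _ _ d4 d5
    have d8 := lin (d2 1) d6 ν
    have d9 := lin (d2 ω) (by rw [d3, d7]; ring) ν
    rw [c10, c2, b0, mul_zero, add_zero' t.r_add, add_zero' h.facts.1, mul_one, mul_one,
      show δ l ν = l * δ 1 ν from lin (f := fun l => δ l ν) (d1 ν) (by rw [d8, d9, d7]; ring) l, d8,
      show l * (ν * δ 1 1) = δ 1 1 * l * ν by ring]

end Cfsg.Agent.STA
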