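import Mathlib
import Cfsg.Agent.STA.Del

/-! The parameter `β` and the normalizer of `V` (PLAN: Beta). -/

set_option autoImplicit false
set_option linter.unusedSectionVars false

namespace Cfsg.Agent.STA

open Cfsg Cfsg.Agent.Loc.Mss Subgroup Equiv
open Cfsg.Agent.Spor (ES2 Eqv)

namespace Beta

variable {m : Bool} {G : Type*} [Group G] [Finite G] {t : Tr m G} {a b : F → G} {n n' : G} {β β' : F}

theorem odd_pow {x : G} (h : x * x = 1) {k : ℕ} (hk : Odd k) : x ^ k = x := by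
  obtain ⟨j, rfl⟩ := hk
  rw [pow_succ, pow_mul, pow_two, h, one_pow, one_mul]

theorem cm {j : G} (h : j * j = 1) (u v : G) : j * (u * v) * j = j * u * j * (j * v * j) := by
  calc _ = j * u * (j * j) * v * j := by rw [h]; group
    _ = _ := by group

theorem fix {j u : G} (h : j * j = 1) (e : Commute j u) : j * u * j = u := by
  rw [e.eq, mul_assoc, h, mul_one]

theorem yQ (t : Tr m G) (μ : F) {u : G} (hu : u ∈ t.QA) : Commute (t.y μ) u :=
  (t.y_D μ u (t.QA_le_D hu)).symm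

theorem rQ (t : Tr m G) (s : F) {u : G} (hu : u ∈ t.QA) : Commute u (t.r s) :=
  t.r_comm (t.D_le_A (t.QA_le_D hu)) s

theorem cQ (t : Tr m G) (s : F) : t.c s ∈ t.QA := (t.letters_mem s).2.2.2.2.1

theorem yy (t : Tr m G) (μ : F) : t.y μ * t.y μ = 1 := add_sq t.y_add μ

theorem yr (t : Tr m G) (μ s : F) : t.y μ * t.r s * t.y μ = t.r s * t.c (μ * s) := by
  rw [← t.y_r, add_inv t.y_add]

theorem yr' (t : Tr m G) (μ s : F) : (t.y μ)⁻¹ * t.r s * t.y μ = t.r s * t.c (μ * s) := by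
  rw [add_inv t.y_add, yr]

/-- The normal form. -/
def E (t : Tr m G) (a b : F → G) (μ s α β γ : F) : G := t.y μ * t.r s * a α * b β * t.c γ

theorem E_mul (hs : t.Sl a b n) (μ s α β γ μ' s' α' β' γ' : F) :
    E t a b μ s α β γ * E t a b μ' s' α' β' γ' =
      E t a b (μ + μ') (s + s') (α + α') (β + β') (γ + γ' + μ' * s + α' * β) := by
  obtain ⟨aa, bb, ba, mq, cc, -⟩ := hs.facts
  have h1 : ∀ s μ x, t.r s * (t.y μ * x) = t.y μ * (t.r s * (t.c (μ * s) * x)) := fun s μ x => by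
    rw [← mul_assoc (t.r s) (t.c _), ← yr, ← mul_assoc, ← mul_assoc, ← mul_assoc, ← mul_assoc, yy, one_mul]
  have h2 : ∀ s μ x, b s * (a μ * x) = a μ * (b s * (t.c (μ * s) * x)) := fun s μ x => by
    rw [← (cc _ _).2.left_comm, ← mul_assoc (a μ), ← ba]
    group
  have h3 : ∀ {f : F → G}, (∀ s t, f (s + t) = f s * f t) → ∀ s s' x, f s * (f s' * x) = f (s + s') * x :=
    fun h s s' x => by rw [h, mul_assoc]
  simp only [E, mul_assoc, h1, h2, h3 t.y_add, h3 t.r_add, h3 aa, h3 bb, ← t.c_add,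
    fun s μ => (yQ t μ (mq s).1).symm.left_comm, fun s μ => (yQ t μ (mq s).2).symm.left_comm,
    fun s μ => (yQ t μ (cQ t s)).symm.left_comm, fun s μ => (rQ t μ (mq s).1).left_comm,
    fun s μ => (rQ t μ (mq s).2).left_comm, fun s μ => (rQ t μ (cQ t s)).left_comm,
    fun s μ => (cc s μ).1.left_comm, fun s μ => (cc s μ).2.left_comm]
  congr 5
  ring

theorem E_let (hs : t.Sl a b n) : (∀ s, t.y s = E t a b s 0 0 0 0) ∧ (∀ s, t.r s = E t a b 0 s 0 0 0) ∧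
    (∀ s, a s = E t a b 0 0 s 0 0) ∧ (∀ s, b s = E t a b 0 0 0 s 0) ∧ ∀ s, t.c s = E t a b 0 0 0 0 s := by
  obtain ⟨aa, bb, -⟩ := hs.facts
  simp [E, t.y_zero, add_zero' t.r_add, add_zero' aa, add_zero' bb, add_zero' t.c_add]

theorem jj (hs : t.Sl a b n) (ν : F) : n * t.y ν * n * (n * t.y ν * n) = 1 := by
  obtain ⟨-, -, -, -, -, -, -, nn, -⟩ := hs.facts
  rw [← cm nn, yy, mul_one, nn]

theorem jr (hs : t.Sl a b n) (ν s : F) : n * t.y ν * n * t.r s * (n * t.y ν * n) = t.r s * a (ν * s) := by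
  obtain ⟨-, -, -, -, -, -, nA, nn, na, -⟩ := hs.facts
  have h := fix nn (t.r_comm nA s)
  calc _ = n * t.y ν * n * (n * t.r s * n) * (n * t.y ν * n) := by rw [h]
    _ = _ := by rw [← cm nn, ← cm nn, yr, cm nn, h, (na _).2]

theorem ja (hs : t.Sl a b n) (ν s : F) : n * t.y ν * n * a s * (n * t.y ν * n) = a s := by
  obtain ⟨-, -, -, -, -, -, -, nn, na, -⟩ := hs.facts
  rw [← (na s).2, ← cm nn, ← cm nn, fix (yy t ν) (yQ t ν (cQ t s))]

theorem jc (hs : t.Sl a b n) (ν s : F) : n * t.y ν * n * t.c s * (n * t.y ν * n) = t.c s := by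
  obtain ⟨-, -, -, mq, -, -, -, nn, na, -⟩ := hs.facts
  rw [← (na s).1, ← cm nn, ← cm nn, fix (yy t ν) (yQ t ν (mq s).1)]

theorem mul_eq (hs : t.Sl a b n) (hs' : t.Sl b a n') (d : t.Del a b n β) (d' : t.Del b a n' β') (h : β ≠ 0) :
    β * β' = 1 := by
  by_contra e
  obtain ⟨δ, h1⟩ := d.nb 1 β
  obtain ⟨δ', h2⟩ := d'.nb β 1
  have h3 := d'.ny β 1
  have h4 := jj hs β
  have h5 := jj hs' 1
  rw [show β * 1 * β ^ 2 = 1 by linear_combination F_cube h, show β * 1 * β ^ 3 = β by rw [F_cube h]; ring, one_mul] at h1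
  have h6 : ∃ γ, n' * t.y 1 * n' * (n * t.y β * n * b 1 * (n * t.y β * n)) * (n' * t.y 1 * n') =
      t.r (1 + β * β') * a β * t.c γ := by
    rw [h1, cm h5, cm h5, cm h5, cm h5, h3, jr hs', h2, ja hs', jc hs']
    obtain ⟨e1, e2, e3, e4, e5⟩ := E_let hs
    simp only [e1, e2, e3, e4, e5, E_mul hs]
    refine ⟨β' * β ^ 2 + δ' + δ + β + β * (β' * β + 1) + β * (β' * β), ?_⟩
    congr 1
    · linear_combination β * F_two
    · ring
    · ring
    · linear_combination (β * β' + 1) * F_two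
    · ring
  obtain ⟨γ, h6⟩ := h6
  have h7 := (t.inT hs (s := 1 + β * β') (fun e' => e (CharTwo.add_eq_zero.1 e').symm) β γ).conj
    (n * t.y β * n * (n' * t.y 1 * n'))
  refine t.not_inT hs' (α := 1) (γ := 0) (.inl one_ne_zero) ?_
  rw [add_zero' t.c_add, mul_one]
  convert h7 using 1
  rw [← h6, mul_inv_rev, inv_eq_of_mul_eq_one_right h4, inv_eq_of_mul_eq_one_right h5]
  generalize n * t.y β * n = j at h4
  generalize n' * t.y 1 * n' = j' at h5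
  calc _ = j * j * b 1 * (j * j) := by rw [h4]; group
    _ = j * (j' * j') * j * b 1 * j * (j' * j') * j := by rw [h5]; group
    _ = _ := by group

theorem not_zero (hs : t.Sl a b n) (hs' : t.Sl b a n') (d : t.Del a b n 0) (d' : t.Del b a n' 0) : False := by
  obtain ⟨δ, h1⟩ := d.zero rfl
  obtain ⟨δ', h2⟩ := d'.zero rfl
  obtain ⟨e1, e2, e3, e4, e5⟩ := E_let hs
  have h3 : ∀ μ, n' * t.y 1 * n' * t.y μ * (n' * t.y 1 * n') = t.y μ := fun μ => by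
    rw [d'.ny, zero_mul, zero_mul, zero_mul, zero_mul, add_zero' t.c_add, add_zero' hs.facts.2.1, mul_one, mul_one]
  have h4 := jj hs 1
  have h5 := jj hs' 1
  have h6 : ∀ s, n' * t.y 1 * n' * (n * t.y 1 * n * (n' * t.y 1 * n' * t.r s * (n' * t.y 1 * n')) * (n * t.y 1 * n)) *
      (n' * t.y 1 * n') = t.r s * a s * t.c (s ^ 2 + (δ + δ') * s) := fun s => by
    rw [jr hs', cm h4, jr hs, h1, cm h5, cm h5, cm h5, cm h5, jr hs', h2, h3, ja hs', jc hs']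
    simp only [e1, e2, e3, e4, e5, E_mul hs]
    congr 1
    · linear_combination s * F_two
    · ring
    · ring
    · linear_combination s * F_two
    · linear_combination s ^ 2 * F_two
  have h7 : ∀ s, (n * t.y 1 * n * (n' * t.y 1 * n')) ^ 2 * t.r s * ((n * t.y 1 * n * (n' * t.y 1 * n')) ^ 2)⁻¹ =
      t.r s * t.c (s ^ 2 + (δ + δ') * s) := fun s => by
    have h8 := congrArg (fun g => n * t.y 1 * n * g * (n * t.y 1 * n)) (h6 s)
    rw [cm h4 (t.r s * a s), cm h4 (t.r s), jr hs, ja hs, jc hs, one_mul, mul_assoc (t.r s), add_sq hs.facts.1,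
      mul_one] at h8
    rw [← h8, pow_two, mul_inv_rev, mul_inv_rev, inv_eq_of_mul_eq_one_right h4, inv_eq_of_mul_eq_one_right h5]
    generalize n * t.y 1 * n = j
    generalize n' * t.y 1 * n' = j'
    group
  obtain ⟨μ, h8⟩ := t.lin fun s => ⟨_, h7 s⟩
  have h9 := fun s => t.c_eq.1 (mul_left_cancel ((h7 s).symm.trans (h8 s)))
  exact ω_ne.2.2.2.2 (by linear_combination h9 ω - ω * h9 1)

theorem eq_of_true (hm : m = true) (d : t.Del t.a t.b t.n1 β) (d' : t.Del t.b t.a t.n2 β') : β = β' := by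
  obtain ⟨h1, -, h2⟩ := t.wact hm
  have ww := t.nn.2.2
  have h3 := fix ww (show Commute (t.y 1) t.w from (t.y_D 1 _ (t.letters_mem 0).2.2.2.2.2.2).symm).symm
  have h4 := congrArg (fun g => t.w * g * t.w) (d.ny 1 1)
  simp only [cm ww, h1, h3, (h2 _).1, fix ww (t.cc _ 0).2.2.2.2.2.symm] at h4
  rw [d'.ny, mul_assoc (t.y 1), mul_assoc (t.y 1), mul_right_inj] at h4
  obtain ⟨aa, -, -, -, cc, ac, -⟩ := Lt.Sl.facts (l := t.toLt) (.inr ⟨rfl, rfl, rfl⟩)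
  simp only [mul_one, one_pow] at h4
  refine CharTwo.add_eq_zero.1 (ac (β + β') (β + β') ?_).1
  rw [aa, t.c_add, mul_assoc, ← (cc β β').1.left_comm, h4, (cc β β).1.left_comm, add_sq t.c_add, mul_one,
    add_sq aa]

theorem r_eq (hs : t.Sl a b n) (d : t.Del a b n β) (h : β ≠ 0) (s : F) : ∃ l δ, t.r s =
    (t.y l)⁻¹ * (n * t.y 1 * n * b l * (n * t.y 1 * n)) * (t.c δ)⁻¹ * (b l)⁻¹ * (a s)⁻¹ := by
  obtain ⟨δ, e⟩ := d.nb (β ^ 2 * s) 1
  have h1 : β * (β ^ 2 * s) = s := by rw [← mul_assoc, ← pow_succ', F_cube h, one_mul]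
  simp only [one_pow, mul_one, h1] at e
  exact ⟨_, δ, by rw [e]; group⟩

theorem r_mem (hs : t.Sl a b n) (d : t.Del a b n β) (h : β ≠ 0) (s : F) : t.r s ∈ normalClosure (t.A : Set G) := by
  obtain ⟨l, δ, e⟩ := r_eq hs d h s
  obtain ⟨-, -, -, mq, -, -, nA, -⟩ := hs.facts
  have q : ∀ {u}, u ∈ t.QA → u ∈ normalClosure (t.A : Set G) := fun hu =>
    le_normalClosure (t.D_le_A (t.QA_le_D hu))
  have j := mul_mem (mul_mem (le_normalClosure nA) (t.y_mem 1)) (le_normalClosure nA)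
  rw [e]
  exact mul_mem (mul_mem (mul_mem (mul_mem (inv_mem (t.y_mem l)) (mul_mem (mul_mem j (q (mq l).2)) j))
    (inv_mem (q (cQ t δ)))) (inv_mem (q (mq l).2))) (inv_mem (q (mq s).1))

theorem odd_comm (hs : t.Sl a b n) (d : t.Del a b n β) (h : β ≠ 0) {k : G} (hk : k ∈ t.K) (ho : Odd (orderOf k))
    (hc : Commute k (t.r 1)) (s : F) : Commute k (t.r s) := by
  have q : ∀ {u}, u ∈ t.QA → Commute k u := fun hu => (t.comm_K (t.D_le_A (t.QA_le_D hu)) hk).symm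
  have h1 : ∀ ν, (t.y ν)⁻¹ * k * t.y ν ∈ t.K := fun ν => by
    have h2 : ∀ u ∈ t.QA, Commute ((t.y ν)⁻¹ * k * t.y ν) u := fun u hu =>
      ((yQ t ν hu).inv_left.mul_left (q hu)).mul_left (yQ t ν hu)
    have h3 : (t.y ν)⁻¹ * k * t.y ν * t.r 1 * ((t.y ν)⁻¹ * k * t.y ν)⁻¹ = t.r 1 := by
      calc _ = (t.y ν)⁻¹ * (k * (t.y ν * t.r 1 * (t.y ν)⁻¹) * k⁻¹) * t.y ν := by group
        _ = _ := by
          rw [t.y_r, (hc.mul_right (q (cQ t _))).mul_inv_cancel, ← t.y_r]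
          group
    obtain ⟨γ, h4⟩ := t.kf.k3 (t.mem_N one_ne_zero (h3.symm ▸ t.r_K 1)) fun u hu => (h2 u hu).symm
    have h5 := pow_mem h4 (orderOf k)
    rw [(h2 _ (cQ t γ)).symm.mul_pow, odd_pow (add_sq t.c_add γ) ho,
      show ((t.y ν)⁻¹ * k * t.y ν) ^ orderOf k = 1 by
        simpa using (conj_pow (a := (t.y ν)⁻¹) (b := k) (i := orderOf k)), mul_one] at h5
    rwa [t.eq_one_of_K (cQ t γ) h5, one_mul] at h4
  obtain ⟨l, δ, e⟩ := r_eq hs d h s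
  obtain ⟨-, -, -, mq, -, -, nA, -⟩ := hs.facts
  have y := fun μ => (t.y_K μ k h1).symm
  have j := (((t.comm_K nA hk).symm.mul_right (y 1)).mul_right (t.comm_K nA hk).symm)
  rw [e]
  exact ((((y l).inv_right.mul_right ((j.mul_right (q (mq l).2)).mul_right j)).mul_right
    (q (cQ t δ)).inv_right).mul_right (q (mq l).2).inv_right).mul_right (q (mq s).1).inv_right

theorem cen_of {g : G} (h1 : Commute g (t.r 1)) (h2 : Commute g (t.r ω)) : g ∈ 𝐂[t.R] := by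
  rintro _ ⟨s, rfl⟩
  refine Commute.symm ?_
  rcases F_cases s with rfl | rfl | rfl | rfl
  · rw [add_zero' t.r_add]
    exact Commute.one_right g
  · exact h1
  · exact h2
  · rw [show ω ^ 2 = 1 + ω by decide +kernel, t.r_add]
    exact h1.mul_right h2

theorem cenR (hs : t.Sl a b n) (d : t.Del a b n β) (h : β ≠ 0) {g : G} (hg : g ∈ 𝐂[t.X])
    (hc : Commute g (t.r 1)) : g ∈ 𝐂[t.R] := by
  have gc : ∀ s, Commute g (t.c s) := fun s => (hg _ ⟨s, rfl⟩).symm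
  have h1 := t.cj_K (t.mem_N one_ne_zero (hc.mul_inv_cancel.symm ▸ t.r_K 1)) (t.r_K ω)
  have h2 : Commute (g * t.r ω * g⁻¹) (t.r 1) := (hc.mul_left (add_commute t.r_add _ _)).mul_left hc.inv_left
  have h3 : g * t.r ω * g⁻¹ * (g * t.r ω * g⁻¹) = 1 := by rw [conj_mul, add_sq t.r_add, mul_one, mul_inv_cancel]
  obtain ⟨s, e⟩ : g * t.r ω * g⁻¹ ∈ t.R := by
    generalize g * t.r ω * g⁻¹ = u at h1 h2 h3
    refine t.mem_R_of h1 (cen_of h2 ?_) ⟨1, by rw [pow_one, pow_two, h3]⟩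
    have h4 := mul_mem h1 (t.r_K ω)
    have h5 := h2.mul_left (add_commute t.r_add ω 1)
    have rr := add_sq t.r_add ω
    obtain ⟨j, k, hk, e⟩ := Nat.exists_eq_two_pow_mul_odd (orderOf_pos (u * t.r ω)).ne'
    have h6 := t.sq_of_K (pow_mem h4 k) ⟨j, by rw [← pow_mul, mul_comm k, ← e, pow_orderOf_eq_one]⟩
    rw [← (Commute.refl _).mul_pow] at h6
    have h7 := odd_comm hs d h (mul_mem h4 h4) (hk.of_dvd_nat (orderOf_dvd_of_pow_eq_one h6)) (h5.mul_left h5) ω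
    have h8 : ∀ {x y : G}, x * x = 1 → y * y = 1 → (x * y)⁻¹ = y * x := fun hx hy => by
      rw [mul_inv_rev, inv_eq_of_mul_eq_one_right hx, inv_eq_of_mul_eq_one_right hy]
    rw [odd_pow _ hk] at h6
    · exact (inv_eq_of_mul_eq_one_right h6).symm.trans (h8 h3 rr)
    · have h9 := fix rr h7.symm
      rw [cm rr, ← mul_assoc (t.r ω) u, mul_assoc (t.r ω * u) (t.r ω), rr, mul_one, ← h8 h3 rr] at h9
      nth_rewrite 1 [← h9]
      group
  have h4 : (t.y 1)⁻¹ * g * t.y 1 * t.r 1 * ((t.y 1)⁻¹ * g * t.y 1)⁻¹ = t.r 1 := by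
    calc _ = (t.y 1)⁻¹ * (g * (t.y 1 * t.r 1 * (t.y 1)⁻¹) * g⁻¹) * t.y 1 := by group
      _ = _ := by
        rw [t.y_r, (hc.mul_right (gc _)).mul_inv_cancel, ← t.y_r]
        group
  have h5 := t.cj_K (t.mem_N one_ne_zero (h4.symm ▸ t.r_K 1)) (t.r_K ω)
  have h6 : (t.y 1)⁻¹ * g * t.y 1 * t.r ω * ((t.y 1)⁻¹ * g * t.y 1)⁻¹ = t.r s * t.c (s + ω) := by
    calc _ = (t.y 1)⁻¹ * (g * (t.y 1 * t.r ω * (t.y 1)⁻¹) * g⁻¹) * t.y 1 := by group
      _ = (t.y 1)⁻¹ * (g * t.r ω * g⁻¹) * t.y 1 * ((t.y 1)⁻¹ * (g * t.c ω * g⁻¹) * t.y 1) := by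
        rw [t.y_r, one_mul]; group
      _ = _ := by
        rw [e, yr', (gc ω).mul_inv_cancel, add_inv t.y_add, fix (yy t 1) (yQ t 1 (cQ t ω)), one_mul, t.c_add,
          mul_assoc]
  rw [h6, mul_mem_cancel_left (t.r_K s)] at h5
  obtain rfl := CharTwo.add_eq_zero.1 (t.c_inj _ (t.eq_one_of_K (cQ t _) h5))
  exact cen_of hc (mul_inv_eq_iff_eq_mul.1 e)

theorem normW {g : G} (hg : g ∈ 𝐍[t.X]) (h : ∀ s, ∃ s' γ, g * t.r s * g⁻¹ = t.r s' * t.c γ) : g ∈ 𝐍[t.W] := by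
  have yW : ∀ μ, t.y μ ∈ t.W := fun μ => mem_sup_right (subset_closure ⟨μ, .inl rfl⟩)
  have rW : ∀ μ, t.r μ ∈ t.W := fun μ => mem_sup_right (subset_closure ⟨μ, .inr rfl⟩)
  obtain ⟨s, γ, e⟩ := h 1
  have s0 : s ≠ 0 := by
    rintro rfl
    rw [add_zero' t.r_add, one_mul] at e
    refine t.long γ ?_ ⟨g⁻¹, by simpa [← e, mul_assoc] using t.r_K 1⟩
    rintro rfl
    rw [add_zero' t.c_add, conj_eq_one_iff] at e
    exact one_ne_zero (t.r_inj 1 e)
  have h0 : ∀ μ s γ, (t.y μ)⁻¹ * (t.r s * t.c γ) * t.y μ = t.r s * t.c (μ * s + γ) := fun μ s γ => by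
    rw [add_inv t.y_add, cm (yy t μ), yr, fix (yy t μ) (yQ t μ (cQ t γ)), t.c_add, mul_assoc]
  obtain ⟨k, hk⟩ : ∃ k, k = (t.y (γ / s))⁻¹ * g := ⟨_, rfl⟩
  have h1 : ∀ u, k * u * k⁻¹ = (t.y (γ / s))⁻¹ * (g * u * g⁻¹) * t.y (γ / s) := fun u => by rw [hk]; group
  have kN : k ∈ t.N := t.mem_N one_ne_zero (by
    rw [h1, e, h0, div_mul_cancel₀ _ s0, CharTwo.add_self_eq_zero, add_zero' t.c_add, mul_one]
    exact t.r_K s)
  have kX : k ∈ 𝐍[t.X] := hk ▸ mul_mem (inv_mem (cent_le_norm _ (cent_anti (t.X_le_QA.trans t.QA_le_D) (t.y_D _)))) hg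
  have kQ := t.kf.k2 k kN kX
  have kR : k ∈ 𝐍[t.R] := mem_norm_of_cj_le (cj_le_iff.2 (by
    rintro _ ⟨s', rfl⟩
    obtain ⟨s'', γ', e'⟩ := h s'
    have h2 := t.cj_K kN (t.r_K s')
    rw [h1, e', h0] at h2 ⊢
    rw [t.eq_one_of_K (cQ t _) ((mul_mem_cancel_left (t.r_K s'')).1 h2), mul_one]
    exact ⟨s'', rfl⟩))
  have kO : k ∈ 𝐍[t.O] := mem_norm_of_cj_le (cj_le_iff.2 fun o ho => by
    obtain ⟨o1, o2, o3⟩ := (t.mem_O o).1 ho
    exact (t.mem_O _).2 ⟨t.cj_K kN o1, conj_mem_of_norm (norm_cent le_rfl kR) o2, by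
      rwa [← MulAut.conj_apply, MulEquiv.orderOf_eq]⟩)
  have kW : k ∈ 𝐍[t.W] := mem_norm_of_cj_le (map_le_iff_le_comap.2 (sup_le (fun u hu =>
    mem_sup_left (conj_mem_of_norm kQ hu)) ((closure_le _).2 (by
      rintro _ ⟨μ, rfl | rfl⟩
      · obtain ⟨ν, s', γ', e'⟩ := t.can (k * t.y μ * k⁻¹)
          (conj_mem_of_norm (norm_cent le_rfl kQ) (cent_anti t.QA_le_D (t.y_D μ)))
          (conj_mem_of_norm (norm_cent le_rfl kO) (t.y_O μ))
          ⟨1, by rw [pow_one, pow_two, conj_mul, yy, mul_one, mul_inv_cancel]⟩ fun s' => by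
            obtain ⟨s'', e'⟩ := conj_mem_of_norm' kR (show t.r s' ∈ t.R from ⟨s', rfl⟩)
            obtain ⟨γ', e''⟩ := conj_mem_of_norm kX (show t.c (μ * s'') ∈ t.X from ⟨_, rfl⟩)
            refine ⟨γ', ?_⟩
            calc _ = k * (t.y μ * (k⁻¹ * t.r s' * k) * (t.y μ)⁻¹) * k⁻¹ := by group
              _ = _ := by rw [e', t.y_r, ← e', ← e'']; group
        change k * t.y μ * k⁻¹ ∈ t.W
        rw [e']
        exact mul_mem (mul_mem (yW ν) (rW s')) (mem_sup_left (cQ t γ'))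
      · obtain ⟨s', e'⟩ := conj_mem_of_norm kR (show t.r μ ∈ t.R from ⟨μ, rfl⟩)
        change k * t.r μ * k⁻¹ ∈ t.W
        rw [e']
        exact rW s'))))
  simpa [hk] using mul_mem (le_normalizer (yW (γ / s))) kW

end Beta

theorem Tr.exists_fu {m : Bool} {G : Type*} [Group G] [Finite G] (t : Tr m G) :
    ∃ f : Fu m G, f.toTr = t := by
  have s1 : t.Sl t.a t.b t.n1 := .inl ⟨rfl, rfl, rfl⟩
  have s2 : t.Sl t.b t.a t.n2 := .inr ⟨rfl, rfl, rfl⟩
  obtain ⟨β, d⟩ := t.exists_del s1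
  obtain ⟨β', d'⟩ := t.exists_del s2
  have h1 : β * β' = 1 := by
    by_cases h : β = 0
    · rw [mul_comm]
      refine Beta.mul_eq s2 s1 d' d fun h' => ?_
      subst h h'
      exact Beta.not_zero s1 s2 d d'
    exact Beta.mul_eq s1 s2 d d' h
  have h2 : β ≠ 0 := left_ne_zero_of_mul_eq_one h1
  obtain rfl : β' = β ^ 2 := mul_left_cancel₀ h2 (by rw [h1, ← pow_succ', F_cube h2])
  exact ⟨⟨t, β, t.y_add, h2, fun hm => ((sq_eq_iff β).1 (Beta.eq_of_true hm d d').symm).resolve_left h2, d, d',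
    fun _ hg => Beta.cenR s1 d h2 hg, fun _ => Beta.normW, Beta.r_mem s1 d h2⟩, rfl⟩

end Cfsg.Agent.STA
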