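import Mathlib
import Cfsg.Agent.STA.Model

/-! Basic facts on `Heis`. -/

set_option autoImplicit false
set_option linter.unusedSectionVars false

namespace Cfsg.Agent.STA

open Cfsg Cfsg.Agent.Loc.Mss Subgroup Equiv
open Cfsg.Agent.Spor (ES2 Eqv)

variable {m : Bool} {G : Type*} [Group G]

theorem Acts.mul {W : Subgroup G} {v : G → Vec} {g g' : G} {σ σ' : Perm (Fin 8)} (h : Acts W v g σ)
    (h' : Acts W v g' σ') (hg : g' ∈ 𝐍[W]) : Acts W v (g * g') (σ * σ') := fun w hw => by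
  rw [act_mul, ← h' w hw, ← h _ (conj_mem_of_norm hg hw)]
  congr 1
  group

namespace HBasic

theorem acts_conj {W : Subgroup G} {v : G → Vec} {g n : G} {σ : Perm (Fin 8)} :
    Acts cj(g, W) (fun w => v (g⁻¹ * w * g)) n σ ↔ Acts W v (g⁻¹ * n * g) σ := by
  refine ⟨fun h w hw => ?_, fun h w hw => ?_⟩
  · have := h _ (conj_mem_cj (g := g) hw)
    simp only [mul_assoc, inv_mul_cancel_left, inv_mul_cancel, mul_one, mul_inv_rev, inv_inv] at this ⊢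
    exact this
  · have := h _ (mem_cj.1 hw)
    simp only [mul_assoc, mul_inv_cancel_left, mul_inv_rev, inv_inv] at this ⊢
    exact this

theorem comm_conj {g n x : G} : Commute n (g * x * g⁻¹) ↔ Commute (g⁻¹ * n * g) x := by
  refine ⟨fun h => ?_, fun h => ?_⟩
  · simpa [mul_assoc] using h.map (MulAut.conj g⁻¹)
  · simpa [mul_assoc] using h.map (MulAut.conj g)

theorem norm_sub {W L : Subgroup G} (h : W ≤ L) {g : L} : g ∈ 𝐍[W.subgroupOf L] ↔ (g : G) ∈ 𝐍[W] := by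
  rw [← subgroupOf_normalizer_eq h, mem_subgroupOf]

end HBasic

open HBasic

namespace Heis

variable (H : Heis m G)

/-- The conjugate structure. -/
def conj (g : G) : Heis m G where
  W := cj(g, H.W)
  O := cj(g, H.O)
  c t := g * H.c t * g⁻¹
  r t := g * H.r t * g⁻¹
  v w := H.v (g⁻¹ * w * g)
  n1 := g * H.n1 * g⁻¹
  n2 := g * H.n2 * g⁻¹
  h := g * H.h * g⁻¹
  c_add s t := by rw [H.c_add]; group
  c_inj t h := H.c_inj t (conj_eq_one_iff.1 h)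
  c_mem t := conj_mem_cj (H.c_mem t)
  c_cen t w hw := (comm_conj.2 (H.c_cen t _ (mem_cj.1 hw)).symm).symm
  v_mul w hw w' hw' := by
    rw [← H.v_mul _ (mem_cj.1 hw) _ (mem_cj.1 hw')]
    congr 1
    group
  v_mem w hw := H.v_mem _ (mem_cj.1 hw)
  v_surj u hu := by
    obtain ⟨w, hw, e⟩ := H.v_surj u hu
    exact ⟨_, conj_mem_cj (g := g) hw, by simpa [mul_assoc] using e⟩
  v_ker w hw := (H.v_ker _ (mem_cj.1 hw)).trans (exists_congr fun t =>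
    ⟨fun e => by rw [← e]; group, fun e => by rw [e]; group⟩)
  sq w hw := by rw [← H.sq _ (mem_cj.1 hw)]; group
  ex_act n hn hc := by
    rw [← cj_norm, mem_cj] at hn
    obtain ⟨σ, h1, h2⟩ := H.ex_act _ hn fun t => comm_conj.1 (hc t)
    exact ⟨σ, h1, acts_conj.2 h2⟩
  real σ h1 h2 := by
    obtain ⟨n, a, b, c, d⟩ := H.real σ h1 h2
    have e : g⁻¹ * (g * n * g⁻¹) * g = n := by group
    exact ⟨g * n * g⁻¹, cj_norm H.W g ▸ conj_mem_cj a, fun t => comm_conj.2 (e.symm ▸ b t),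
      cj_cent H.O g ▸ conj_mem_cj c, acts_conj.2 (e.symm ▸ d)⟩
  ker n hn hc ha := by
    rw [← cj_norm, mem_cj] at hn
    obtain ⟨w, hw, o, ho, e⟩ := H.ker _ hn (fun t => comm_conj.1 (hc t)) (acts_conj.1 ha)
    exact ⟨_, conj_mem_cj hw, _, conj_mem_cj ho, by rw [conj_mul, ← e]; group⟩
  odd := by rw [card_cj]; exact H.odd
  O_cen := cj_cent H.W g ▸ cj_mono g H.O_cen
  h_norm := cj_norm H.W g ▸ conj_mem_cj H.h_norm
  h_v w hw := by
    rw [← H.h_v _ (mem_cj.1 hw)]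
    congr 1
    group
  h_c t := by rw [← H.h_c]; group
  r_mem s := ⟨conj_mem_cj (H.r_mem s).1, by simpa [mul_assoc] using (H.r_mem s).2⟩
  n1_sq := by rw [conj_mul, H.n1_sq]; group
  n1_c s := by
    rw [conj_mul, conj_mul]
    exact ⟨conj_mem_cj (H.n1_c s).1, by simpa [mul_assoc] using (H.n1_c s).2.1,
      (H.n1_c s).2.2.map (MulAut.conj g)⟩
  n2_sq := by rw [conj_mul, H.n2_sq]; group
  n2_c s := by
    rw [conj_mul, conj_mul]
    exact ⟨conj_mem_cj (H.n2_c s).1, by simpa [mul_assoc] using (H.n2_c s).2.1,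
      (H.n2_c s).2.2.map (MulAut.conj g)⟩
  d1 n hc := by
    rintro ⟨t, e⟩
    rw [← cj_norm, mem_cj]
    refine H.d1 _ (fun t => comm_conj.1 (hc t)) ⟨t, ?_⟩
    rw [conj_mul] at e
    calc _ = g⁻¹ * (n * (g * H.r 1 * g⁻¹) * n⁻¹) * g := by group
      _ = _ := by rw [e]; group

theorem conj_W (g : G) : (H.conj g).W = cj(g, H.W) := rfl
theorem conj_O (g : G) : (H.conj g).O = cj(g, H.O) := rfl
theorem conj_c (g : G) (t : F) : (H.conj g).c t = g * H.c t * g⁻¹ := rfl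
theorem conj_v (g w : G) : (H.conj g).v w = H.v (g⁻¹ * w * g) := rfl
theorem conj_pre (g : G) (S : AddSubgroup Vec) : (H.conj g).pre S = cj(g, H.pre S) := by
  ext w
  rw [mem_cj]
  exact and_congr_left' mem_cj
theorem conj_X (g : G) : (H.conj g).X = cj(g, H.X) := by
  ext w
  rw [mem_cj]
  exact exists_congr fun t => ⟨fun e => by rw [e, conj_c]; group, fun e => by rw [conj_c, ← e]; group⟩
theorem conj_E (g : G) : (H.conj g).E = cj(g, H.E) := H.conj_pre g _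
theorem conj_Q0 (g : G) : (H.conj g).Q0 = cj(g, H.Q0) := H.conj_pre g _
theorem Can.conj {H : Heis m G} {s : G} (h : H.Can s) (g : G) : (H.conj g).Can (g * s * g⁻¹) where
  norm := by rw [conj_W, ← cj_norm]; exact conj_mem_cj h.norm
  c t := by rw [conj_c, conj_c, ← h.c]; group
  v w hw := by
    rw [conj_v, conj_v, ← h.v _ (mem_cj.1 hw)]
    congr 1
    group
  Q0 w hw := by
    rw [conj_Q0, mem_cj] at hw
    rcases h.Q0 _ hw with e | e
    · exact .inl (by calc _ = g * (s * (g⁻¹ * w * g) * s⁻¹) * g⁻¹ := by group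
        _ = _ := by rw [e]; group)
    · exact .inr (by calc _ = g * (s * (g⁻¹ * w * g) * s⁻¹) * g⁻¹ := by group
        _ = _ := by rw [e, conj_c]; group)
  O := by rw [conj_O, ← cj_cent]; exact conj_mem_cj h.O
  sq := by
    rw [conj_mul, conj_c]
    exact h.sq.imp (fun e => by rw [e]; group) fun e => by rw [e]
theorem restrict {L : Subgroup G} (h : H.In L) : Nonempty (Heis m L) := ⟨{
  W := H.W.subgroupOf L
  O := H.O.subgroupOf L
  c t := ⟨H.c t, h.W (H.c_mem t)⟩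
  r t := ⟨H.r t, h.W (H.r_mem t).1⟩
  v w := H.v w
  n1 := ⟨H.n1, h.n.1⟩
  n2 := ⟨H.n2, h.n.2.1⟩
  h := ⟨H.h, h.n.2.2⟩
  c_add s t := Subtype.ext (H.c_add s t)
  c_inj t e := H.c_inj t (congrArg Subtype.val e)
  c_mem := H.c_mem
  c_cen t w hw := Subtype.ext (H.c_cen t w hw)
  v_mul w hw w' hw' := H.v_mul w hw w' hw'
  v_mem w hw := H.v_mem w hw
  v_surj u hu := by
    obtain ⟨w, hw, e⟩ := H.v_surj u hu
    exact ⟨⟨w, h.W hw⟩, hw, e⟩
  v_ker w hw := (H.v_ker w hw).trans (exists_congr fun _ => ⟨fun e => Subtype.ext e, fun e => congrArg Subtype.val e⟩)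
  sq w hw := Subtype.ext (H.sq w hw)
  ex_act g hg hc := by
    obtain ⟨σ, a, b⟩ := H.ex_act g ((norm_sub h.W).1 hg) fun t => congrArg Subtype.val (hc t)
    exact ⟨σ, a, fun w hw => b w hw⟩
  real σ h1 h2 := by
    obtain ⟨g, a, b, c, d, e⟩ := h.real σ h1 h2
    exact ⟨⟨g, b⟩, (norm_sub h.W).2 a, fun t => Subtype.ext (c t), fun o ho => Subtype.ext (d o ho),
      fun w hw => e w hw⟩
  ker g hg hc ha := by
    obtain ⟨w, hw, o, ho, e⟩ := H.ker g ((norm_sub h.W).1 hg) (fun t => congrArg Subtype.val (hc t))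
      fun w hw => ha ⟨w, h.W hw⟩ hw
    have : o ∈ L := by
      rw [← inv_mul_eq_iff_eq_mul] at e
      exact e ▸ L.mul_mem (L.inv_mem (h.W hw)) g.2
    exact ⟨⟨w, h.W hw⟩, hw, ⟨o, this⟩, ho, Subtype.ext e⟩
  odd := H.odd.of_dvd_nat (by
    rw [← inf_subgroupOf_right, Nat.card_congr (subgroupOfEquivOfLe inf_le_right).toEquiv]
    exact card_dvd_of_le inf_le_left)
  O_cen o ho w hw := Subtype.ext (H.O_cen ho w hw)
  h_norm := (norm_sub h.W).2 H.h_norm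
  h_v w hw := H.h_v w hw
  h_c t := Subtype.ext (H.h_c t)
  r_mem := H.r_mem
  n1_sq := Subtype.ext H.n1_sq
  n1_c s := ⟨(H.n1_c s).1, (H.n1_c s).2.1, Subtype.ext (H.n1_c s).2.2⟩
  n2_sq := Subtype.ext H.n2_sq
  n2_c s := ⟨(H.n2_c s).1, (H.n2_c s).2.1, Subtype.ext (H.n2_c s).2.2⟩
  d1 g hc := fun ⟨t, e⟩ => (norm_sub h.W).2
    (H.d1 g (fun t => congrArg Subtype.val (hc t)) ⟨t, congrArg Subtype.val e⟩) }⟩

theorem mem_X {g : G} : g ∈ H.X ↔ ∃ t, g = H.c t := Iff.rfl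
theorem mem_pre {S : AddSubgroup Vec} {g : G} : g ∈ H.pre S ↔ g ∈ H.W ∧ H.v g ∈ S := Iff.rfl
theorem mem_E {g : G} : g ∈ H.E ↔ g ∈ H.W ∧ ∃ k : F, H.v g = k • e1 :=
  and_congr_right' (Submodule.mem_span_singleton.trans (exists_congr fun _ => eq_comm))
theorem mem_Q0 {g : G} : g ∈ H.Q0 ↔ g ∈ H.W ∧ Rt (H.v g) := Iff.rfl
theorem mem_cX {g : G} : g ∈ 𝐂[H.X] ↔ ∀ t, Commute g (H.c t) :=
  ⟨fun h t => (h _ ⟨t, rfl⟩).symm, by rintro h _ ⟨t, rfl⟩; exact (h t).symm⟩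
theorem c_zero : H.c 0 = 1 := mul_left_cancel (a := H.c 0) (by rw [← H.c_add, add_zero, mul_one])
theorem c_sq (t : F) : H.c t * H.c t = 1 := by rw [← H.c_add, CharTwo.add_self_eq_zero, c_zero]
theorem c_inv (t : F) : (H.c t)⁻¹ = H.c t := inv_eq_of_mul_eq_one_right (H.c_sq t)
theorem c_eq {s t : F} : H.c s = H.c t ↔ s = t := by
  refine ⟨fun h => ?_, congrArg _⟩
  have := H.c_inj (s + t) (by rw [H.c_add, h, c_sq])
  rwa [CharTwo.add_eq_zero] at this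
theorem v_c (t : F) : H.v (H.c t) = 0 := (H.v_ker _ (H.c_mem t)).2 ⟨t, rfl⟩
theorem X_le_pre (S : AddSubgroup Vec) : H.X ≤ H.pre S := by
  rintro _ ⟨t, rfl⟩
  exact ⟨H.c_mem t, H.v_c t ▸ S.zero_mem⟩
theorem pre_le (S : AddSubgroup Vec) : H.pre S ≤ H.W := fun _ h => h.1
theorem W_le_cX : H.W ≤ 𝐂[H.X] := fun w hw => H.mem_cX.2 fun t => (H.c_cen t w hw).symm
theorem v_eq_iff {w w' : G} (hw : w ∈ H.W) (hw' : w' ∈ H.W) : H.v w = H.v w' ↔ ∃ t, w = w' * H.c t := by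
  refine ⟨fun h => ?_, ?_⟩
  · obtain ⟨t, e⟩ := (H.v_ker _ (H.W.mul_mem (H.W.inv_mem hw') hw)).1
      (by rw [H.v_mul _ (H.W.inv_mem hw') _ hw, H.v_inv hw', h, vadd_self])
    exact ⟨t, by rw [← e]; group⟩
  · rintro ⟨t, rfl⟩
    rw [H.v_mul _ hw' _ (H.c_mem t), v_c, add_zero]
theorem conj_eq {w w' : G} (hw : w ∈ H.W) (hw' : w' ∈ H.W) :
    w * w' * w⁻¹ = w' * H.c (bf (H.v w) (H.v w')) := by
  have h := H.sq _ (H.W.mul_mem hw hw')
  rw [H.v_mul _ hw _ hw', qf_add (H.v_mem _ hw) (H.v_mem _ hw'), H.c_add, H.c_add, ← H.sq _ hw,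
    ← H.sq _ hw'] at h
  have h1 : w' * w = w * w' * H.c (bf (H.v w) (H.v w')) := by
    refine mul_left_cancel (a := w) (mul_right_cancel (b := w') ?_)
    rw [show w * (w' * w) * w' = w * w' * (w * w') by group, h, mul_assoc w (_ * _), mul_assoc (w * w'),
      (H.c_cen _ _ hw').eq]
    group
  rw [mul_inv_eq_iff_eq_mul, mul_assoc, (H.c_cen _ _ hw).eq, ← mul_assoc, h1, mul_assoc, c_sq, mul_one]
theorem commute_iff {w w' : G} (hw : w ∈ H.W) (hw' : w' ∈ H.W) :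
    Commute w w' ↔ bf (H.v w) (H.v w') = 0 := by
  rw [commute_iff_eq, ← mul_inv_eq_iff_eq_mul, H.conj_eq hw hw', mul_eq_left, ← H.c_zero, c_eq]
theorem v_conj {w w' : G} (hw : w ∈ H.W) (hw' : w' ∈ H.W) : H.v (w * w' * w⁻¹) = H.v w' := by
  rw [H.conj_eq hw hw', H.v_mul _ hw' _ (H.c_mem _), v_c, add_zero]
theorem pow_four {w : G} (hw : w ∈ H.W) : w ^ 4 = 1 := by
  rw [show w ^ 4 = w * w * (w * w) by simp only [pow_succ, pow_zero, one_mul, mul_assoc], H.sq _ hw, c_sq]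
theorem pg_W : IsPGroup 2 H.W := pg_iff.2 fun _ hw => ⟨2, H.pow_four hw⟩
theorem mem_X_of_cent {w : G} (hw : w ∈ H.W) (h : w ∈ 𝐂[H.W]) : w ∈ H.X :=
  (H.v_ker _ hw).1 (eq_zero_of_bf (H.v_mem _ hw) fun u hu _ => by
    obtain ⟨w', hw', rfl⟩ := H.v_surj u hu
    exact (H.commute_iff hw hw').1 (h _ hw').symm)
theorem normW_le_normX : 𝐍[H.W] ≤ 𝐍[H.X] := by
  have : H.X = H.W ⊓ 𝐂[H.W] := le_antisymm
    (le_inf ((H.X_le_pre ⊤).trans (H.pre_le _)) (cent_comm H.W_le_cX)) fun _ h => H.mem_X_of_cent h.1 h.2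
  rw [this]
  exact norm_inf le_rfl (norm_cent le_rfl)
theorem card_X : Nat.card H.X = 4 := by
  rw [← card_F]
  exact (Nat.card_congr (Equiv.ofBijective (fun t => (⟨H.c t, t, rfl⟩ : H.X))
    ⟨fun _ _ e => H.c_eq.1 (congrArg Subtype.val e), fun ⟨_, t, e⟩ => ⟨t, Subtype.ext e.symm⟩⟩)).symm
theorem card_pre {S : AddSubgroup Vec} (h : ∀ u ∈ S, u ∈ VV m) : Nat.card (H.pre S) = 4 * Nat.card S := by
  choose l hl el using fun u : S => H.v_surj u (h u u.2)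
  have hv : ∀ u t, H.v (l u * H.c t) = u := fun u t => by
    rw [H.v_mul _ (hl u) _ (H.c_mem t), v_c, add_zero, el]
  rw [← card_F, ← Nat.card_prod]
  refine (Nat.card_congr (Equiv.ofBijective (fun p : F × S => (⟨l p.2 * H.c p.1,
    H.W.mul_mem (hl _) (H.c_mem _), by rw [hv]; exact p.2.2⟩ : H.pre S)) ⟨?_, ?_⟩)).symm
  · rintro ⟨t, u⟩ ⟨t', u'⟩ e
    have e1 : l u * H.c t = l u' * H.c t' := congrArg Subtype.val e
    obtain rfl : u = u' := Subtype.ext (by rw [← hv u t, e1, hv])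
    rw [H.c_eq.1 (mul_left_cancel e1)]
  · rintro ⟨w, hw, hs⟩
    obtain ⟨t, e⟩ := (H.v_eq_iff hw (hl ⟨_, hs⟩)).1 (el ⟨_, hs⟩).symm
    exact ⟨(t, ⟨_, hs⟩), Subtype.ext e.symm⟩
theorem card_W : Nat.card H.W = if m then 2 ^ 14 else 2 ^ 10 := by
  have e : H.W = H.pre (VV m).toAddSubgroup := le_antisymm (fun w hw => ⟨hw, H.v_mem w hw⟩) (H.pre_le _)
  rw [e, H.card_pre fun _ h => h]
  exact (congrArg (4 * ·) (card_VV m)).trans (by cases m <;> rfl)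
theorem card_Q0 : Nat.card H.Q0 = if m then 2 ^ 8 else 2 ^ 6 := by
  have e : H.Q0 = H.pre ((VV m).toAddSubgroup ⊓ RtS) :=
    le_antisymm (fun w hw => ⟨hw.1, H.v_mem w hw.1, hw.2⟩) fun w hw => ⟨hw.1, hw.2.2⟩
  rw [e, H.card_pre (S := (VV m).toAddSubgroup ⊓ RtS) fun _ h => h.1]
  exact (congrArg (4 * ·) (card_rt m)).trans (by cases m <;> rfl)

/-- The stabilizer of the centre in the normalizer. -/
def M0 : Subgroup G := 𝐍[H.W] ⊓ 𝐂[H.X]

theorem mem_M0 {g : G} : g ∈ H.M0 ↔ g ∈ 𝐍[H.W] ∧ ∀ t, Commute g (H.c t) := and_congr_right' H.mem_cX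
theorem W_le_M0 : H.W ≤ H.M0 := le_inf le_normalizer H.W_le_cX
theorem O_le_M0 : H.O ≤ H.M0 := le_inf (norm_of_cent H.O_cen)
  (H.O_cen.trans (cent_anti ((H.X_le_pre ⊤).trans (H.pre_le _))))

open Classical in
/-- The permutation induced by an element of `M0`. -/
noncomputable def π (g : G) : Perm (Fin 8) := if h : ∃ σ ∈ Sg m, Acts H.W H.v g σ then h.choose else 1

variable {H}

theorem π_mem (g : G) : H.π g ∈ Sg m := by
  unfold π
  split_ifs with h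
  exacts [h.choose_spec.1, one_mem _]
theorem v_π {g : G} (hg : g ∈ H.M0) {w : G} (hw : w ∈ H.W) : H.v (g * w * g⁻¹) = act (H.π g) (H.v w) := by
  have h := H.ex_act g hg.1 (H.mem_M0.1 hg).2
  rw [π, dif_pos h]
  exact h.choose_spec.2 w hw
theorem π_eq {g : G} {σ : Perm (Fin 8)} (hσ : σ ∈ Sg m) (h : Acts H.W H.v g σ) : H.π g = σ := by
  have h' : ∃ σ ∈ Sg m, Acts H.W H.v g σ := ⟨σ, hσ, h⟩
  rw [π, dif_pos h']
  refine act_inj h'.choose_spec.1 hσ fun u hu _ => ?_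
  obtain ⟨w, hw, rfl⟩ := H.v_surj u hu
  rw [← h w hw, h'.choose_spec.2 w hw]
theorem π_mul {g g' : G} (hg : g ∈ H.M0) (hg' : g' ∈ H.M0) : H.π (g * g') = H.π g * H.π g' :=
  π_eq (mul_mem (π_mem g) (π_mem g')) (Acts.mul (fun _ => v_π hg) (fun _ => v_π hg') hg'.1)

/-- The permutation representation as a homomorphism. -/
noncomputable def πh (H : Heis m G) : H.M0 →* Perm (Fin 8) :=
  MonoidHom.mk' (fun g => H.π g) fun g g' => π_mul g.2 g'.2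

theorem π_inv {g : G} (hg : g ∈ H.M0) : H.π g⁻¹ = (H.π g)⁻¹ := H.πh.map_inv ⟨g, hg⟩
theorem π_pow {g : G} (hg : g ∈ H.M0) (n : ℕ) : H.π (g ^ n) = H.π g ^ n := H.πh.map_pow ⟨g, hg⟩ n
theorem π_W {w : G} (hw : w ∈ H.W) : H.π w = 1 :=
  π_eq (one_mem _) fun w' hw' => by rw [H.v_conj hw hw', act_one (H.v_mem _ hw')]
theorem π_eq_one {g : G} (hg : g ∈ H.M0) : H.π g = 1 ↔ ∃ w ∈ H.W, ∃ o ∈ H.O, g = w * o := by
  refine ⟨fun h => H.ker g hg.1 (H.mem_M0.1 hg).2 fun w hw => h ▸ v_π hg hw, ?_⟩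
  rintro ⟨w, hw, o, ho, rfl⟩
  rw [π_mul (H.W_le_M0 hw) (H.O_le_M0 ho), π_W hw, one_mul]
  exact π_eq (one_mem _) fun w' hw' => by
    rw [← H.O_cen ho w' hw', mul_inv_cancel_right, act_one (H.v_mem _ hw')]
theorem exists_π {σ : Perm (Fin 8)} (hσ : σ ∈ Sg m) (h : Perm.sign σ = 1) :
    ∃ g ∈ H.M0, g ∈ 𝐂[H.O] ∧ H.π g = σ := by
  obtain ⟨g, a, b, c, d⟩ := H.real σ hσ h
  exact ⟨g, H.mem_M0.2 ⟨a, b⟩, c, π_eq hσ d⟩
theorem fix_iff {g : G} (hg : g ∈ H.M0) {w : G} (hw : w ∈ H.W) :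
    act (H.π g) (H.v w) = H.v w ↔ g * w * g⁻¹ * w⁻¹ ∈ H.X := by
  have h := conj_mem_of_norm hg.1 hw
  rw [← v_π hg hw, mem_X, ← H.v_ker _ (mul_mem h (inv_mem hw)), H.v_mul _ h _ (inv_mem hw), H.v_inv hw]
  exact ⟨fun e => by rw [e, vadd_self], fun e => by
    rw [← add_zero (H.v _), ← vadd_self (H.v w), ← add_assoc, e, zero_add]⟩
theorem M0_norm_Q0 : H.M0 ≤ 𝐍[H.Q0] := norm_of_forall_cj_le fun g hg => cj_le_iff.2 fun w hw =>
  ⟨conj_mem_of_norm hg.1 hw.1, by rw [v_π hg hw.1]; exact Rt.act hw.2 _⟩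

variable [Finite G]

theorem eq_one_of_mem {g : G} (h : g ∈ H.O) (h2 : ∃ j : ℕ, g ^ 2 ^ j = 1) : g = 1 := by
  obtain ⟨j, e⟩ := h2
  exact orderOf_eq_one_iff.1 (Nat.eq_one_of_dvd_coprimes ((Nat.coprime_two_left.2 H.odd).pow_left j)
    (orderOf_dvd_of_pow_eq_one e) (H.O.orderOf_dvd_natCard h))
theorem mem_W_of_two {g : G} (hg : g ∈ H.M0) (h : H.π g = 1) (h2 : ∃ j : ℕ, g ^ 2 ^ j = 1) : g ∈ H.W := by
  obtain ⟨w, hw, o, ho, rfl⟩ := (π_eq_one hg).1 h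
  obtain ⟨j, e⟩ := h2
  have c : Commute w o := H.O_cen ho w hw
  have : o ^ 2 ^ (j + 2) = 1 := by
    have e2 : (w * o) ^ 2 ^ (j + 2) = 1 := by rw [pow_add, pow_mul, e, one_pow]
    rwa [c.mul_pow, add_comm, pow_add, pow_mul w, show w ^ 2 ^ 2 = 1 from H.pow_four hw, one_pow, one_mul,
      ← pow_add, add_comm] at e2
  rwa [eq_one_of_mem ho ⟨_, this⟩, mul_one]
theorem mem_O_of_odd {g : G} (hg : g ∈ H.M0) (h : H.π g = 1) (h2 : Odd (orderOf g)) : g ∈ H.O := by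
  obtain ⟨w, hw, o, ho, rfl⟩ := (π_eq_one hg).1 h
  have c : Commute w o := H.O_cen ho w hw
  have h4 : (w * o) ^ 4 ∈ H.O := by rw [c.mul_pow, H.pow_four hw, one_mul]; exact pow_mem ho 4
  obtain ⟨k, e⟩ := exists_pow_eq_self_of_coprime (x := w * o) (n := 4)
    ((Nat.coprime_two_left.2 h2).pow_left 2)
  exact e ▸ pow_mem h4 k
theorem mem_O {g : G} : g ∈ H.O ↔ g ∈ 𝐂[H.W] ∧ Odd (orderOf g) := by
  refine ⟨fun h => ⟨H.O_cen h, H.odd.of_dvd_nat (H.O.orderOf_dvd_natCard h)⟩, fun ⟨h1, h2⟩ => ?_⟩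
  refine mem_O_of_odd ⟨cent_le_norm _ h1, cent_anti ((H.X_le_pre ⊤).trans (H.pre_le _)) h1⟩
    (π_eq (one_mem _) fun w hw => ?_) h2
  rw [← h1 w hw, mul_inv_cancel_right, act_one (H.v_mem _ hw)]
theorem normW_le_normO : 𝐍[H.W] ≤ 𝐍[H.O] := norm_of_forall_cj_le fun g hg => cj_le_iff.2 fun o ho => by
  rw [mem_O] at ho ⊢
  exact ⟨conj_mem_of_norm (norm_cent le_rfl hg) ho.1,
    by rw [← MulAut.conj_apply, MulEquiv.orderOf_eq]; exact ho.2⟩

end Heis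

end Cfsg.Agent.STA
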