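import Mathlib
import Cfsg.Agent.STA.LBasic
import Cfsg.Agent.STA.HBasic

/-! Coordinates on `W` and the action of the letters. -/

set_option autoImplicit false
set_option linter.unusedSectionVars false

namespace Cfsg.Agent.STA

open Cfsg Cfsg.Agent.Loc.Mss Subgroup Equiv
open Cfsg.Agent.Spor (ES2 Eqv)

variable {m : Bool} {G : Type*} [Group G] [Finite G]

namespace Co

theorem tab : (bf vE vE = 0 ∧ bf vE vD = 1 ∧ bf vE e1 = 0 ∧ bf vE e2 = 0 ∧ bf vE u1 = 0 ∧ bf vE u2 = 0) ∧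
    (bf vD vE = 1 ∧ bf vD vD = 0 ∧ bf vD e1 = 0 ∧ bf vD e2 = 0 ∧ bf vD u1 = 0 ∧ bf vD u2 = 0) ∧
    (bf e1 vE = 0 ∧ bf e1 vD = 0 ∧ bf e1 e1 = 0 ∧ bf e1 e2 = 1 ∧ bf e1 u1 = 0 ∧ bf e1 u2 = 0) ∧
    (bf e2 vE = 0 ∧ bf e2 vD = 0 ∧ bf e2 e1 = 1 ∧ bf e2 e2 = 0 ∧ bf e2 u1 = 0 ∧ bf e2 u2 = 0) ∧
    (bf u1 vE = 0 ∧ bf u1 vD = 0 ∧ bf u1 e1 = 0 ∧ bf u1 e2 = 0 ∧ bf u1 u1 = 0 ∧ bf u1 u2 = 1) ∧
    (bf u2 vE = 0 ∧ bf u2 vD = 0 ∧ bf u2 e1 = 0 ∧ bf u2 e2 = 0 ∧ bf u2 u1 = 1 ∧ bf u2 u2 = 0) ∧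
    qf vE = 0 ∧ qf vD = 0 ∧ qf e1 = 0 ∧ qf e2 = 0 ∧ qf u1 = 0 ∧ qf u2 = 0 := by decide +kernel

theorem em_sq (m : Bool) : em m * em m = em m := by cases m <;> simp [em]

theorem co_add (β μ s α b t u μ' s' α' b' t' u' : F) : co m β (μ + μ') (s + s') (α + α') (b + b') (t + t')
    (u + u') = co m β μ s α b t u + co m β μ' s' α' b' t' u' := by
  simp only [co, add_mul, mul_add, add_smul]
  abel

theorem co_mem (β μ s α b t u : F) : co m β μ s α b t u ∈ VV m := by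
  obtain ⟨h1, h2, h3, h4, h5, h6⟩ := named_mem m
  rw [co, mul_comm (em m), mul_comm (em m), mul_smul t, mul_smul u]
  apply_rules [add_mem, Submodule.smul_mem]

theorem bf_co {β : F} (h : β ≠ 0) (μ s α b t u μ' s' α' b' t' u' : F) :
    bf (co m β μ s α b t u) (co m β μ' s' α' b' t' u') =
      μ * s' + s * μ' + α * b' + b * α' + em m * (t * u' + u * t') := by
  simp only [co, bf_add, bf_add', bf_smul, bf_smul', tab]
  linear_combination (α * b' + b * α') * F_cube h + (t * u' + u * t') * em_sq m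

theorem qf_co {β : F} (h : β ≠ 0) (μ s α b t u : F) :
    qf (co m β μ s α b t u) = μ * s + α * b + em m * (t * u) := by
  obtain ⟨h1, h2, h3, h4, h5, h6⟩ := named_mem true
  simp only [em, if_true, one_smul] at h5 h6
  have k : ∀ {u w}, u ∈ VV true → w ∈ VV true → ∀ k : F, u + k • w ∈ VV true := fun h h' k =>
    add_mem h (Submodule.smul_mem _ k h')
  have k1 := Submodule.smul_mem _ μ h2
  rw [co, qf_add (k (k (k (k k1 h1 _) h3 _) h4 _) h5 _) (Submodule.smul_mem _ _ h6),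
    qf_add (k (k (k k1 h1 _) h3 _) h4 _) (Submodule.smul_mem _ _ h5),
    qf_add (k (k k1 h1 _) h3 _) (Submodule.smul_mem _ _ h4),
    qf_add (k k1 h1 _) (Submodule.smul_mem _ _ h3), qf_add k1 (Submodule.smul_mem _ _ h1)]
  simp only [qf_smul, bf_add, bf_smul, bf_smul', tab]
  linear_combination α * b * F_cube h + t * u * em_sq m

theorem expand {u : Vec} (hu : u ∈ VV m) : u = bf u vD • vE + bf u vE • vD + bf u e2 • e1 + bf u e1 • e2 +
    (em m * bf u u2) • u1 + (em m * bf u u1) • u2 := by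
  obtain ⟨h7, hs, h⟩ := hu
  have r := ω_rel
  funext i
  cases m
  · obtain ⟨h5, h6⟩ := h rfl
    fin_cases i <;> simp [bf, vD, vE, e1, e2, em, h5, h6, h7] <;> grind
  · fin_cases i <;> simp [bf, vD, vE, e1, e2, u1, u2, em, h7] <;> grind

theorem co_surj {β : F} (h : β ≠ 0) {u : Vec} (hu : u ∈ VV m) : ∃ μ s α b t t', u = co m β μ s α b t t' :=
  ⟨_, _, bf u e2 / β, bf u e1 / β ^ 2, _, _, by
    rw [co, div_mul_cancel₀ _ h, div_mul_cancel₀ _ (pow_ne_zero 2 h)]; exact expand hu⟩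

def xσ (t : F) : Perm (Fin 8) :=
  if t = 0 then 1 else if t = 1 then swap 4 5 * swap 6 7 else if t = ω then swap 4 7 * swap 5 6
    else swap 4 6 * swap 5 7

def yσ (j : Fin 8) (κ : F) : Perm (Fin 8) :=
  if κ = 1 then swap 0 j * swap 1 2 else if κ = ω then swap 0 2 * swap 1 j else swap 0 1 * swap 2 j

theorem xtab : ∀ t : F, act (xσ t) vE = vE ∧ act (xσ t) vD = vD ∧ act (xσ t) e1 = e1 ∧
    act (xσ t) e2 = t ^ 3 • e1 + e2 + t • u1 + t ^ 2 • u2 ∧ act (xσ t) u1 = t ^ 2 • e1 + u1 ∧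
    act (xσ t) u2 = t • e1 + u2 ∧ xσ t 0 = 0 ∧ xσ t 1 = 1 ∧ xσ t 2 = 2 := by decide +kernel

theorem ytab {j : Fin 8} {p q : Vec} (h : (j = 3 ∧ p = e1 ∧ q = e2) ∨ (j = 4 ∧ p = e2 ∧ q = e1)) :
    ∀ κ : F, κ ≠ 0 → act (yσ j κ) vE = vE + κ ^ 2 • p ∧ act (yσ j κ) vD = vD + κ • p ∧
    act (yσ j κ) p = p ∧ act (yσ j κ) q = κ • vE + κ ^ 2 • vD + p + q ∧
    act (yσ j κ) u1 = u1 ∧ act (yσ j κ) u2 = u2 := by
  rcases h with ⟨rfl, rfl, rfl⟩ | ⟨rfl, rfl, rfl⟩ <;> decide +kernel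

theorem wtab {σ : Perm (Fin 8)} (h : σ = swap 3 4 * swap 6 7) : act σ vE = vE ∧ act σ vD = vD ∧ act σ e1 = e2 ∧
    act σ e2 = e1 ∧ act σ u1 = u2 ∧ act σ u2 = u1 := by subst h; decide +kernel

theorem htab {σ : Perm (Fin 8)} (h : σ = swap 0 2 * swap 0 1) : act σ vE = ω • vE ∧ act σ vD = ω ^ 2 • vD ∧
    act σ e1 = e1 ∧ act σ e2 = e2 ∧ act σ u1 = u1 ∧ act σ u2 = u2 := by subst h; decide +kernel

theorem sign2 {a b c d : Fin 8} (h : a ≠ b) (k : c ≠ d) : Perm.sign (swap a b * swap c d) = 1 := by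
  simp [Perm.sign_swap h, Perm.sign_swap k]

theorem even_mem {P : Subgroup (Perm (Fin 8))} {S : Fin 8 → Prop}
    (h : ∀ c, S c → c ≠ 0 → swap 0 1 * swap 0 c ∈ P) (σ : Perm (Fin 8)) (hS : ∀ i, σ i ≠ i → S i)
    (hs : Perm.sign σ = 1) : σ ∈ P := by
  have h1 : ∀ c d, S c → S d → c ≠ d → swap 0 1 * swap c d ∈ P := fun c d hc hd e => by
    by_cases c0 : c = 0
    · subst c0; exact h d hd e.symm
    by_cases d0 : d = 0
    · subst d0; rw [swap_comm c]; exact h c hc e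
    have := mul_mem (mul_mem (h c hc c0) (inv_mem (h d hd d0))) (h c hc c0)
    rwa [mul_inv_rev, swap_inv, swap_inv, mul_assoc, mul_assoc (swap 0 d), swap_mul_self_mul, mul_assoc,
      ← mul_assoc (swap 0 c), swap_comm 0 d, swap_mul_swap_mul_swap d0 e.symm] at this
  induction hn : σ.support.card using Nat.strong_induction_on generalizing σ with
  | _ n ih =>
    by_cases e : σ = 1
    · exact e ▸ one_mem _
    have step : ∀ τ : Perm (Fin 8), τ ≠ 1 → (∀ i, τ i ≠ i → S i) → ∃ a b τ', S a ∧ S b ∧ a ≠ b ∧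
        τ = swap a b * τ' ∧ τ'.support.card < τ.support.card ∧ ∀ i, τ' i ≠ i → S i := fun τ e hS => by
      obtain ⟨a, ha⟩ : ∃ a, τ a ≠ a := by simpa [Equiv.ext_iff] using e
      exact ⟨a, τ a, swap a (τ a) * τ, hS a ha, hS _ (by simpa using ha), ha.symm, by simp,
        Perm.card_support_swap_mul ha, fun i hi => hS i (Perm.ne_and_ne_of_swap_mul_apply_ne_self hi).1⟩
    obtain ⟨a, b, τ, ha, hb, ab, rfl, l1, s1⟩ := step σ e hS
    obtain ⟨c, d, ρ, hc, hd, cd, rfl, l2, s2⟩ := step τ (by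
      rintro rfl
      simp [Perm.sign_swap ab] at hs) s1
    have := mul_mem (mul_mem (inv_mem (h1 a b ha hb ab)) (h1 c d hc hd cd))
      (ih _ (hn ▸ l2.trans l1) ρ s2 (by simpa [Perm.sign_swap ab, Perm.sign_swap cd] using hs) rfl)
    simpa [mul_assoc] using this

end Co

open Co

namespace Fu

variable (f : Fu m G)

theorem el_eq (μ s α β t u γ : F) : f.el μ s α β t u γ = f.y μ * f.r s * f.toLt.el α β t u γ := by
  simp only [el, Lt.el, mul_assoc]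

theorem y_QA {u : G} (hu : u ∈ f.QA) (μ : F) : Commute u (f.y μ) := f.y_D μ u (f.QA_le_D hu)
theorem r_QA {u : G} (hu : u ∈ f.QA) (s : F) : Commute u (f.r s) := f.r_comm (f.D_le_A (f.QA_le_D hu)) s

theorem el_mul (μ s α β t u γ μ' s' α' β' t' u' γ' : F) :
    f.el μ s α β t u γ * f.el μ' s' α' β' t' u' γ' = f.el (μ + μ') (s + s') (α + α') (β + β') (t + t')
      (u + u') (γ + γ' + β * α' + em m * (u * t') + μ' * s) := by
  have hc := (f.letters_mem (μ' * s)).2.2.2.2.1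
  have h1 : f.r s * f.y μ' = f.y μ' * f.r s * f.c (μ' * s) := by
    rw [← mul_inv_eq_iff_eq_mul, add_inv f.c_add, mul_assoc, ← (f.y_QA hc _).eq, ← mul_assoc, ← f.y_r,
      inv_mul_cancel_right]
  have h2 := f.toLt.el_mem α β t u γ
  have h3 := f.toLt.el_mem (α + α') (β + β') (t + t') (u + u') (γ + γ' + β * α' + em m * (u * t'))
  rw [el_eq, el_eq, el_eq, ← Lt.el_c, mul_assoc _ (f.r s'), mul_assoc _ (Lt.el ..), ← mul_assoc (Lt.el ..),
    (f.y_QA h2 _).eq, mul_assoc (f.y μ'), ← mul_assoc (Lt.el ..), (f.r_QA h2 _).eq, mul_assoc (f.r s'),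
    Lt.el_mul, mul_assoc (f.y μ), ← mul_assoc (f.r s), h1, f.y_add, f.r_add,
    ← (show Commute (f.c _) _ from (f.mem_cX.1 (f.D_le_cent (f.QA_le_D h3)) _)).eq]
  simp only [mul_assoc]
  rw [← mul_assoc (f.c _), (f.r_QA hc _).eq, mul_assoc]

theorem el_letters (t : F) : f.y t = f.el t 0 0 0 0 0 0 ∧ f.r t = f.el 0 t 0 0 0 0 0 ∧
    ∀ α β t u γ, f.toLt.el α β t u γ = f.el 0 0 α β t u γ := by
  simp [el_eq, f.y_zero, add_zero' f.r_add, Lt.el_zero]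

theorem el_zero : f.el 0 0 0 0 0 0 0 = 1 := by rw [← (f.el_letters 0).1, f.y_zero]

theorem el_c (μ s α β t u γ δ : F) : f.el μ s α β t u γ * f.c δ = f.el μ s α β t u (γ + δ) := by
  simp only [el, f.c_add, mul_assoc]

theorem el_conj (μ s α β t u γ μ' s' α' β' t' u' γ' : F) :
    f.el μ s α β t u γ * f.el μ' s' α' β' t' u' γ' * (f.el μ s α β t u γ)⁻¹ = f.el μ' s' α' β' t' u' γ' *
      f.c (μ * s' + s * μ' + α * β' + β * α' + em m * (t * u' + u * t')) := by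
  rw [mul_inv_eq_iff_eq_mul, el_c, el_mul, el_mul, add_comm μ, add_comm s, add_comm α, add_comm β,
    add_comm t, add_comm u]
  congr 1
  linear_combination (-(μ * s') - α * β' - em m * t * u') * F_two

theorem QA_le_W : f.QA ≤ f.W := le_sup_left

theorem letters_W (t : F) : f.y t ∈ f.W ∧ f.r t ∈ f.W ∧ f.a t ∈ f.W ∧ f.b t ∈ f.W ∧ f.s1 t ∈ f.W ∧
    f.s2 t ∈ f.W ∧ f.c t ∈ f.W :=
  have h := f.letters_mem t
  ⟨mem_sup_right (subset_closure ⟨t, .inl rfl⟩), mem_sup_right (subset_closure ⟨t, .inr rfl⟩),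
    f.QA_le_W h.1, f.QA_le_W h.2.1, f.QA_le_W h.2.2.1, f.QA_le_W h.2.2.2.1, f.QA_le_W h.2.2.2.2.1⟩

theorem el_mem (μ s α β t u γ : F) : f.el μ s α β t u γ ∈ f.W := by
  rw [el_eq]
  exact mul_mem (mul_mem (f.letters_W _).1 (f.letters_W _).2.1) (f.QA_le_W (f.toLt.el_mem _ _ _ _ _))

theorem mem_W {g : G} : g ∈ f.W ↔ ∃ μ s α β t u γ, g = f.el μ s α β t u γ := by
  refine ⟨fun h => ?_, by rintro ⟨_, _, _, _, _, _, _, rfl⟩; exact f.el_mem _ _ _ _ _ _ _⟩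
  let P : Subgroup G :=
    { carrier := {g | ∃ μ s α β t u γ, g = f.el μ s α β t u γ}
      one_mem' := ⟨_, _, _, _, _, _, _, f.el_zero.symm⟩
      mul_mem' := by
        rintro _ _ ⟨_, _, _, _, _, _, _, rfl⟩ ⟨_, _, _, _, _, _, _, rfl⟩
        exact ⟨_, _, _, _, _, _, _, f.el_mul ..⟩
      inv_mem' := by
        rintro _ ⟨μ, s, α, β, t, u, γ, rfl⟩
        refine ⟨μ, s, α, β, t, u, γ + β * α + em m * (u * t) + μ * s, inv_eq_of_mul_eq_one_right ?_⟩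
        rw [el_mul, ← el_zero]
        simp only [CharTwo.add_self_eq_zero]
        congr 1
        linear_combination (γ + β * α + em m * (u * t) + μ * s) * F_two }
  refine (sup_le (fun u hu => ?_) ((closure_le P).2 ?_) : f.W ≤ P) h
  · obtain ⟨_, _, _, _, _, rfl⟩ := f.mem_QA.1 hu
    exact ⟨_, _, _, _, _, _, _, (f.el_letters 0).2.2 ..⟩
  · rintro _ ⟨s, rfl | rfl⟩
    exacts [⟨_, _, _, _, _, _, _, (f.el_letters s).1⟩, ⟨_, _, _, _, _, _, _, (f.el_letters s).2.1⟩]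

theorem v_el (μ s α β t u γ : F) : f.v (f.el μ s α β t u γ) = co m f.β μ s α β t u := by
  have h : ∃ z, ∃ μ' s' α' β' t' u' γ', f.el μ s α β t u γ = f.el μ' s' α' β' t' u' γ' ∧
    z = co m f.β μ' s' α' β' t' u' := ⟨_, _, _, _, _, _, _, _, rfl, rfl⟩
  rw [v, dif_pos h]
  obtain ⟨μ', s', α', β', t', u', γ', e, e'⟩ := h.choose_spec
  have k : ∀ p q a b c d, bf (co m f.β μ' s' α' β' t' u') (co m f.β p q a b c d) =
      bf (co m f.β μ s α β t u) (co m f.β p q a b c d) := fun p q a b c d => by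
    have := f.el_conj μ s α β t u γ p q a b c d 0
    rw [e, el_conj] at this
    rw [bf_co f.β_ne, bf_co f.β_ne, f.c_eq.1 (mul_left_cancel this)]
  rw [e', ← sub_eq_zero]
  refine eq_zero_of_bf (sub_mem (co_mem ..) (co_mem ..)) fun w hw _ => ?_
  obtain ⟨_, _, _, _, _, _, rfl⟩ := co_surj f.β_ne hw
  rw [sub_eq_add_neg, neg_eq_of_add_eq_zero_left (vadd_self _), bf_add, k, CharTwo.add_self_eq_zero]

theorem v_letters (t : F) : f.v (f.y t) = t • vE ∧ f.v (f.r t) = t • vD ∧ f.v (f.a t) = (t * f.β) • e1 ∧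
    f.v (f.b t) = (t * f.β ^ 2) • e2 ∧ f.v (f.s1 t) = (em m * t) • u1 ∧ f.v (f.s2 t) = (em m * t) • u2 ∧
    f.v (f.c t) = 0 := by
  obtain ⟨h1, h2, h3⟩ := f.el_letters t
  obtain ⟨k1, k2, k3, k4, k5⟩ := f.toLt.el_letters t
  rw [h1, h2, k1, k2, k3, k4, k5]
  simp [h3, v_el, co]

theorem v_mul : ∀ w ∈ f.W, ∀ w' ∈ f.W, f.v (w * w') = f.v w + f.v w' := fun w hw w' hw' => by
  obtain ⟨_, _, _, _, _, _, _, rfl⟩ := f.mem_W.1 hw
  obtain ⟨_, _, _, _, _, _, _, rfl⟩ := f.mem_W.1 hw'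
  rw [el_mul, v_el, v_el, v_el, co_add]

theorem v_mem : ∀ w ∈ f.W, f.v w ∈ VV m := fun w hw => by
  obtain ⟨_, _, _, _, _, _, _, rfl⟩ := f.mem_W.1 hw
  rw [v_el]
  exact co_mem ..

theorem v_surj : ∀ u ∈ VV m, ∃ w ∈ f.W, f.v w = u := fun u hu => by
  obtain ⟨_, _, _, _, _, _, rfl⟩ := co_surj f.β_ne hu
  exact ⟨_, f.el_mem _ _ _ _ _ _ 0, f.v_el ..⟩

theorem conj_eq : ∀ w ∈ f.W, ∀ w' ∈ f.W, w * w' * w⁻¹ = w' * f.c (bf (f.v w) (f.v w')) :=
  fun w hw w' hw' => by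
  obtain ⟨_, _, _, _, _, _, _, rfl⟩ := f.mem_W.1 hw
  obtain ⟨_, _, _, _, _, _, _, rfl⟩ := f.mem_W.1 hw'
  rw [el_conj, v_el, v_el, bf_co f.β_ne]

theorem c_cen (t : F) : ∀ w ∈ f.W, Commute (f.c t) w := fun w hw => by
  have := f.conj_eq _ (f.letters_W t).2.2.2.2.2.2 w hw
  rwa [(f.v_letters t).2.2.2.2.2.2, bf_zero, add_zero' f.c_add, mul_one, mul_inv_eq_iff_eq_mul] at this

theorem v_ker : ∀ w ∈ f.W, f.v w = 0 ↔ ∃ t, w = f.c t := fun w hw => by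
  refine ⟨fun h => ?_, by rintro ⟨t, rfl⟩; exact (f.v_letters t).2.2.2.2.2.2⟩
  obtain ⟨μ, s, α, β, t, u, γ, rfl⟩ := f.mem_W.1 hw
  have k := fun p q a b c d => bf_co (m := m) f.β_ne μ s α β t u p q a b c d
  simp only [← f.v_el _ _ _ _ _ _ γ, h, bf_zero] at k
  obtain rfl : μ = 0 := by simpa using (k 0 1 0 0 0 0).symm
  obtain rfl : s = 0 := by simpa using (k 1 0 0 0 0 0).symm
  obtain rfl : α = 0 := by simpa using (k 0 0 0 1 0 0).symm
  obtain rfl : β = 0 := by simpa using (k 0 0 1 0 0 0).symm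
  have h3 : em m * t = 0 := by linear_combination -k 0 0 0 0 0 1
  have h4 : em m * u = 0 := by linear_combination -k 0 0 0 0 1 0
  exact ⟨γ, by rw [← (f.el_letters 0).2.2, Lt.el_em, h3, h4, (f.toLt.el_letters γ).2.2.2.2]⟩

theorem sq : ∀ w ∈ f.W, w * w = f.c (qf (f.v w)) := fun w hw => by
  obtain ⟨μ, s, α, β, t, u, γ, rfl⟩ := f.mem_W.1 hw
  simp only [el_mul, CharTwo.add_self_eq_zero, zero_add, v_el, qf_co f.β_ne, (f.toLt.el_letters _).2.2.2.2,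
    (f.el_letters 0).2.2]
  congr 1
  ring

theorem O_cen : f.O ≤ 𝐂[f.W] := fun o ho w hw => by
  obtain ⟨μ, s, α, β, t, u, γ, rfl⟩ := f.mem_W.1 hw
  obtain ⟨h1, h2, -⟩ := (f.mem_O o).1 ho
  rw [el_eq]
  exact (((show Commute _ _ from (f.y_O μ o ho).symm).mul_left (h2 _ ⟨s, rfl⟩)).mul_left
    (f.comm_K (f.D_le_A (f.QA_le_D (f.toLt.el_mem _ _ _ _ _))) h1)).eq

theorem norm_of {g : G} (h : ∀ w ∈ f.W, g * w * g⁻¹ ∈ f.W) : g ∈ 𝐍[f.W] :=
  Lt.norm_of_pow (n := orderOf g - 1) (by rw [Nat.sub_add_cancel (orderOf_pos g), pow_orderOf_eq_one])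
    (cj_le_iff.2 h)

theorem h_act : f.h ∈ 𝐍[f.W] ∧
    ∀ w ∈ f.W, f.v (f.h * w * f.h⁻¹) = ω • act (swap 0 2 * swap 0 1) (f.v w) := by
  have k : ∀ μ s α β t u γ, f.h * f.el μ s α β t u γ * f.h⁻¹ =
      f.el (ω ^ 2 * μ) s (ω * α) (ω * β) (ω * t) (ω * u) (ω ^ 2 * γ) := fun μ s α β t u γ => by
    rw [el_eq, el_eq, ← conj_mul, ← conj_mul, f.y_h, Lt.h_el, (f.r_comm f.mem'.2.2.2.1 s).eq,
      mul_inv_cancel_right]
  refine ⟨f.norm_of fun w hw => ?_, fun w hw => ?_⟩ <;>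
    obtain ⟨μ, s, α, β, t, u, γ, rfl⟩ := f.mem_W.1 hw
  · rw [k]; exact f.el_mem _ _ _ _ _ _ _
  · simp only [k, v_el, co, act_add, act_smul, htab rfl, smul_add, smul_smul]
    rw [show ω * (s * ω ^ 2) = s by linear_combination s * ω_cube]
    module

/-- The pairs of an element and a permutation inducing the same map on `W / X`. -/
def Γ : Subgroup (G × Perm (Fin 8)) where
  carrier := {p | p.1 ∈ 𝐍[f.W] ∧ Acts f.W f.v p.1 p.2}
  one_mem' := ⟨one_mem _, fun w hw => by simp [act_one (f.v_mem w hw)]⟩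
  mul_mem' := fun h k => ⟨mul_mem h.1 k.1, h.2.mul k.2 k.1⟩
  inv_mem' := fun {p} h => ⟨inv_mem h.1, fun w hw => by
    have hw' := conj_mem_of_norm (inv_mem h.1) hw
    have := h.2 _ hw'
    rw [show p.1 * (p.1⁻¹ * w * p.1⁻¹⁻¹) * p.1⁻¹ = w by group] at this
    rw [this, ← act_mul, Prod.snd_inv, inv_mul_cancel, act_one (f.v_mem _ hw'), Prod.fst_inv]⟩

theorem mem_Γ {g : G} {σ : Perm (Fin 8)} (hc : ∀ t, Commute g (f.c t))
    (h : ∀ t, ∀ z ∈ [f.y t, f.r t, f.a t, f.b t, f.s1 t, f.s2 t],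
      g * z * g⁻¹ ∈ f.W ∧ f.v (g * z * g⁻¹) = act σ (f.v z)) : (g, σ) ∈ f.Γ := by
  let P : Subgroup G :=
    { carrier := {z | z ∈ f.W ∧ g * z * g⁻¹ ∈ f.W ∧ f.v (g * z * g⁻¹) = act σ (f.v z)}
      one_mem' := by simp [← add_zero' f.c_add, f.letters_W, f.v_letters, (hc _).eq, act_zero]
      mul_mem' := fun {z z'} h k => ⟨mul_mem h.1 k.1, by rw [← conj_mul]; exact mul_mem h.2.1 k.2.1, by
        rw [← conj_mul, f.v_mul _ h.2.1 _ k.2.1, f.v_mul _ h.1 _ k.1, act_add, h.2.2, k.2.2]⟩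
      inv_mem' := fun {z} h => ⟨inv_mem h.1, by rw [← conj_inv]; exact inv_mem h.2.1, by
        have k : ∀ w ∈ f.W, f.v w⁻¹ = f.v w := fun w hw => by
          have := f.v_mul _ (inv_mem hw) _ (mul_mem hw hw)
          rw [inv_mul_cancel_left, f.sq w hw, (f.v_letters _).2.2.2.2.2.2, add_zero] at this
          exact this.symm
        rw [← conj_inv, k _ h.2.1, k _ h.1, h.2.2]⟩ }
  have k : ∀ w ∈ f.W, w ∈ P := fun w hw => by
    obtain ⟨μ, s, α, β, t, u, γ, rfl⟩ := f.mem_W.1 hw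
    have L := f.letters_W
    exact mul_mem (mul_mem (mul_mem (mul_mem (mul_mem (mul_mem ⟨(L _).1, h μ _ (by simp)⟩
      ⟨(L _).2.1, h s _ (by simp)⟩) ⟨(L _).2.2.1, h α _ (by simp)⟩) ⟨(L _).2.2.2.1, h β _ (by simp)⟩)
      ⟨(L _).2.2.2.2.1, h t _ (by simp)⟩) ⟨(L _).2.2.2.2.2.1, h u _ (by simp)⟩)
      (by simp [P, L, f.v_letters, (hc _).eq, act_zero])
  exact ⟨f.norm_of fun w hw => (k w hw).2.1, fun w hw => (k w hw).2.2⟩

theorem W_Γ {w : G} (hw : w ∈ f.W) : (w, 1) ∈ f.Γ :=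
  ⟨le_normalizer hw, fun z hz => by
    rw [f.conj_eq w hw z hz, f.v_mul _ hz _ (f.letters_W _).2.2.2.2.2.2, (f.v_letters _).2.2.2.2.2.2, add_zero,
      act_one (f.v_mem z hz)]⟩

theorem fix {g z : G} {σ : Perm (Fin 8)} {k : F} {u : Vec} (h : Commute g z) (hz : z ∈ f.W)
    (hv : f.v z = k • u) (hu : act σ u = u) : g * z * g⁻¹ ∈ f.W ∧ f.v (g * z * g⁻¹) = act σ (f.v z) := by
  rw [h.eq, mul_inv_cancel_right, hv, act_smul, hu]
  exact ⟨hz, rfl⟩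

theorem x_Γ (hm : m = true) (t : F) : (f.x t, xσ t) ∈ f.Γ := by
  have L := f.letters_W
  have V := f.v_letters
  have hx := (f.letters_mem t).2.2.2.2.2.1
  obtain ⟨h1, h2, h3, h4, h5, h6, -⟩ := xtab t
  refine f.mem_Γ (fun u => (f.cc u t).2.2.2.2.1.symm) fun u => ?_
  obtain ⟨k1, k2, k3⟩ := f.xact hm t u
  simp only [List.forall_mem_cons, k1, k2, k3, List.not_mem_nil, false_imp_iff, implies_true, and_true]
  refine ⟨f.fix (f.y_D u _ hx) (L u).1 (V u).1 h1, f.fix (f.r_comm (f.D_le_A hx) u) (L u).2.1 (V u).2.1 h2,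
    f.fix (f.com u t).2.2.2.2.symm (L u).2.2.1 (V u).2.2.1 h3, ?_, ?_, ?_⟩ <;>
    simp (maxDischargeDepth := 6) only [mul_mem, L, f.v_mul, V, act_smul, h4, h5, h6, f.β_one hm, true_and,
      show em m = 1 by simp [hm, em]] <;> module

theorem w_Γ (hm : m = true) : (f.w, swap 3 4 * swap 6 7) ∈ f.Γ := by
  have L := f.letters_W
  have V := f.v_letters
  have hx := (f.letters_mem 0).2.2.2.2.2.2
  obtain ⟨h1, h2, h3, h4, h5, h6⟩ := wtab rfl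
  refine f.mem_Γ (fun u => (f.cc u 0).2.2.2.2.2.symm) fun u => ?_
  obtain ⟨k1, k2, -⟩ := (f.wact hm).2.2 u
  have k : ∀ {y z}, f.w * y * f.w = z → f.w * z * f.w = y := fun e => by
    rw [← e, ← mul_assoc, ← mul_assoc, f.nn.2.2, one_mul, mul_assoc, f.nn.2.2, mul_one]
  simp only [List.forall_mem_cons, List.not_mem_nil, false_imp_iff, implies_true, and_true]
  refine ⟨f.fix (f.y_D u _ hx) (L u).1 (V u).1 h1, f.fix (f.r_comm (f.D_le_A hx) u) (L u).2.1 (V u).2.1 h2,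
    ?_⟩
  simp [inv_eq_of_mul_eq_one_right f.nn.2.2, k1, k2, k k1, k k2, L, V, act_smul, h3, h4, h5, h6, f.β_one hm]

theorem z_Γ {a b : F → G} {n : G} {β : F} {j : Fin 8} {p q : Vec} (hs : f.Sl a b n) (hd : f.Del a b n β)
    (h : (j = 3 ∧ p = e1 ∧ q = e2) ∨ (j = 4 ∧ p = e2 ∧ q = e1)) (hβ : β ≠ 0)
    (va : ∀ t, f.v (a t) = (t * β) • p) (vb : ∀ t, f.v (b t) = (t * β ^ 2) • q) {κ : F} (hκ : κ ≠ 0)
    (cs : ∀ t, Commute (n * f.y (κ / β) * n) (f.s1 t) ∧ Commute (n * f.y (κ / β) * n) (f.s2 t)) :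
    (n * f.y (κ / β) * n, yσ j κ) ∈ f.Γ ∧ ∀ t, Commute (n * f.y (κ / β) * n) (f.c t) := by
  have L := f.letters_W
  have V := f.v_letters
  obtain ⟨h1, h2, h3, h4, h5, h6⟩ := ytab h κ hκ
  obtain ⟨-, -, -, m1, -, -, nA, nn, na, -⟩ := hs.facts
  have cz : ∀ z z', n * z * n = z' → z' ∈ f.QA → Commute (n * f.y (κ / β) * n) z := fun z z' e hz => by
    have := (f.y_QA hz (κ / β)).symm.map (MulAut.conj n)
    simpa [← e, inv_eq_of_mul_eq_one_right nn, mul_assoc, ← mul_assoc n n, nn] using this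
  have hc := fun t => cz _ _ (na t).2 (m1 t).1
  have iv : (n * f.y (κ / β) * n)⁻¹ = n * f.y (κ / β) * n := by
    rw [mul_inv_rev, mul_inv_rev, inv_eq_of_mul_eq_one_right nn, add_inv f.y_add, mul_assoc]
  have A := fun t => f.QA_le_W (m1 t).1
  have B := fun t => f.QA_le_W (m1 t).2
  have key : ∀ u, ∀ z ∈ [f.y u, f.r u, a u, b u, f.s1 u, f.s2 u], n * f.y (κ / β) * n * z * (n * f.y (κ / β) * n)⁻¹ ∈
      f.W ∧ f.v (n * f.y (κ / β) * n * z * (n * f.y (κ / β) * n)⁻¹) = act (yσ j κ) (f.v z) := fun u => by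
    simp only [List.forall_mem_cons, List.not_mem_nil, false_imp_iff, implies_true, and_true]
    refine ⟨?_, ?_, f.fix (cz _ _ (na u).1 (f.letters_mem u).2.2.2.2.1) (A u) (va u) h3, ?_,
      f.fix (cs u).1 (L u).2.2.2.2.1 (V u).2.2.2.2.1 h5, f.fix (cs u).2 (L u).2.2.2.2.2.1 (V u).2.2.2.2.2.1 h6⟩
    · simp only [iv, hd.ny, mul_mem, L, A, f.v_mul, V, va, act_smul, h1, true_and, smul_add, smul_smul, add_zero]
      congr 2
      field_simp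
    · have e : n * f.y (κ / β) * n * f.r u * (n * f.y (κ / β) * n)⁻¹ = f.r u * a (κ / β * u) := by
        have := congrArg (MulAut.conj n) (f.y_r (κ / β) u)
        simp only [map_mul, map_inv, MulAut.conj_apply, (f.r_comm nA u).eq, mul_inv_cancel_right] at this
        rwa [inv_eq_of_mul_eq_one_right nn, (na _).2] at this
      simp only [e, mul_mem, L, A, f.v_mul, V, va, act_smul, h2, true_and, smul_add, smul_smul]
      congr 2
      field_simp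
    · obtain ⟨δ, e⟩ := hd.nb u (κ / β)
      simp (maxDischargeDepth := 6) only [iv, e, mul_mem, L, A, B, f.v_mul, V, va, vb, act_smul, h4, true_and,
        smul_add, smul_smul, add_zero]
      have z : ∀ β κ u : F, β ≠ 0 → κ ≠ 0 → u * (κ / β) = u * β ^ 2 * κ ∧
          β * u * (κ / β) ^ 2 = u * β ^ 2 * κ ^ 2 ∧ β * u * (κ / β) ^ 3 * β = u * β ^ 2 := by decide +kernel
      obtain ⟨z1, z2, z3⟩ := z β κ u hβ hκ
      rw [z1, z2, z3]
  refine ⟨f.mem_Γ hc fun u z hz => key u z ?_, hc⟩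
  rcases hs with ⟨rfl, rfl, -⟩ | ⟨rfl, rfl, -⟩
  · exact hz
  · exact (List.Perm.mem_iff (((List.Perm.swap _ _ _).cons _).cons _)).1 hz

theorem D_act : ∀ d ∈ f.D, d ∈ 𝐍[f.W] ∧
    ∃ σ ∈ Sg m, Perm.sign σ = 1 ∧ σ 0 = 0 ∧ σ 1 = 1 ∧ σ 2 = 2 ∧ Acts f.W f.v d σ := by
  let S : Subgroup (Perm (Fin 8)) := Sg m ⊓ alternatingGroup _ ⊓ MulAction.stabilizer _ (0 : Fin 8) ⊓
    MulAction.stabilizer _ (1 : Fin 8) ⊓ MulAction.stabilizer _ (2 : Fin 8)
  let P := (f.Γ ⊓ (⊤ : Subgroup G).prod S).map (MonoidHom.fst _ _)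
  have k : ∀ {g σ}, (g, σ) ∈ f.Γ → σ ∈ S → g ∈ P := fun h k => ⟨_, ⟨h, trivial, k⟩, rfl⟩
  have L := f.letters_W
  have : f.D ≤ P := f.D_le (fun t => ⟨k (f.W_Γ (L t).2.2.1) S.one_mem, k (f.W_Γ (L t).2.2.2.1) S.one_mem,
    k (f.W_Γ (L t).2.2.2.2.2.2) S.one_mem, k (f.W_Γ (L t).2.2.2.2.1) S.one_mem,
    k (f.W_Γ (L t).2.2.2.2.2.1) S.one_mem, by
      rcases m.eq_false_or_eq_true with hm | hm
      · have s : Perm.sign (xσ t) = 1 := by
          unfold xσ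
          split_ifs <;> first | exact map_one _ | exact sign2 (by decide) (by decide)
        exact k (f.x_Γ hm t) ⟨⟨⟨⟨⟨fun _ => s, by simp [hm]⟩, s⟩, (xtab t).2.2.2.2.2.2.1⟩,
          (xtab t).2.2.2.2.2.2.2.1⟩, (xtab t).2.2.2.2.2.2.2.2⟩
      · rw [((f.triv hm).2 t).2.2]; exact P.one_mem⟩) (by
      rcases m.eq_false_or_eq_true with hm | hm
      · have s : Perm.sign (swap (3 : Fin 8) 4 * swap 6 7) = 1 := sign2 (by decide) (by decide)
        exact k (f.w_Γ hm) ⟨⟨⟨⟨⟨fun _ => s, by simp [hm]⟩, s⟩, rfl⟩, rfl⟩, rfl⟩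
      · rw [(f.triv hm).1]; exact P.one_mem)
  intro d hd
  obtain ⟨⟨_, σ⟩, ⟨h, -, ⟨⟨⟨h1, h2⟩, h3⟩, h4⟩, h5⟩, rfl⟩ := this hd
  exact ⟨h.1, σ, h1, h2, h3, h4, h5, h.2⟩

theorem real : ∀ σ ∈ Sg m, Perm.sign σ = 1 → ∃ g ∈ 𝐍[f.W], g ∈ normalClosure (f.A : Set G) ∧
    (∀ t, Commute g (f.c t)) ∧ g ∈ 𝐂[f.O] ∧ Acts f.W f.v g σ := by
  let S : Subgroup G := normalClosure (f.A : Set G) ⊓ 𝐂[f.X] ⊓ 𝐂[f.O]
  let P := (f.Γ ⊓ S.prod ⊤).map (MonoidHom.snd _ _)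
  have AO : ∀ g ∈ f.A, g ∈ 𝐂[f.O] := fun g hg o ho => (f.comm_K hg ((f.mem_O o).1 ho).1).symm
  have k : ∀ {g σ}, (g, σ) ∈ f.Γ → g ∈ f.D → σ ∈ P := fun h k =>
    ⟨_, ⟨h, ⟨⟨subset_normalClosure (f.D_le_A k), f.D_le_cent k⟩, AO _ (f.D_le_A k)⟩, trivial⟩, rfl⟩
  have k' : ∀ {n ν σ}, n ∈ f.A → (n * f.y ν * n, σ) ∈ f.Γ ∧ (∀ t, Commute (n * f.y ν * n) (f.c t)) → σ ∈ P :=
    fun hn h => ⟨_, ⟨h.1, ⟨⟨mul_mem (mul_mem (subset_normalClosure hn) (f.y_mem _)) (subset_normalClosure hn),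
      f.mem_cX.2 fun t => (h.2 t).symm⟩, mul_mem (mul_mem (AO _ hn) (f.y_O _)) (AO _ hn)⟩, trivial⟩, rfl⟩
  have cj : ∀ {n z z' : G} (ν), n * n = 1 → n * z * n = z' → z ∈ f.D → Commute (n * f.y ν * n) z' :=
    fun {n z z'} ν nn e hz => by
      have := (show Commute z _ from f.y_D ν z hz).symm.map (MulAut.conj n)
      simpa [← e, inv_eq_of_mul_eq_one_right nn] using this
  have c1 : ∀ ν t, Commute (f.n1 * f.y ν * f.n1) (f.s1 t) ∧ Commute (f.n1 * f.y ν * f.n1) (f.s2 t) := by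
    intro ν t
    rcases m.eq_false_or_eq_true with hm | hm
    · obtain ⟨-, -, h1, h2⟩ := (f.wact hm).2.2 t
      exact ⟨cj ν f.nn.1 h1 (f.letters_mem t).2.2.2.2.2.1, cj ν f.nn.1 h2 (f.QA_le_D (f.letters_mem t).2.2.2.1)⟩
    · simp [(f.triv hm).2 t]
  have c2 : ∀ ν t, Commute (f.n2 * f.y ν * f.n2) (f.s1 t) ∧ Commute (f.n2 * f.y ν * f.n2) (f.s2 t) := by
    intro ν t
    rcases m.eq_false_or_eq_true with hm | hm
    · obtain ⟨h1, -, h2⟩ := f.wact hm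
      have ww := f.nn.2.2
      have e : f.n2 * f.y ν * f.n2 = MulAut.conj f.w (f.n1 * f.y ν * f.n1) := by
        simp only [← h1, map_mul, MulAut.conj_apply, (f.y_D ν _ (f.letters_mem 0).2.2.2.2.2.2 : f.w * _ = _),
          mul_inv_cancel_right]
        rw [inv_eq_of_mul_eq_one_right ww]
      have e1 : f.s2 t = MulAut.conj f.w (f.s1 t) := by
        rw [MulAut.conj_apply, inv_eq_of_mul_eq_one_right ww, (h2 t).2.1]
      have e2 : f.s1 t = MulAut.conj f.w (f.s2 t) := by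
        rw [e1, ← MulAut.mul_apply, ← map_mul, ww, map_one, MulAut.one_apply]
      exact ⟨by rw [e, e2]; exact (c1 ν t).2.map _, by rw [e, e1]; exact (c1 ν t).1.map _⟩
    · simp [(f.triv hm).2 t]
  have V := f.v_letters
  have p : ∀ κ, κ ≠ 0 → yσ 3 κ ∈ P := fun κ hκ => k' f.mem'.1 (f.z_Γ (.inl ⟨rfl, rfl, rfl⟩) f.del1
    (.inl ⟨rfl, rfl, rfl⟩) f.β_ne (fun t => (V t).2.2.1) (fun t => (V t).2.2.2.1) hκ (c1 _))
  have q : ∀ κ, κ ≠ 0 → yσ 4 κ ∈ P := fun κ hκ => k' f.mem'.2.1 (f.z_Γ (.inr ⟨rfl, rfl, rfl⟩) f.del2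
    (.inr ⟨rfl, rfl, rfl⟩) (pow_ne_zero 2 f.β_ne) (fun t => (V t).2.2.2.1)
    (fun t => by rw [← pow_mul, F_four, (V t).2.2.1]) hκ (c2 _))
  have p1 := p 1 one_ne_zero
  have p2 := p ω ω_ne.1
  have q1 := q 1 one_ne_zero
  have q2 := q ω ω_ne.1
  intro σ hσ hs
  obtain ⟨⟨g, _⟩, ⟨h, ⟨⟨h1, h2⟩, h3⟩, -⟩, rfl⟩ : σ ∈ P := by
    refine even_mem (S := fun i => m = false → i < 5) (fun c hc h0 => ?_) σ (fun i hi hm => ?_) hs
    · have x : ¬ c < 5 → ∀ t, xσ t ∈ P := fun h t =>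
        k (f.x_Γ (by simpa using mt hc h) t) (f.letters_mem t).2.2.2.2.2.1
      have s4 := mul_mem (mul_mem q1 q2) p2
      fin_cases c <;> have c : ∀ {σ τ}, σ ∈ P → σ = τ → τ ∈ P := fun h e => e ▸ h
      · exact absurd rfl h0
      · exact c P.one_mem (by decide +kernel)
      · exact c (mul_mem (mul_mem (mul_mem (mul_mem p1 q2) p1) p2) q1) (by decide +kernel)
      · exact c (mul_mem (mul_mem (mul_mem q1 p1) p2) q2) (by decide +kernel)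
      · exact c (mul_mem p1 s4) (by decide +kernel)
      · have x1 := x (by decide) 1
        exact c (mul_mem (mul_mem (mul_mem p1 x1) s4) x1) (by decide +kernel)
      · have x1 := mul_mem (x (by decide) 1) (x (by decide) ω)
        exact c (mul_mem (mul_mem (mul_mem p1 x1) s4) x1) (by decide +kernel)
      · have x1 := x (by decide) ω
        exact c (mul_mem (mul_mem (mul_mem p1 x1) s4) x1) (by decide +kernel)
    · obtain ⟨h5, h6, h7⟩ := hσ.2 hm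
      fin_cases i <;> simp_all
  exact ⟨g, h.1, h1, fun t => (f.mem_cX.1 h2 t).symm, h3, h.2⟩

end Fu

end Cfsg.Agent.STA
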