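import Mathlib
import Cfsg.Agent.STA.LBasic

/-! The element `g` normalises `R QA` (PLAN: Y, step G0). -/

set_option autoImplicit false
set_option linter.unusedSectionVars false

namespace Cfsg.Agent.STA.YP

open Cfsg Cfsg.Agent.Loc.Mss Subgroup Equiv

section

variable {m : Bool} {G : Type*} [Group G] (f : Cfg m G)

def V : Subgroup G := f.R ⊔ f.X

def P0 : Subgroup G := f.R ⊔ f.QA

theorem QA_A {u : G} (hu : u ∈ f.QA) : u ∈ f.A := f.D_le_A (f.QA_le_D hu)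

theorem c_QA (t : F) : f.c t ∈ f.QA := (f.letters_mem t).2.2.2.2.1

theorem c_A (t : F) : f.c t ∈ f.A := QA_A f (c_QA f t)

theorem rc (s t : F) : Commute (f.c t) (f.r s) := f.r_comm (c_A f t) s

theorem R_cent {B : Subgroup G} (hB : B ≤ f.A) : f.R ≤ 𝐂[B] := by
  rintro _ ⟨s, rfl⟩
  exact mem_cent.2 fun a ha => (f.r_comm (hB ha) s).eq

theorem mem_P0 {p : G} : p ∈ P0 f ↔ ∃ s, ∃ u ∈ f.QA, p = f.r s * u := by
  rw [P0, mem_sup_norm' (norm_of_cent (R_cent f fun _ => QA_A f))]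
  constructor
  · rintro ⟨_, ⟨s, rfl⟩, u, hu, rfl⟩
    exact ⟨s, u, hu, rfl⟩
  · rintro ⟨s, u, hu, rfl⟩
    exact ⟨_, ⟨s, rfl⟩, u, hu, rfl⟩

theorem mem_V {p : G} : p ∈ V f ↔ ∃ s t, p = f.r s * f.c t := by
  rw [V, mem_sup_norm' (norm_of_cent (R_cent f fun _ hx => QA_A f (f.X_le_QA hx)))]
  constructor
  · rintro ⟨_, ⟨s, rfl⟩, _, ⟨t, rfl⟩, rfl⟩
    exact ⟨s, t, rfl⟩
  · rintro ⟨s, t, rfl⟩
    exact ⟨_, ⟨s, rfl⟩, _, ⟨t, rfl⟩, rfl⟩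

theorem mem_cX {n : G} : n ∈ 𝐂[f.X] ↔ ∀ t, Commute n (f.c t) :=
  mem_cent.trans ⟨fun h t => (h _ ⟨t, rfl⟩).symm, by rintro h _ ⟨t, rfl⟩; exact (h t).symm⟩

theorem mem_cR {n : G} : n ∈ 𝐂[f.R] ↔ ∀ t, Commute n (f.r t) :=
  mem_cent.trans ⟨fun h t => (h _ ⟨t, rfl⟩).symm, by rintro h _ ⟨t, rfl⟩; exact (h t).symm⟩

theorem mem_CV {n : G} : n ∈ 𝐂[V f] ↔ n ∈ 𝐂[f.R] ∧ n ∈ 𝐂[f.X] := by
  rw [V, cent_sup]; rfl

theorem cR_N {n : G} (h : n ∈ 𝐂[f.R]) : n ∈ f.N :=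
  f.mem_N one_ne_zero (by rw [((mem_cR f).1 h 1).eq, mul_inv_cancel_right]; exact f.r_K 1)

theorem QA_cX {u : G} (hu : u ∈ f.QA) : u ∈ 𝐂[f.X] := f.D_le_cent (f.QA_le_D hu)

theorem A_cR {u : G} (hu : u ∈ f.A) : u ∈ 𝐂[f.R] := (mem_cR f).2 (f.r_comm hu)

theorem r_cR (s : F) : f.r s ∈ 𝐂[f.R] := (mem_cR f).2 (add_commute f.r_add s)

theorem r_cX (s : F) : f.r s ∈ 𝐂[f.X] := (mem_cX f).2 fun t => (rc f s t).symm

theorem P0_le_CV : P0 f ≤ 𝐂[V f] := fun p hp => by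
  obtain ⟨s, u, hu, rfl⟩ := (mem_P0 f).1 hp
  exact (mem_CV f).2 ⟨mul_mem (r_cR f s) (A_cR f (QA_A f hu)), mul_mem (r_cX f s) (QA_cX f hu)⟩

theorem V_le_P0 : V f ≤ P0 f := sup_le_sup_left f.X_le_QA _

theorem CV_norm : 𝐂[V f] ≤ 𝐍[P0 f] :=
  norm_sup (fun _ hn => cent_le_norm _ ((mem_CV f).1 hn).1) fun _ hn =>
    f.kf.k2 _ (cR_N f ((mem_CV f).1 hn).1) (cent_le_norm _ ((mem_CV f).1 hn).2)

theorem pg_P0 : IsPGroup 2 (P0 f) :=
  pg_sup (pg_iff.2 (by rintro _ ⟨s, rfl⟩; exact ⟨1, by rw [pow_one, sq, add_sq f.r_add]⟩)) f.pg_QA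
    (norm_of_cent (R_cent f fun _ => QA_A f))

theorem two_mul_inv {u p : G} (h : Commute u p) (hu : ∃ j : ℕ, u ^ 2 ^ j = 1) (hp : ∃ j : ℕ, p ^ 2 ^ j = 1) :
    ∃ j : ℕ, (u⁻¹ * p) ^ 2 ^ j = 1 := by
  obtain ⟨i, hi⟩ := hu
  obtain ⟨j, hj⟩ := hp
  refine ⟨i + j, ?_⟩
  rw [h.inv_left.mul_pow, pow_add, pow_mul, inv_pow, hi, inv_one, one_pow, one_mul, mul_comm, pow_mul, hj, one_pow]

variable [Finite G]

theorem g_V : f.g ∈ 𝐍[V f] := mem_norm_of_cj_le (cj_le_iff.2 fun p hp => by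
  obtain ⟨s, t, rfl⟩ := (mem_V f).1 hp
  obtain ⟨s', e⟩ := f.g_r s
  obtain ⟨t', e'⟩ := conj_mem_of_norm f.g_X (⟨t, rfl⟩ : f.c t ∈ f.X)
  refine (mem_V f).2 ⟨s', s' + t', ?_⟩
  rw [f.c_add, ← mul_assoc (f.r s'), ← e, ← e']
  group)

theorem g_CV : f.g ∈ 𝐍[𝐂[V f]] :=
  norm_cent (X := zpowers f.g) (zpowers_le.2 (g_V f)) (mem_zpowers _)

/-- A 2-element of `C(V)` that acts on `A` as an element of `QA` lies in `P0`. -/
theorem mem_P0_of {p u : G} (hp : p ∈ 𝐂[V f]) (p2 : ∃ j : ℕ, p ^ 2 ^ j = 1) (hu : u ∈ f.QA)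
    (hk : u⁻¹ * p ∈ f.K) : p ∈ P0 f := by
  have hc : Commute u p := by
    have h := (f.comm_K (QA_A f hu) hk).eq
    rw [mul_inv_cancel_left] at h
    show u * p = p * u
    conv_lhs => rw [h]
    group
  obtain ⟨s, hs⟩ := f.mem_R_of hk (mul_mem (inv_mem (A_cR f (QA_A f hu))) ((mem_CV f).1 hp).1)
    (two_mul_inv hc (pg_iff.1 f.pg_QA u hu) p2)
  refine (mem_P0 f).2 ⟨s, u, hu, ?_⟩
  rw [← (f.r_comm (QA_A f hu) s).eq, ← hs, mul_inv_cancel_left]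

end

section True

variable {G : Type*} [Group G] [Finite G] (f : Cfg true G)

theorem g_P0_true : f.g ∈ 𝐍[P0 f] := by
  have hP : cj(f.g, P0 f) ≤ 𝐂[V f] := cj_le_of_norm (P0_le_CV f) (g_CV f)
  have hD : f.D ≤ 𝐍[cj(f.g, P0 f)] := fun d hd => by
    rw [← cj_norm, mem_cj]
    exact CV_norm f (conj_mem_of_norm' (g_CV f) ((mem_CV f).2 ⟨A_cR f (f.D_le_A hd), f.D_le_cent hd⟩))
  refine mem_norm_of_cj_le fun p hp => ?_
  obtain ⟨u, hu, hk⟩ := f.kf.k7 rfl _ (fun x hx => cR_N f ((mem_CV f).1 (hP hx)).1)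
    (fun x hx => ((mem_CV f).1 (hP hx)).2) (pg_cj (pg_P0 f) _) hD p hp
  exact mem_P0_of f (hP hp) (pg_iff.1 (pg_cj (pg_P0 f) _) p hp) hu hk

end True

section False

variable {G : Type*} [Group G] [Finite G] (f : Cfg false G)

theorem el_false (α β t u γ : F) : f.el α β t u γ = f.a α * f.b β * f.c γ := by
  rw [Lt.el, ((f.triv rfl).2 t).1, ((f.triv rfl).2 u).2.1, mul_one, mul_one]

theorem abc_inj {α β γ α' β' γ' : F} (h : f.a α * f.b β * f.c γ = f.a α' * f.b β' * f.c γ') :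
    α = α' ∧ β = β' := by
  rw [← el_false f α β 0 0, ← el_false f α' β' 0 0] at h
  exact ⟨(f.el_inj h).1, (f.el_inj h).2.1⟩

theorem ab_ne {α β γ γ' : F} (h : f.a α * f.c γ = f.b β * f.c γ') : α = 0 ∧ β = 0 := by
  have := abc_inj f (α := α) (β := 0) (γ := γ) (α' := 0) (β' := β) (γ' := γ')
    (by rw [add_zero' f.b_add, add_zero' f.a_add, mul_one, one_mul, h])
  exact ⟨this.1, this.2.symm⟩

/-- `e` interchanges the two letters. -/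
def Sw (e : G) : Prop := ∃ κ : F, κ ≠ 0 ∧ ∀ s, (∃ t, e * f.a s * e⁻¹ = f.b (κ * s) * f.c t) ∧
  ∃ t, e * f.b s * e⁻¹ = f.a (κ ^ 2 * s) * f.c t

theorem conj_mul_c {e x : G} (he : e ∈ 𝐂[V f]) (t : F) : e * (x * f.c t) * e⁻¹ = e * x * e⁻¹ * f.c t := by
  have h := ((mem_cX f).1 ((mem_CV f).1 he).2 t).eq
  calc e * (x * f.c t) * e⁻¹ = e * x * e⁻¹ * (e * f.c t) * e⁻¹ := by group
    _ = _ := by rw [h]; group

theorem sw_or {e : G} (he : e ∈ 𝐂[V f]) (e2 : e * e = 1) : Sw f e ∨ e ∈ P0 f := by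
  have hN := cR_N f ((mem_CV f).1 he).1
  have hX := ((mem_CV f).1 he).2
  obtain ⟨κ, hκ, h | h⟩ := f.kf.diag hN hX
  swap
  · exact .inl ⟨κ, hκ, h⟩
  have k1 : κ = 1 := by
    obtain ⟨t, ht⟩ := (h 1).1
    obtain ⟨t', ht'⟩ := (h (κ * 1)).1
    have h1 : f.a 1 = f.a (κ * (κ * 1)) * f.c t' * f.c t := by
      rw [← ht', ← conj_mul_c f he, ← ht]
      calc f.a 1 = (e * e) * f.a 1 * (e * e)⁻¹ := by rw [e2]; group
        _ = _ := by group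
    have h2 := (abc_inj f (α := 1) (β := 0) (γ := 0) (α' := κ * (κ * 1)) (β' := 0) (γ' := t' + t) (by
      rw [add_zero' f.b_add, add_zero' f.c_add, f.c_add, mul_one, mul_one, mul_one, ← mul_assoc]; exact h1)).1
    revert h2; generalize κ = x; revert x; decide +kernel
  subst k1
  obtain ⟨u, hu, hk⟩ := f.kf.k6 e hN hX fun u hu => by
    obtain ⟨α, β, t, t', γ, rfl⟩ := f.mem_QA.1 hu
    obtain ⟨x, hx⟩ := (h α).1
    obtain ⟨y, hy⟩ := (h β).2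
    rw [one_mul] at hx
    rw [one_pow, one_mul] at hy
    refine ⟨x + y, ?_⟩
    rw [el_false, conj_mul_c f he, mul_inv_eq_iff_eq_mul,
      show e * (f.a α * f.b β) * e⁻¹ = e * f.a α * e⁻¹ * (e * f.b β * e⁻¹) by group, hx, hy, f.c_add,
      ← (f.cc x α).1.eq, ← (f.cc y β).2.1.eq, mul_assoc (f.c x), ← mul_assoc (f.a α), ← (f.cc y α).1.eq]
    group
  exact .inr (mem_P0_of f he ⟨1, by rw [pow_one, sq, e2]⟩ hu hk)

theorem not_sw_mul {e e' : G} (he : e ∈ 𝐂[V f]) (h : Sw f e) (h' : Sw f e') : ¬ Sw f (e * e') := by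
  rintro ⟨κ'', hκ'', h''⟩
  obtain ⟨κ, -, h⟩ := h
  obtain ⟨κ', -, h'⟩ := h'
  obtain ⟨t, ht⟩ := (h' 1).1
  obtain ⟨t', ht'⟩ := (h (κ' * 1)).2
  obtain ⟨t'', ht''⟩ := (h'' 1).1
  have h1 : f.a (κ ^ 2 * (κ' * 1)) * f.c (t' + t) = f.b (κ'' * 1) * f.c t'' := by
    rw [← ht'', f.c_add, ← mul_assoc, ← ht', ← conj_mul_c f he, ← ht]; group
  exact hκ'' (by simpa using (ab_ne f h1).2)

theorem not_sw {e p : G} (he : e ∈ 𝐂[V f]) (hp : p ∈ P0 f) (hV : p ∉ V f) (p2 : p * p = 1) (hc : Commute e p) :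
    ¬ Sw f e := by
  rintro ⟨κ, hκ, h⟩
  obtain ⟨s, u, hu, rfl⟩ := (mem_P0 f).1 hp
  have hr := (mem_cR f).1 ((mem_CV f).1 he).1 s
  have hcu : Commute e u := by simpa using hr.inv_right.mul_right hc
  have u2 : u * u = 1 := by
    rw [← (f.r_comm (QA_A f hu) s).eq, mul_assoc, ← mul_assoc (f.r s), ← (f.r_comm (QA_A f hu) s).eq, mul_assoc,
      add_sq f.r_add, mul_one] at p2
    exact p2
  obtain ⟨α, β, t, t', γ, rfl⟩ := f.mem_QA.1 hu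
  have h0 : β * α = 0 := by
    rw [f.el_mul, ← add_zero' f.c_add, (f.el_letters 0).2.2.2.2] at u2
    have := (f.el_inj u2).2.2.2.2
    simpa [em, CharTwo.add_self_eq_zero] using this
  rw [el_false] at hcu hV
  have hcu' := hcu.eq
  rw [← mul_inv_eq_iff_eq_mul, conj_mul_c f he, mul_left_inj] at hcu'
  rcases mul_eq_zero.1 h0 with rfl | rfl
  · obtain ⟨x, hx⟩ := (h α).1
    rw [add_zero' f.b_add, mul_one, hx] at hcu'
    obtain ⟨rfl, -⟩ := ab_ne f (α := α) (β := κ * α) (γ := 0) (γ' := x) (by rw [add_zero' f.c_add, mul_one]; exact hcu'.symm)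
    exact hV ((mem_V f).2 ⟨s, γ, by rw [add_zero' f.b_add, add_zero' f.a_add, mul_one, one_mul]⟩)
  · obtain ⟨x, hx⟩ := (h β).2
    rw [add_zero' f.a_add, one_mul, hx] at hcu'
    obtain ⟨-, rfl⟩ := ab_ne f (α := κ ^ 2 * β) (β := β) (γ := x) (γ' := 0) (by rw [add_zero' f.c_add, mul_one]; exact hcu')
    exact hV ((mem_V f).2 ⟨s, γ, by rw [add_zero' f.b_add, add_zero' f.a_add, mul_one, one_mul]⟩)

theorem fam_P0 {e : F → G} (ha : ∀ s t, e (s + t) = e s * e t) (hc : ∀ t, e t ∈ 𝐂[V f])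
    (hV : ∀ t, t ≠ 0 → e t ∉ V f) (t : F) : e t ∈ P0 f := by
  obtain ⟨t0, h0, hp⟩ : ∃ t0, t0 ≠ 0 ∧ e t0 ∈ P0 f := by
    rcases sw_or f (hc 1) (add_sq ha 1) with h1 | h1
    · rcases sw_or f (hc ω) (add_sq ha ω) with h2 | h2
      · refine ⟨1 + ω, by decide +kernel, (sw_or f (hc _) (add_sq ha _)).resolve_left ?_⟩
        rw [ha]; exact not_sw_mul f (hc 1) h1 h2
      · exact ⟨ω, ω_ne.1, h2⟩
    · exact ⟨1, one_ne_zero, h1⟩
  exact (sw_or f (hc t) (add_sq ha t)).resolve_left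
    (not_sw f (hc t) hp (hV t0 h0) (add_sq ha t0) (add_commute ha t t0))

theorem g_P0_false : f.g ∈ 𝐍[P0 f] := by
  have key : ∀ a : F → G, (∀ s t, a (s + t) = a s * a t) → (∀ t, a t ∈ f.QA) → (∀ s t, a s = f.c t → s = 0) →
      ∀ t, f.g * a t * f.g⁻¹ ∈ P0 f := fun a ha hm hi =>
    fam_P0 f (e := fun t => f.g * a t * f.g⁻¹) (fun s t => by rw [ha]; group)
      (fun t => conj_mem_of_norm (g_CV f) (P0_le_CV f (le_sup_right (a := f.R) (hm t)))) fun t ht hv => by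
        have h1 := conj_mem_of_norm' (g_V f) hv
        rw [show f.g⁻¹ * (f.g * a t * f.g⁻¹) * f.g = a t by group] at h1
        obtain ⟨s, t', e⟩ := (mem_V f).1 h1
        exact ht (hi _ _ (f.rq_inj (s := 0) (s' := s) (hm t) (c_QA f t') (by rw [add_zero' f.r_add, one_mul, e])).2)
  have ha := key f.a f.a_add (fun t => (f.letters_mem t).1) fun s t e =>
    (ab_ne f (β := 0) (γ := 0) (γ' := t) (by rw [add_zero' f.c_add, add_zero' f.b_add, mul_one, one_mul, e])).1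
  have hb := key f.b f.b_add (fun t => (f.letters_mem t).2.1) fun s t e =>
    (ab_ne f (α := 0) (γ := t) (γ' := 0) (by rw [add_zero' f.c_add, add_zero' f.a_add, mul_one, one_mul, e])).2
  refine mem_norm_of_cj_le (cj_le_iff.2 fun p hp => ?_)
  obtain ⟨s, u, hu, rfl⟩ := (mem_P0 f).1 hp
  obtain ⟨α, β, t, t', γ, rfl⟩ := f.mem_QA.1 hu
  have hv : ∀ x ∈ V f, f.g * x * f.g⁻¹ ∈ P0 f := fun x hx => V_le_P0 f (conj_mem_of_norm (g_V f) hx)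
  rw [el_false, show f.g * (f.r s * (f.a α * f.b β * f.c γ)) * f.g⁻¹ = f.g * f.r s * f.g⁻¹ * (f.g * f.a α * f.g⁻¹) *
    (f.g * f.b β * f.g⁻¹) * (f.g * f.c γ * f.g⁻¹) by group]
  exact mul_mem (mul_mem (mul_mem (hv _ (le_sup_left (b := f.X) (⟨s, rfl⟩ : f.r s ∈ f.R))) (ha α)) (hb β))
    (hv _ (le_sup_right (a := f.R) (⟨γ, rfl⟩ : f.c γ ∈ f.X)))

end False

theorem g_P0 {m : Bool} {G : Type*} [Group G] [Finite G] (f : Cfg m G) : f.g ∈ 𝐍[P0 f] := by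
  cases m
  · exact g_P0_false f
  · exact g_P0_true f

end Cfsg.Agent.STA.YP
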