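import Mathlib
import Cfsg.Agent.STA.YA

/-! The first translation (PLAN: Y, step G1). -/

set_option autoImplicit false
set_option linter.unusedSectionVars false

namespace Cfsg.Agent.STA.YP

open Cfsg Cfsg.Agent.Loc.Mss Subgroup Equiv

theorem ω_tab : ω ^ 2 = 1 + ω ∧ ω ^ 2 * ω = 1 ∧ ω ^ 2 * ω ^ 2 = ω ∧ ω * ω = ω ^ 2 ∧ ω * ω ^ 2 = 1 := by
  decide +kernel

theorem add0 {γ : F → F} (h : ∀ s t, γ (s + t) = γ s + γ t) : γ 0 = 0 := by
  have := h 0 0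
  rwa [add_zero, left_eq_add] at this

theorem semilin {γ : F → F} (h : ∀ s t, γ (s + t) = γ s + γ t) (hi : ∀ t, γ t = 0 → t = 0) :
    (∀ t, ∃ s, γ s = t) ∧ ((∀ t, γ (ω ^ 2 * t) = ω ^ 2 * γ t ∧ γ (ω * t) = ω * γ t) ∨
      ∀ t, γ (ω ^ 2 * t) = ω * γ t ∧ γ (ω * t) = ω ^ 2 * γ t) := by
  have h2 : γ (ω ^ 2) = γ 1 + γ ω := by rw [ω_tab.1, h]
  have key : ∀ x y : F, x ≠ 0 → y ≠ 0 → x + y ≠ 0 → (∀ t, t = 0 ∨ t = x ∨ t = y ∨ t = x + y) ∧
      ((x + y = ω ^ 2 * x ∧ y = ω * x ∧ x = ω ^ 2 * y ∧ x + y = ω * y ∧ y = ω ^ 2 * (x + y) ∧ x = ω * (x + y)) ∨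
      (x + y = ω * x ∧ y = ω ^ 2 * x ∧ x = ω * y ∧ x + y = ω ^ 2 * y ∧ y = ω * (x + y) ∧ x = ω ^ 2 * (x + y))) := by
    decide +kernel
  obtain ⟨k1, k2⟩ := key (γ 1) (γ ω) (fun e => one_ne_zero (hi _ e)) (fun e => ω_ne.1 (hi _ e))
    fun e => ω_ne.2.2.1 (hi _ (h2.trans e))
  refine ⟨fun t => ?_, k2.imp (fun k t => ?_) fun k t => ?_⟩
  · rcases k1 t with e | e | e | e
    exacts [⟨0, (add0 h).trans e.symm⟩, ⟨1, e.symm⟩, ⟨ω, e.symm⟩, ⟨ω ^ 2, h2.trans e.symm⟩]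
  all_goals
    obtain ⟨a1, a2, a3, a4, a5, a6⟩ := k
    rcases F_cases t with rfl | rfl | rfl | rfl
    · simp [add0 h]
    · rw [mul_one, mul_one, h2]; exact ⟨a1, a2⟩
    · rw [ω_tab.2.1, ω_tab.2.2.2.1, h2]; exact ⟨a3, a4⟩
    · rw [ω_tab.2.2.1, ω_tab.2.2.2.2, h2]; exact ⟨a5, a6⟩

variable {m : Bool} {G : Type*} [Group G] [Finite G] (f : Cfg m G)

theorem el_QA (α β t u γ : F) : f.el α β t u γ ∈ f.QA := f.mem_QA.2 ⟨α, β, t, u, γ, rfl⟩

theorem el_c (α β t u γ δ : F) : f.el α β t u (γ + δ) = f.el α β t u γ * f.c δ := by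
  rw [Lt.el, Lt.el, f.c_add, ← mul_assoc]

theorem conj_P0 (s α β t u γ s' α' β' t' u' γ' : F) :
    f.r s * f.el α β t u γ * (f.r s' * f.el α' β' t' u' γ') * (f.r s * f.el α β t u γ)⁻¹ =
      f.r s' * f.el α' β' t' u' γ' * f.c (α * β' + β * α' + em m * (t * u' + u * t')) := by
  have h1 := f.r_comm (QA_A f (el_QA f α β t u γ)) s'
  have h2 := f.r_comm (QA_A f (el_QA f α' β' t' u' (γ' + α * β' + β * α' + em m * (t * u' + u * t')))) s
  have h3 := add_commute f.r_add s s'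
  calc _ = f.r s * ((f.el α β t u γ * f.r s') * f.el α' β' t' u' γ' * (f.el α β t u γ)⁻¹) * (f.r s)⁻¹ := by group
    _ = f.r s * f.r s' * (f.el α β t u γ * f.el α' β' t' u' γ' * (f.el α β t u γ)⁻¹) * (f.r s)⁻¹ := by
      rw [h1.eq]; group
    _ = _ := by
      rw [f.el_conj, h3.eq, mul_assoc (f.r s'), ← h2.eq, mul_assoc (f.r s'), mul_inv_cancel_right, mul_assoc (f.r s'),
        ← el_c]
      congr 2; ring

/-- Conjugation by `k` multiplies commutators by `lam`. -/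
def Like (k : G) (lam : F) : Prop := ∀ p ∈ P0 f, ∀ q ∈ P0 f, ∀ t, p * q * p⁻¹ = q * f.c t →
  k * p * k⁻¹ * q * (k * p * k⁻¹)⁻¹ = q * f.c (lam * t)

theorem exists_comm {p q : G} (hp : p ∈ P0 f) (hq : q ∈ P0 f) : ∃ t, p * q * p⁻¹ = q * f.c t := by
  obtain ⟨s, _, hu, rfl⟩ := (mem_P0 f).1 hp
  obtain ⟨s', _, hu', rfl⟩ := (mem_P0 f).1 hq
  obtain ⟨α, β, t, u, γ, rfl⟩ := f.mem_QA.1 hu
  obtain ⟨α', β', t', u', γ', rfl⟩ := f.mem_QA.1 hu'
  exact ⟨_, conj_P0 f ..⟩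

theorem h_r (s : F) : Commute f.h (f.r s) := f.r_comm f.mem'.2.2.2.1 s

theorem h_P0 : f.h ∈ 𝐍[P0 f] :=
  norm_sup (X := zpowers f.h) (zpowers_le.2 (cent_le_norm _ (A_cR f f.mem'.2.2.2.1))) (zpowers_le.2 f.hξ_norm.1)
    (mem_zpowers _)

theorem like_h : Like f f.h ω := by
  intro p hp q hq x e
  obtain ⟨s, _, hu, rfl⟩ := (mem_P0 f).1 hp
  obtain ⟨s', _, hu', rfl⟩ := (mem_P0 f).1 hq
  obtain ⟨α, β, t, u, γ, rfl⟩ := f.mem_QA.1 hu
  obtain ⟨α', β', t', u', γ', rfl⟩ := f.mem_QA.1 hu'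
  rw [conj_P0, mul_right_inj, f.c_eq] at e
  have h1 : f.h * (f.r s * f.el α β t u γ) * f.h⁻¹ =
      f.r s * f.el (ω * α) (ω * β) (ω * t) (ω * u) (ω ^ 2 * γ) := by
    rw [← f.h_el, ← mul_assoc, (h_r f s).eq]; group
  rw [h1, conj_P0, ← e]
  congr 2; ring

theorem like_hh : Like f (f.h * f.h) (ω ^ 2) := fun p hp q hq x e => by
  have := like_h f _ (conj_mem_of_norm (h_P0 f) hp) q hq _ (like_h f p hp q hq x e)
  rw [sq, mul_assoc ω, ← this]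
  group

theorem exists_ρ (s : F) : ∃ s0, f.g * f.r s0 * f.g⁻¹ = f.r s * f.c s := by
  choose ρ hρ using f.g_r
  have inj : Function.Injective ρ := fun a b e => by
    have h1 : f.r a = f.r b := by
      have := (hρ a).trans (e ▸ (hρ b).symm)
      simpa using this
    exact (f.rq_inj (one_mem _) (one_mem _) (by rw [h1])).1
  obtain ⟨s0, rfl⟩ := Finite.surjective_of_injective inj s
  exact ⟨s0, hρ s0⟩

theorem exists_k : ∃ k : G, k ^ 3 = 1 ∧ k ∈ 𝐍[P0 f] ∧ (∀ t, k * f.c t * k⁻¹ = f.c (ω ^ 2 * t)) ∧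
    (∀ x, f.g⁻¹ * x * f.g ∈ f.K → Commute k x) ∧ Like f k ω ∧ k ∈ normalClosure (f.A : Set G) := by
  choose γ hγ using fun t => (conj_mem_of_norm f.g_X (⟨t, rfl⟩ : f.c t ∈ f.X) : ∃ t', _ = f.c t')
  obtain ⟨sj, hl⟩ := semilin (γ := γ)
    (fun s t => by rw [← f.c_eq, f.c_add, ← hγ, ← hγ, ← hγ, f.c_add]; group)
    fun t e => f.c_inj t (by have := hγ t; rw [e, add_zero' f.c_add] at this; simpa using this)
  have main : ∀ (h' : G) (μ lam : F), h' ∈ f.A → h' ^ 3 = 1 → h' ∈ 𝐍[P0 f] → (∀ t, h' * f.c t * h'⁻¹ = f.c (μ * t)) →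
      Like f h' lam → (∀ t, γ (μ * t) = ω ^ 2 * γ t ∧ γ (lam * t) = ω * γ t) →
      ∃ k : G, k ^ 3 = 1 ∧ k ∈ 𝐍[P0 f] ∧ (∀ t, k * f.c t * k⁻¹ = f.c (ω ^ 2 * t)) ∧
        (∀ x, f.g⁻¹ * x * f.g ∈ f.K → Commute k x) ∧ Like f k ω ∧ k ∈ normalClosure (f.A : Set G) := by
    intro h' μ lam hA h3 hN hc hL hg
    refine ⟨f.g * h' * f.g⁻¹, by rw [conj_pow, h3]; group, mul_mem (mul_mem (g_P0 f) hN) (inv_mem (g_P0 f)),
      fun t => ?_, fun x hx => ?_, fun p hp q hq t e => ?_,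
      normalClosure_normal.conj_mem _ (subset_normalClosure hA) _⟩
    · obtain ⟨t, rfl⟩ := sj t
      rw [← (hg t).1, ← hγ, ← hγ, ← hc]; group
    · have := (f.comm_K hA hx).eq
      show f.g * h' * f.g⁻¹ * x = x * (f.g * h' * f.g⁻¹)
      calc _ = f.g * (h' * (f.g⁻¹ * x * f.g)) * f.g⁻¹ := by group
        _ = _ := by rw [this]; group
    · obtain ⟨t, rfl⟩ := sj t
      have h1 := hL _ (conj_mem_of_norm' (g_P0 f) hp) _ (conj_mem_of_norm' (g_P0 f) hq) t (by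
        calc _ = f.g⁻¹ * (p * q * p⁻¹) * f.g := by group
          _ = _ := by rw [e, ← hγ]; group)
      rw [← (hg t).2, ← hγ]
      calc _ = f.g * (h' * (f.g⁻¹ * p * f.g) * h'⁻¹ * (f.g⁻¹ * q * f.g) * (h' * (f.g⁻¹ * p * f.g) * h'⁻¹)⁻¹) * f.g⁻¹ := by
            group
        _ = _ := by rw [h1]; group
  have hA := f.mem'.2.2.2.1
  rcases hl with hl | hl
  · exact main f.h (ω ^ 2) ω hA f.h3 (h_P0 f) (fun t => (f.hact t).2.2.1) (like_h f) hl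
  · refine main (f.h * f.h) ω (ω ^ 2) (mul_mem hA hA) (by rw [← sq, ← pow_mul, mul_comm, pow_mul, f.h3, one_pow])
      (mul_mem (h_P0 f) (h_P0 f)) (fun t => ?_) (like_hh f) fun t => ⟨(hl t).2, (hl t).1⟩
    rw [← ω_tab.2.2.1, mul_assoc (ω ^ 2), ← (f.hact _).2.2.1, ← (f.hact _).2.2.1]; group

theorem h_c' (t : F) : f.h⁻¹ * f.c t * f.h = f.c (ω * t) := by
  have := (f.hact (ω * t)).2.2.1
  rw [← mul_assoc, ω_tab.2.1, one_mul] at this
  rw [← this]; group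

/-- The elements of `QA` moved by `y` within their coset of `X`. -/
def S0 (y : G) : Subgroup G where
  carrier := {u | u ∈ f.QA ∧ ∃ t, y * u * y⁻¹ = u * f.c t}
  one_mem' := ⟨one_mem _, 0, by rw [add_zero' f.c_add]; group⟩
  mul_mem' := by
    rintro u u' ⟨hu, t, e⟩ ⟨hu', t', e'⟩
    refine ⟨mul_mem hu hu', t + t', ?_⟩
    rw [show y * (u * u') * y⁻¹ = y * u * y⁻¹ * (y * u' * y⁻¹) by group, e, e', f.c_add, mul_assoc u,
      ← mul_assoc (f.c t), ← ((mem_cX f).1 (QA_cX f hu') t).eq]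
    group
  inv_mem' := by
    rintro u ⟨hu, t, e⟩
    refine ⟨inv_mem hu, t, ?_⟩
    rw [show y * u⁻¹ * y⁻¹ = (y * u * y⁻¹)⁻¹ by group, e, mul_inv_rev, add_inv f.c_add,
      ((mem_cX f).1 (QA_cX f (inv_mem hu)) t).eq]

theorem QA_le_S0 {y : G} (hy : ∀ u ∈ f.QA, ∃ s t, y * u * y⁻¹ = u * (f.r s * f.c t))
    (hc : ∀ t, Commute y (f.c t)) : f.QA ≤ S0 f y := by
  have key : ∀ (a b : F → G) (n x : G), f.Sl a b n → x ∈ f.D → ∀ α, x * a α * x⁻¹ ∈ S0 f y := by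
    intro a b n x hs hx α
    have ha := (hs.facts.2.2.2.1 α).1
    have hm := conj_mem_of_norm (f.D_le_norm hx) ha
    by_cases h0 : α = 0
    · rw [h0, add_zero' hs.facts.1, mul_one, mul_inv_cancel]; exact one_mem _
    obtain ⟨s, t, e⟩ := hy _ hm
    by_cases s0 : s = 0
    · exact ⟨hm, t, by rw [e, s0, add_zero' f.r_add, one_mul]⟩
    refine absurd ?_ (f.not_inT hs (α := α) (γ := 0) (.inl h0))
    have h1 := (((f.inT hs s0 α t).conj x).conj y⁻¹).conj x⁻¹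
    have h2 : x * (f.r s * a α * f.c t) * x⁻¹ = y * (x * a α * x⁻¹) * y⁻¹ := by
      rw [e, ← (f.r_comm (QA_A f ha) s).eq, mul_assoc (a α), mul_assoc (x * a α), (Commute.inv_left
        ((f.r_comm (f.D_le_A hx) s).mul_right ((mem_cX f).1 (f.D_le_cent hx) t))).eq]
      group
    rw [h2] at h1
    rw [add_zero' f.c_add]
    convert h1 using 1
    group
  have ha : ∀ α, f.a α ∈ S0 f y := fun α => by
    simpa using key _ _ _ 1 (.inl ⟨rfl, rfl, rfl⟩) (one_mem _) α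
  have hb : ∀ α, f.b α ∈ S0 f y := fun α => by
    simpa using key _ _ _ 1 (.inr ⟨rfl, rfl, rfl⟩) (one_mem _) α
  have hs : ∀ u, f.s1 u ∈ S0 f y ∧ f.s2 u ∈ S0 f y := by
    cases m
    · intro u
      rw [((f.triv rfl).2 u).1, ((f.triv rfl).2 u).2.1]
      exact ⟨one_mem _, one_mem _⟩
    have h12 : ∀ t u, f.s1 (t * u) * f.s2 (t ^ 2 * u) ∈ S0 f y := fun t u => by
      have h1 := key _ _ _ (f.x t) (.inr ⟨rfl, rfl, rfl⟩) (f.letters_mem t).2.2.2.2.2.1 u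
      rw [(f.xact rfl t u).1, mul_assoc] at h1
      exact (mul_mem_cancel_left (mul_mem (ha _) (hb _))).1 h1
    have h1 : ∀ u, f.s1 u ∈ S0 f y := fun u => by
      have h2 := mul_mem (h12 1 (ω * u)) (inv_mem (h12 (ω ^ 2) u))
      rw [one_pow, one_mul, sq (ω ^ 2), ω_tab.2.2.1, mul_inv_rev, mul_assoc, mul_inv_cancel_left, add_inv f.s1_add,
        ← f.s1_add] at h2
      convert h2 using 2
      rw [ω_tab.1]; linear_combination (-(ω * u)) * F_two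
    intro u
    have h2 := h12 1 u
    rw [one_pow, one_mul] at h2
    exact ⟨h1 u, (mul_mem_cancel_left (h1 u)).1 h2⟩
  refine (closure_le _).2 ?_
  rintro _ ⟨t, rfl | rfl | rfl | rfl | rfl⟩
  exacts [ha t, hb t, (hs t).1, (hs t).2,
    ⟨c_QA f t, 0, by rw [add_zero' f.c_add, (hc t).eq, mul_one, mul_inv_cancel_right]⟩]

theorem lin_letter {k : G} (k3 : k ^ 3 = 1) (kc : ∀ t, k * f.c t * k⁻¹ = f.c (ω ^ 2 * t)) {e : F → G}
    (ha : ∀ s t, e (s + t) = e s * e t) (hm : ∀ t, e t ∈ S0 f (k * f.h⁻¹))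
    (hh : ∀ t, f.h * e t * f.h⁻¹ = e (ω * t)) :
    ∃ lam, ∀ t, k * f.h⁻¹ * e t * (k * f.h⁻¹)⁻¹ = e t * f.c (lam * t) := by
  choose ψ hψ using fun t => (hm t).2
  have add : ∀ s t, ψ (s + t) = ψ s + ψ t := fun s t => by
    have h1 := hψ (s + t)
    rw [ha, show k * f.h⁻¹ * (e s * e t) * (k * f.h⁻¹)⁻¹ =
      k * f.h⁻¹ * e s * (k * f.h⁻¹)⁻¹ * (k * f.h⁻¹ * e t * (k * f.h⁻¹)⁻¹) by group, hψ, hψ, mul_assoc (e s),
      ← mul_assoc (f.c _), ← ((mem_cX f).1 (QA_cX f (hm t).1) _).eq, mul_assoc (e t), ← f.c_add, ← mul_assoc,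
      mul_right_inj, f.c_eq] at h1
    exact h1.symm
  have st : ∀ t x, k * (e t * f.c x) * k⁻¹ = e (ω * t) * f.c (ψ (ω * t) + ω ^ 2 * x) := fun t x => by
    rw [f.c_add, ← mul_assoc (e (ω * t)), ← hψ, ← hh, ← kc]; group
  have h1 : e 1 * f.c 0 = k * (k * (k * (e 1 * f.c 0) * k⁻¹) * k⁻¹) * k⁻¹ := by
    calc _ = k ^ 3 * (e 1 * f.c 0) * (k ^ 3)⁻¹ := by rw [k3]; group
      _ = _ := by rw [pow_succ, sq]; group
  rw [st, st, st, mul_one, ω_tab.2.2.2.1, ω_tab.2.2.2.2, mul_right_inj, f.c_eq, show ψ (ω ^ 2) = ψ 1 + ψ ω by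
    rw [ω_tab.1, add]] at h1
  have h2 : ψ ω = ψ 1 * ω ∧ ψ 1 + ψ ω = ψ 1 * ω ^ 2 := by
    revert h1; generalize ψ 1 = x; generalize ψ ω = y; revert x y; decide +kernel
  refine ⟨ψ 1, fun t => ?_⟩
  rw [hψ]
  congr 2
  rcases F_cases t with rfl | rfl | rfl | rfl
  · rw [add0 add, mul_zero]
  · rw [mul_one]
  · exact h2.1
  · rw [← h2.2, ← add, ← ω_tab.1]

theorem exists_y1 : ∃ y ∈ 𝐂[f.QA], (∀ s, y * f.r s * y⁻¹ = f.r s * f.c (ω * s)) ∧
    (∀ x ∈ f.K, f.g⁻¹ * x * f.g ∈ f.K → Commute y x) ∧ y ∈ normalClosure (f.A : Set G) := by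
  obtain ⟨k, k3, kN, kc, kK, kL, kA⟩ := exists_k f
  have hA := f.mem'.2.2.2.1
  have hc : ∀ t, Commute (k * f.h⁻¹) (f.c t) := fun t => by
    have h1 := kc (ω * t)
    rw [← h_c', ← mul_assoc (ω ^ 2), ω_tab.2.1, one_mul] at h1
    show k * f.h⁻¹ * f.c t = f.c t * (k * f.h⁻¹)
    conv_rhs => rw [← h1]
    group
  have hr : ∀ s, k * f.h⁻¹ * f.r s * (k * f.h⁻¹)⁻¹ = f.r s * f.c (ω * s) := fun s => by
    obtain ⟨s0, e⟩ := exists_ρ f s
    have h1 := (kK (f.r s * f.c s) (by rw [← e]; simpa [mul_assoc] using f.r_K s0)).eq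
    have h2 : k * f.r s * k⁻¹ = f.r s * f.c s * (k * f.c s * k⁻¹)⁻¹ := by
      rw [← mul_inv_cancel_right (f.r s * f.c s) k, ← h1]; group
    rw [mul_assoc k, (h_r f s).inv_left.eq, show k * (f.r s * f.h⁻¹) * (k * f.h⁻¹)⁻¹ = k * f.r s * k⁻¹ by group, h2, kc,
      add_inv f.c_add, mul_assoc, ← f.c_add]
    congr 2
    rw [ω_tab.1]; linear_combination s * F_two
  have hS := QA_le_S0 f (y := k * f.h⁻¹) (fun q hq => by
    have hq0 : q ∈ P0 f := le_sup_right (a := f.R) hq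
    have hp := conj_mem_of_norm' (h_P0 f) hq0
    obtain ⟨s, u, hu, e⟩ := (mem_P0 f).1 (mul_mem (inv_mem hq0) (conj_mem_of_norm kN hp))
    obtain ⟨t, rfl⟩ := f.cen_QA hu (mem_cent.2 fun v hv => by
      have hv0 : v ∈ P0 f := le_sup_right (a := f.R) hv
      obtain ⟨x, hx⟩ := exists_comm f hp hv0
      have h1 := like_h f _ hp v hv0 x hx
      rw [← kL _ hp v hv0 x hx, show f.h * (f.h⁻¹ * q * f.h) * f.h⁻¹ = q by group] at h1
      have h2 : f.r s * u * v = v * (f.r s * u) := by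
        rw [← e]
        calc _ = q⁻¹ * (k * (f.h⁻¹ * q * f.h) * k⁻¹ * v * (k * (f.h⁻¹ * q * f.h) * k⁻¹)⁻¹) *
            (k * (f.h⁻¹ * q * f.h) * k⁻¹) := by group
          _ = _ := by rw [← h1]; group
      rw [← mul_assoc, (f.r_comm (QA_A f hv) s).eq, mul_assoc, mul_assoc, mul_right_inj] at h2
      exact h2.symm)
    exact ⟨s, t, by rw [← e]; group⟩) hc
  obtain ⟨la, ha⟩ := lin_letter f k3 kc f.a_add (fun t => hS (f.letters_mem t).1) fun t => (f.hact t).1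
  obtain ⟨lb, hb⟩ := lin_letter f k3 kc f.b_add (fun t => hS (f.letters_mem t).2.1) fun t => (f.hact t).2.1
  obtain ⟨l1, h1⟩ := lin_letter f k3 kc f.s1_add (fun t => hS (f.letters_mem t).2.2.1) fun t => (f.hact t).2.2.2.1
  obtain ⟨l2, h2⟩ := lin_letter f k3 kc f.s2_add (fun t => hS (f.letters_mem t).2.2.2.1) fun t => (f.hact t).2.2.2.2
  have e12 : em m * l1 = l1 ∧ em m * l2 = l2 := by
    cases m
    · have a1 := h1 1
      have a2 := h2 1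
      rw [((f.triv rfl).2 1).1, mul_one, mul_inv_cancel, mul_one, one_mul] at a1
      rw [((f.triv rfl).2 1).2.1, mul_one, mul_inv_cancel, mul_one, one_mul] at a2
      rw [f.c_inj _ a1.symm, f.c_inj _ a2.symm]; simp
    · simp [em]
  have hu := el_QA f lb la l2 l1 0
  refine ⟨(f.el lb la l2 l1 0)⁻¹ * (k * f.h⁻¹), ?_, fun s => ?_, fun x hx hx' => ?_, mul_mem (inv_mem
    (subset_normalClosure (QA_A f hu))) (mul_mem kA (inv_mem (subset_normalClosure hA)))⟩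
  · have key : ∀ (v : G) α β t u γ x, v = f.el α β t u γ → k * f.h⁻¹ * v * (k * f.h⁻¹)⁻¹ = v * f.c x →
        x = lb * β + la * α + em m * (l2 * u + l1 * t) →
        v * ((f.el lb la l2 l1 0)⁻¹ * (k * f.h⁻¹)) = (f.el lb la l2 l1 0)⁻¹ * (k * f.h⁻¹) * v := by
      rintro _ α β t u γ _ rfl e rfl
      have e' := f.el_conj lb la l2 l1 0 α β t u γ
      rw [add_assoc γ, add_assoc γ, el_c, ← e] at e'
      calc _ = (f.el lb la l2 l1 0)⁻¹ * (f.el lb la l2 l1 0 * f.el α β t u γ * (f.el lb la l2 l1 0)⁻¹) * (k * f.h⁻¹) := by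
            group
        _ = _ := by rw [e']; group
    rw [Lt.QA, centralizer_closure, mem_centralizer_iff]
    rintro _ ⟨t, rfl | rfl | rfl | rfl | rfl⟩
    · exact key _ _ _ _ _ _ _ (f.el_letters t).1 (ha t) (by ring)
    · exact key _ _ _ _ _ _ _ (f.el_letters t).2.1 (hb t) (by ring)
    · exact key _ _ _ _ _ _ _ (f.el_letters t).2.2.1 (h1 t) (by linear_combination (-t) * e12.1)
    · exact key _ _ _ _ _ _ _ (f.el_letters t).2.2.2.1 (h2 t) (by linear_combination (-t) * e12.2)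
    · exact key _ _ _ _ _ _ 0 (f.el_letters t).2.2.2.2
        (by rw [add_zero' f.c_add, (hc t).eq, mul_one, mul_inv_cancel_right]) (by ring)
  · rw [mul_assoc _ _ (f.r s), mul_inv_rev, ← mul_assoc, mul_assoc _ _ (k * f.h⁻¹)⁻¹, hr, inv_inv,
      (Commute.inv_left ((f.r_comm (QA_A f hu) s).mul_right ((mem_cX f).1 (QA_cX f hu) _))).eq, inv_mul_cancel_right]
  · exact (f.comm_K (QA_A f hu) hx).inv_left.mul_left ((kK x hx').mul_left (f.comm_K hA hx).inv_left)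

end Cfsg.Agent.STA.YP
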