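import Mathlib
import Cfsg.Agent.STA.YB

/-! The 2-elements centralising `QA` and `O` and translating `R` (PLAN: Y, the group `W2`). -/

set_option autoImplicit false
set_option linter.unusedSectionVars false

namespace Cfsg.Agent.STA.YP

open Cfsg Cfsg.Agent.Loc.Mss Subgroup Equiv

variable {m : Bool} {G : Type*} [Group G] [Finite G]

theorem odd_pow (g : G) : ∃ n : ℕ, ∃ j : ℕ, (g ^ (2 * n + 1)) ^ 2 ^ j = 1 := by
  obtain ⟨j, n, ⟨k, rfl⟩, e⟩ := Nat.exists_eq_two_pow_mul_odd (orderOf_pos g).ne'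
  exact ⟨k, j, by rw [← pow_mul, mul_comm, ← e, pow_orderOf_eq_one]⟩

variable (f : Cfg m G)

/-- `u` translates `R` by `μ`. -/
def Mv (u : G) (μ : F) : Prop := ∀ s, u * f.r s * u⁻¹ = f.r s * f.c (μ * s)

theorem cQ_c {u : G} (hu : u ∈ 𝐂[f.QA]) (t : F) : Commute u (f.c t) := (mem_cent.1 hu _ (c_QA f t)).symm

theorem mv_zero {u : G} : Mv f u 0 ↔ u ∈ 𝐂[f.R] := by
  rw [mem_cR, Mv]
  refine forall_congr' fun s => ?_
  rw [zero_mul, add_zero' f.c_add, mul_one, mul_inv_eq_iff_eq_mul]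
  rfl

variable {f}

theorem Mv.mul {u v : G} {μ ν : F} (hu : u ∈ 𝐂[f.QA]) (h : Mv f u μ) (h' : Mv f v ν) : Mv f (u * v) (μ + ν) := fun s => by
  rw [add_mul, f.c_add, ← mul_assoc (f.r s), ← h, mul_assoc (u * f.r s), (cQ_c f hu _).inv_left.eq, ← mul_assoc (u * f.r s),
    mul_assoc u (f.r s), ← h']
  group

theorem Mv.inv {u : G} {μ : F} (hu : u ∈ 𝐂[f.QA]) (h : Mv f u μ) : Mv f u⁻¹ μ := fun s => by
  have h1 : f.r s = u * (f.r s * f.c (μ * s)) * u⁻¹ := by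
    rw [← mul_assoc, mul_assoc (u * f.r s), ← (cQ_c f hu _).inv_left.eq, ← mul_assoc, h, mul_assoc, add_sq f.c_add, mul_one]
  conv_lhs => rw [h1]
  group

theorem Mv.h {u : G} {μ : F} (h : Mv f u μ) : Mv f (f.h * u * f.h⁻¹) (ω ^ 2 * μ) := fun s => by
  have h1 : f.h⁻¹ * f.r s * f.h = f.r s := by rw [(h_r f s).inv_left.eq, inv_mul_cancel_right]
  calc _ = f.h * (u * (f.h⁻¹ * f.r s * f.h) * u⁻¹) * f.h⁻¹ := by group
    _ = _ := by rw [h1, h, mul_assoc (ω ^ 2), ← (f.hact _).2.2.1, ← mul_assoc f.h, (h_r f s).eq]; group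

theorem Mv.dbl {u v : G} {μ : F} (hu : u ∈ 𝐂[f.QA]) (h : Mv f u μ) (h' : Mv f v μ) : u * v ∈ 𝐂[f.R] :=
  (mv_zero f).1 (CharTwo.add_self_eq_zero μ ▸ h.mul hu h')

theorem Mv.g_N {u : G} (h : Mv f u 1) : f.g⁻¹ * u ∈ f.N := by
  obtain ⟨s0, e⟩ := exists_ρ f 1
  refine f.mem_N (s := 1) one_ne_zero ?_
  rw [show f.g⁻¹ * u * f.r 1 * (f.g⁻¹ * u)⁻¹ = f.g⁻¹ * (u * f.r 1 * u⁻¹) * f.g by group, h, mul_one, ← e]
  simpa [mul_assoc] using f.r_K s0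

theorem Mv.g_K {u k : G} (h : Mv f u 1) (hk : u⁻¹ * k * u ∈ f.K) : f.g⁻¹ * k * f.g ∈ f.K := by
  convert f.cj_K h.g_N hk using 1
  group

variable (f)

theorem exists_orb (y : G) {ν : F} (hν : ν ≠ 0) :
    ∃ U : F → G, U 0 = 1 ∧ U ν = y ∧ ∀ μ, f.h * U μ * f.h⁻¹ = U (ω ^ 2 * μ) := by
  have k : ∀ ν : F, ν ≠ 0 → ω ^ 2 * ν ≠ 0 ∧ ω ^ 2 * ν ≠ ν ∧ ω ^ 2 * (ω ^ 2 * ν) ≠ 0 ∧ ω ^ 2 * (ω ^ 2 * ν) ≠ ν ∧
      ω ^ 2 * (ω ^ 2 * ν) ≠ ω ^ 2 * ν ∧ ω ^ 2 * (ω ^ 2 * (ω ^ 2 * ν)) = ν ∧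
      ∀ μ, μ = 0 ∨ μ = ν ∨ μ = ω ^ 2 * ν ∨ μ = ω ^ 2 * (ω ^ 2 * ν) := by decide +kernel
  obtain ⟨a1, a2, a3, a4, a5, a6, a7⟩ := k ν hν
  refine ⟨fun μ => if μ = 0 then 1 else if μ = ν then y else if μ = ω ^ 2 * ν then f.h * y * f.h⁻¹ else
    f.h * (f.h * y * f.h⁻¹) * f.h⁻¹, by simp, by simp [hν], fun μ => ?_⟩
  rcases a7 μ with rfl | rfl | rfl | rfl
  · simp
  · simp only [hν, a1, a2, if_true, if_false]
  · simp only [a1, a2, a3, a4, a5, if_true, if_false]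
  · simp only [a3, a4, a5, a6, hν, if_true, if_false]
    calc _ = f.h ^ 3 * y * (f.h ^ 3)⁻¹ := by rw [pow_succ, sq]; group
      _ = y := by rw [f.h3]; group

theorem orb_ind {U : F → G} {ν : F} (hν : ν ≠ 0) (h0 : U 0 = 1) (hU : ∀ μ, f.h * U μ * f.h⁻¹ = U (ω ^ 2 * μ))
    {P : F → G → Prop} (p0 : P 0 1) (p1 : P ν (U ν)) (st : ∀ μ u, P μ u → P (ω ^ 2 * μ) (f.h * u * f.h⁻¹)) (μ : F) :
    P μ (U μ) := by
  have k : ∀ ν : F, ν ≠ 0 → ∀ μ, μ = 0 ∨ μ = ν ∨ μ = ω ^ 2 * ν ∨ μ = ω ^ 2 * (ω ^ 2 * ν) := by decide +kernel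
  rcases k ν hν μ with rfl | rfl | rfl | rfl
  exacts [h0 ▸ p0, p1, hU ν ▸ st _ _ p1, hU _ ▸ st _ _ (hU ν ▸ st _ _ p1)]

/-- The intersection of `K` with its conjugate by `g`. -/
def KK : Subgroup G := f.K ⊓ cj(f.g, f.K)

def OO : Subgroup G := KK f ⊓ 𝐂[f.R]

theorem h_cKK : f.h ∈ 𝐂[KK f] := mem_cent.2 fun _ hk => (f.comm_K f.mem'.2.2.2.1 hk.1).eq.symm

theorem h_cQ {u : G} (hu : u ∈ 𝐂[f.QA]) : f.h * u * f.h⁻¹ ∈ 𝐂[f.QA] :=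
  conj_mem_of_norm (norm_cent (X := zpowers f.h) (zpowers_le.2 f.hξ_norm.1) (mem_zpowers _)) hu

theorem exists_U : ∃ U : F → G, U 0 = 1 ∧ (∀ μ, f.h * U μ * f.h⁻¹ = U (ω ^ 2 * μ)) ∧
    ∀ μ, U μ ∈ 𝐂[f.QA] ∧ Mv f (U μ) μ ∧ (∃ j : ℕ, U μ ^ 2 ^ j = 1) ∧ U μ ∈ 𝐂[KK f] ∧
      U μ ∈ normalClosure (f.A : Set G) := by
  obtain ⟨y, hy, hr, hK, hA⟩ := exists_y1 f
  obtain ⟨n, hj⟩ := odd_pow y
  obtain ⟨U, h0, h1, hU⟩ := exists_orb f (y ^ (2 * n + 1)) ω_ne.1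
  refine ⟨U, h0, hU, orb_ind f ω_ne.1 h0 hU (P := fun μ u => u ∈ 𝐂[f.QA] ∧ Mv f u μ ∧ (∃ j : ℕ, u ^ 2 ^ j = 1) ∧
    u ∈ 𝐂[KK f] ∧ u ∈ normalClosure (f.A : Set G))
    ⟨one_mem _, (mv_zero f).2 (one_mem _), ⟨0, one_pow _⟩, one_mem _, one_mem _⟩ ?_ ?_⟩
  · rw [h1]
    refine ⟨pow_mem hy _, ?_, hj, pow_mem (mem_cent.2 fun k (hk : k ∈ KK f) => (hK k hk.1 (mem_cj.1 hk.2)).eq.symm) _, pow_mem hA _⟩
    have := ((mv_zero f).2 (pow_mem (Mv.dbl hy hr hr) n)).mul (pow_mem (mul_mem hy hy) n) hr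
    rwa [zero_add, ← sq, ← pow_mul, ← pow_succ] at this
  · rintro μ u ⟨a1, a2, ⟨j, a3⟩, a4, a5⟩
    exact ⟨h_cQ f a1, a2.h, ⟨j, by rw [conj_pow, a3]; group⟩, mul_mem (mul_mem (h_cKK f) a4) (inv_mem (h_cKK f)),
      normalClosure_normal.conj_mem _ a5 _⟩

theorem mem_OO (k : G) : k ∈ OO f ↔ k ∈ f.K ∧ k ∈ 𝐂[f.R] ∧ Odd (orderOf k) := by
  constructor
  · rintro ⟨⟨h1, h2⟩, h3⟩
    refine ⟨h1, h3, ?_⟩
    by_contra ho
    obtain ⟨n, hn⟩ := Nat.not_odd_iff_even.1 ho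
    have hp := orderOf_pos k
    have i1 : k ^ n * k ^ n = 1 := by rw [← pow_add, ← hn, pow_orderOf_eq_one]
    have i2 : k ^ n ≠ 1 := pow_ne_one_of_lt_orderOf (by omega) (by omega)
    have hN := f.ti _ (pow_mem h1 n) i1 i2 f.g⁻¹ (by rw [inv_inv]; exact mem_cj.1 (pow_mem h2 n))
    obtain ⟨s0, e⟩ := exists_ρ f 1
    have h4 := f.cj_K (inv_mem_iff.1 hN) (f.r_K s0)
    rw [e, mul_mem_cancel_left (f.r_K 1)] at h4
    exact one_ne_zero (f.c_inj _ (f.eq_one_of_K (c_QA f 1) h4))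
  · rintro ⟨h1, h2, n, hn⟩
    refine ⟨⟨h1, mem_cj.2 ?_⟩, h2⟩
    obtain ⟨U, -, -, hU⟩ := exists_U f
    obtain ⟨a1, a2, -⟩ := hU 1
    have hQ : (U 1)⁻¹ * k * U 1 ∈ 𝐂[f.QA] :=
      mul_mem (mul_mem (inv_mem a1) (mem_cent.2 fun u hu => (f.comm_K (QA_A f hu) h1).eq)) a1
    have hR : (U 1)⁻¹ * k * U 1 ∈ 𝐂[f.R] := (mem_cR f).2 fun s => by
      have h3 := (((mem_cR f).1 h2 s).mul_right (f.comm_K (c_A f (1 * s)) h1).symm).eq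
      rw [← a2] at h3
      show (U 1)⁻¹ * k * U 1 * f.r s = f.r s * ((U 1)⁻¹ * k * U 1)
      calc _ = (U 1)⁻¹ * (k * (U 1 * f.r s * (U 1)⁻¹)) * U 1 := by group
        _ = _ := by rw [h3]; group
    obtain ⟨t, ht⟩ := f.kf.k3 (cR_N f hR) hQ
    have h3 := pow_mem ht (2 * n + 1)
    have h4 : ((U 1)⁻¹ * k * U 1) ^ (2 * n + 1) = 1 := by
      have := conj_pow (a := (U 1)⁻¹) (b := k) (i := 2 * n + 1)
      rw [inv_inv] at this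
      rw [this, ← hn, pow_orderOf_eq_one]; group
    rw [(cQ_c f hQ t).symm.mul_pow, h4, mul_one, pow_succ, pow_mul, sq, add_sq f.c_add, one_pow, one_mul] at h3
    exact a2.g_K ((mul_mem_cancel_left h3).1 ht)

/-- The elements centralising `QA` and `O` that translate `R`. -/
def Γ : Subgroup G where
  carrier := {u | u ∈ 𝐂[f.QA] ∧ u ∈ 𝐂[OO f] ∧ ∃ μ, Mv f u μ}
  one_mem' := ⟨one_mem _, one_mem _, 0, (mv_zero f).2 (one_mem _)⟩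
  mul_mem' := by
    rintro u v ⟨a1, a2, μ, a3⟩ ⟨b1, b2, ν, b3⟩
    exact ⟨mul_mem a1 b1, mul_mem a2 b2, _, a3.mul a1 b3⟩
  inv_mem' := by
    rintro u ⟨a1, a2, μ, a3⟩
    exact ⟨inv_mem a1, inv_mem a2, _, a3.inv a1⟩

theorem Γ_four (u : G) (hu : u ∈ Γ f) : u ^ 4 ∈ 𝐂[Γ f] ∧ Odd (orderOf (u ^ 4)) := by
  obtain ⟨a1, -, μ, a3⟩ := hu
  have hR := a3.dbl a1 a3
  obtain ⟨t, ht⟩ := f.kf.k3 (cR_N f hR) (mul_mem a1 a1)
  obtain ⟨s, o, o1, o2, o3, -, e⟩ := f.cenK ht (mul_mem (A_cR f (c_A f t)) hR)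
  have ho : o * o ∈ OO f := mul_mem ((mem_OO f o).2 ⟨o1, o2, o3⟩) ((mem_OO f o).2 ⟨o1, o2, o3⟩)
  have h4 : u ^ 4 = o * o := by
    have h1 : (f.c t * (u * u)) ^ 2 = (f.r s * o) ^ 2 := by rw [e]
    rw [(cQ_c f (mul_mem a1 a1) t).symm.mul_pow, ((mem_cR f).1 o2 s).symm.mul_pow, sq (f.c t), sq (f.r s), add_sq f.c_add,
      add_sq f.r_add, one_mul, one_mul, ← sq, ← pow_mul, sq o] at h1
    exact h1
  rw [h4]
  exact ⟨mem_cent.2 fun v hv => (mem_cent.1 hv.2.1 _ ho).symm, ((mem_OO f _).1 ho).2.2⟩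

/-- The 2-elements of `Γ`. -/
def W2 : Subgroup G where
  carrier := {u | u ∈ Γ f ∧ ∃ j : ℕ, u ^ 2 ^ j = 1}
  one_mem' := ⟨one_mem _, 0, one_pow _⟩
  mul_mem' := fun h k => ⟨mul_mem h.1 k.1, two_closed (Γ_four f) h.1 k.1 h.2 k.2⟩
  inv_mem' := by
    rintro u ⟨h, j, e⟩
    exact ⟨inv_mem h, j, by rw [inv_pow, e, inv_one]⟩

variable {f}

theorem W2_V {u : G} (hu : u ∈ W2 f) (hR : u ∈ 𝐂[f.R]) : ∃ s t, u = f.r s * f.c t := by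
  obtain ⟨t, ht⟩ := f.kf.k3 (cR_N f hR) hu.1.1
  have h2 := two_mul_inv (cQ_c f hu.1.1 t).symm ⟨1, by rw [pow_one, sq, add_sq f.c_add]⟩ hu.2
  rw [add_inv f.c_add] at h2
  obtain ⟨s, e⟩ := f.mem_R_of ht (mul_mem (A_cR f (c_A f t)) hR) h2
  refine ⟨s, t, ?_⟩
  rw [← (rc f s t).eq, ← e, ← mul_assoc, add_sq f.c_add, one_mul]

theorem V_sq (s t : F) : f.r s * f.c t * (f.r s * f.c t) = 1 := by
  rw [← sq, (rc f s t).symm.mul_pow, sq, sq, add_sq f.r_add, add_sq f.c_add, one_mul]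

theorem W2_sq {u : G} (hu : u ∈ W2 f) : ∃ t, u * u = f.c t := by
  obtain ⟨a1, -, μ, a3⟩ := hu.1
  obtain ⟨s, t, e⟩ := W2_V (mul_mem hu hu) (a3.dbl a1 a3)
  by_cases h0 : μ = 0
  · obtain ⟨s, t, e⟩ := W2_V hu ((mv_zero f).1 (h0 ▸ a3))
    exact ⟨0, by rw [e, V_sq, add_zero' f.c_add]⟩
  have h1 : u * (f.r s * f.c t) * u⁻¹ = f.r s * f.c t := by rw [← e]; group
  rw [← mul_assoc, mul_assoc (u * f.r s), ← (cQ_c f a1 t).inv_left.eq, ← mul_assoc, a3, mul_left_inj,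
    mul_eq_left] at h1
  rcases mul_eq_zero.1 (f.c_inj _ h1) with h | rfl
  · exact absurd h h0
  · exact ⟨t, by rw [e, add_zero' f.r_add, one_mul]⟩

theorem W2_inv {u : G} (hu : u ∈ W2 f) : ∃ t, u * u = f.c t ∧ u⁻¹ = u * f.c t := by
  obtain ⟨t, e⟩ := W2_sq hu
  exact ⟨t, e, by rw [← add_inv f.c_add, ← e]; group⟩

theorem W2_h {u : G} (hu : u ∈ W2 f) : f.h * u * f.h⁻¹ ∈ W2 f := by
  obtain ⟨⟨a1, a2, μ, a3⟩, j, e⟩ := hu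
  have h := cent_anti (inf_le_left : OO f ≤ KK f) (h_cKK f)
  exact ⟨⟨h_cQ f a1, mul_mem (mul_mem h a2) (inv_mem h), _, a3.h⟩, j, by rw [conj_pow, e]; group⟩

theorem comm_h {u : G} (hu : u ∈ W2 f) (hN : u * (f.h * u * f.h⁻¹) * (f.h * (f.h * u * f.h⁻¹) * f.h⁻¹) = 1) :
    Commute u (f.h * u * f.h⁻¹) := by
  obtain ⟨γ, e⟩ := W2_sq hu
  have sqh : ∀ {v : G} {x : F}, v * v = f.c x → f.h * v * f.h⁻¹ * (f.h * v * f.h⁻¹) = f.c (ω ^ 2 * x) := fun e => by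
    rw [← (f.hact _).2.2.1, ← e]; group
  have e1 := sqh e
  have e2 := sqh e1
  generalize f.h * (f.h * u * f.h⁻¹) * f.h⁻¹ = z at hN e2
  generalize f.h * u * f.h⁻¹ = v at hN e1 ⊢
  have h1 : u * v * (u * v) = u * u * (v * v) := by
    rw [eq_inv_of_mul_eq_one_left hN, ← mul_inv_rev, e2, e, e1, add_inv f.c_add, ← f.c_add]
    congr 1
    generalize γ = x; revert x; decide +kernel
  show u * v = v * u
  calc _ = u⁻¹ * (u * u * (v * v)) * v⁻¹ := by group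
    _ = _ := by rw [← h1]; group

theorem W2_conj {u d : G} {μ : F} (hu : u ∈ W2 f) (hm : Mv f u μ) (hA : d ∈ f.A) (hQ : d ∈ 𝐍[f.QA]) (hX : d ∈ 𝐂[f.X]) :
    ∃ v, d * u * d⁻¹ = v * u ∧ v * v = 1 ∧ ∀ x ∈ f.A, x ∈ 𝐂[f.X] → Commute x v := by
  have hd : d ∈ 𝐂[OO f] := mem_cent.2 fun k hk => (f.comm_K hA hk.1.1).eq.symm
  have hm' : Mv f (d * u * d⁻¹) μ := fun s => by
    have h1 : d⁻¹ * f.r s * d = f.r s := by rw [(f.r_comm hA s).inv_left.eq, inv_mul_cancel_right]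
    calc _ = d * (u * (d⁻¹ * f.r s * d) * u⁻¹) * d⁻¹ := by group
      _ = _ := by rw [h1, hm, ((f.r_comm hA s).mul_right ((mem_cX f).1 hX _)).eq, mul_inv_cancel_right]
  obtain ⟨j, e⟩ := hu.2
  have hW : d * u * d⁻¹ ∈ W2 f := ⟨⟨conj_mem_of_norm (norm_cent (X := zpowers d) (zpowers_le.2 hQ) (mem_zpowers _)) hu.1.1,
    mul_mem (mul_mem hd hu.1.2.1) (inv_mem hd), _, hm'⟩, j, by rw [conj_pow, e]; group⟩
  obtain ⟨s, t, e⟩ := W2_V (mul_mem hW (inv_mem hu)) (hm'.dbl hW.1.1 (hm.inv hu.1.1))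
  exact ⟨f.r s * f.c t, by rw [← e]; group, V_sq s t, fun x hx hx' => (f.r_comm hx s).mul_right ((mem_cX f).1 hx' t)⟩

theorem comm_three {u d : G} {μ : F} (hu : u ∈ W2 f) (hm : Mv f u μ) (hA : d ∈ f.A) (hQ : d ∈ 𝐍[f.QA]) (hX : d ∈ 𝐂[f.X])
    (h3 : d ^ 3 = 1) : Commute u d := by
  obtain ⟨v, e, v2, hv⟩ := W2_conj hu hm hA hQ hX
  have h0 : d * v * d⁻¹ = v := by rw [(hv d hA hX).eq, mul_inv_cancel_right]
  have h1 : d * (v * u) * d⁻¹ = u := by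
    rw [show d * (v * u) * d⁻¹ = d * v * d⁻¹ * (d * u * d⁻¹) by group, h0, e, ← mul_assoc, v2, one_mul]
  have h2 : d * u * d⁻¹ = u := by
    calc _ = d * (d * (d * (d * u * d⁻¹) * d⁻¹) * d⁻¹) * d⁻¹ := by
          rw [show d * (d * (d * (d * u * d⁻¹) * d⁻¹) * d⁻¹) * d⁻¹ = d ^ 3 * (d * u * d⁻¹) * (d ^ 3)⁻¹ by
            rw [pow_succ, sq]; group, h3]
          group
      _ = u := by rw [e, h1, e, h1]
  exact (mul_inv_eq_iff_eq_mul.1 h2 : d * u = u * d).symm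

theorem comm_ξ {u : G} {μ : F} (hu : u ∈ W2 f) (hm : Mv f u μ) : Commute u f.ξ :=
  comm_three hu hm f.mem'.2.2.2.2 f.hξ_norm.2.2.1 f.hξ_norm.2.2.2 f.ξ3

theorem cent_D {u : G} {μ : F} (hu : u ∈ W2 f) (hm : Mv f u μ) : u ∈ 𝐂[f.D] := by
  have hx : ∀ t, Commute u (f.x t) := fun t => by
    have hD := (f.letters_mem (ω * t)).2.2.2.2.2.1
    obtain ⟨v, e, v2, hv⟩ := W2_conj hu hm (f.D_le_A hD) (f.D_le_norm hD) (f.D_le_cent hD)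
    have h1 : f.x t = f.x (ω * t) * (f.ξ * f.x (ω * t) * f.ξ⁻¹) := by
      rw [(f.ξact _).2.2, ← f.x_add]
      congr 1
      generalize t = x; revert x; decide +kernel
    have h2 : f.ξ⁻¹ * u * f.ξ = u := by rw [← (comm_ξ hu hm).inv_right.eq, inv_mul_cancel_right]
    have h3 : f.ξ * (v * u) * f.ξ⁻¹ = v * u := by
      rw [((hv _ f.mem'.2.2.2.2 f.hξ_norm.2.2.2).mul_right (comm_ξ hu hm).symm).eq, mul_inv_cancel_right]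
    have h4 : f.x (ω * t) * v * (f.x (ω * t))⁻¹ = v := by
      rw [(hv _ (f.D_le_A hD) (f.D_le_cent hD)).eq, mul_inv_cancel_right]
    have h5 : f.x t * u * (f.x t)⁻¹ = u := by
      calc _ = f.x (ω * t) * (f.ξ * (f.x (ω * t) * (f.ξ⁻¹ * u * f.ξ) * (f.x (ω * t))⁻¹) * f.ξ⁻¹) * (f.x (ω * t))⁻¹ := by
            rw [h1]; group
        _ = f.x (ω * t) * (v * u) * (f.x (ω * t))⁻¹ := by rw [h2, e, h3]
        _ = f.x (ω * t) * v * (f.x (ω * t))⁻¹ * (f.x (ω * t) * u * (f.x (ω * t))⁻¹) := by group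
        _ = u := by rw [h4, e, ← mul_assoc, v2, one_mul]
    exact (mul_inv_eq_iff_eq_mul.1 h5 : f.x t * u = u * f.x t).symm
  have hw : Commute u f.w := by
    cases m
    · rw [(f.triv rfl).1]; exact Commute.one_right u
    have hD := mul_mem (f.letters_mem 1).2.2.2.2.2.2 (f.letters_mem 1).2.2.2.2.2.1
    simpa using (comm_three hu hm (f.D_le_A hD) (f.D_le_norm hD) (f.D_le_cent hD) (f.wact rfl).2.1).mul_right
      (hx 1).inv_right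
  rw [Lt.D, cent_sup, centralizer_closure]
  refine ⟨hu.1.1, mem_centralizer_iff.2 ?_⟩
  rintro _ (rfl | ⟨t, rfl⟩)
  exacts [hw.eq.symm, (hx t).eq.symm]

end Cfsg.Agent.STA.YP
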