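import Mathlib
import Cfsg.Agent.STA.LBasic
import Cfsg.Agent.STA.YC

/-! The translations (PLAN: Y). -/

set_option autoImplicit false
set_option linter.unusedSectionVars false

namespace Cfsg.Agent.STA

open Cfsg Cfsg.Agent.Loc.Mss Subgroup Equiv
open Cfsg.Agent.Spor (ES2 Eqv)

namespace YP

variable {m : Bool} {G : Type*} [Group G] [Finite G] (f : Cfg m G)

theorem exists_y : ∃ y : F → G, y 0 = 1 ∧ (∀ μ, f.h * y μ * f.h⁻¹ = y (ω ^ 2 * μ)) ∧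
    ∀ μ, y μ ∈ W2 f ∧ Mv f (y μ) μ ∧ y μ ∈ 𝐂[KK f] ∧ y μ ∈ normalClosure (f.A : Set G) ∧
      y μ * (f.h * y μ * f.h⁻¹) * (f.h * (f.h * y μ * f.h⁻¹) * f.h⁻¹) = 1 := by
  obtain ⟨U, -, hU, hP⟩ := exists_U f
  have hW : ∀ μ, U μ ∈ W2 f := fun μ =>
    ⟨⟨(hP μ).1, cent_anti (inf_le_left : OO f ≤ KK f) (hP μ).2.2.2.1, _, (hP μ).2.1⟩, (hP μ).2.2.1⟩
  obtain ⟨y, h0, h1, hy⟩ := exists_orb f (U (ω ^ 2) * (U ω)⁻¹) one_ne_zero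
  refine ⟨y, h0, hy, orb_ind f one_ne_zero h0 hy (P := fun μ u => u ∈ W2 f ∧ Mv f u μ ∧ u ∈ 𝐂[KK f] ∧
    u ∈ normalClosure (f.A : Set G) ∧ u * (f.h * u * f.h⁻¹) * (f.h * (f.h * u * f.h⁻¹) * f.h⁻¹) = 1)
    ⟨one_mem _, (mv_zero f).2 (one_mem _), one_mem _, one_mem _, by group⟩ ?_ ?_⟩
  · rw [h1]
    refine ⟨mul_mem (hW _) (inv_mem (hW _)), ?_, mul_mem (hP _).2.2.2.1 (inv_mem (hP _).2.2.2.1),
      mul_mem (hP _).2.2.2.2 (inv_mem (hP _).2.2.2.2), ?_⟩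
    · have := (hP (ω ^ 2)).2.1.mul (hP _).1 ((hP ω).2.1.inv (hP _).1)
      rwa [show ω ^ 2 + ω = 1 by decide +kernel] at this
    · have st : ∀ μ ν, f.h * (U μ * (U ν)⁻¹) * f.h⁻¹ = U (ω ^ 2 * μ) * (U (ω ^ 2 * ν))⁻¹ := fun μ ν => by
        rw [← hU, ← hU]; group
      rw [st, st, ω_tab.2.2.1, ω_tab.2.1, mul_one]
      group
  · rintro μ u ⟨a1, a2, a3, a4, a5⟩
    refine ⟨W2_h a1, a2.h, mul_mem (mul_mem (h_cKK f) a3) (inv_mem (h_cKK f)), normalClosure_normal.conj_mem _ a4 _, ?_⟩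
    calc _ = f.h * (u * (f.h * u * f.h⁻¹) * (f.h * (f.h * u * f.h⁻¹) * f.h⁻¹)) * f.h⁻¹ := by group
      _ = 1 := by rw [a5]; group

end YP

open YP in
theorem Cfg.exists_tr {m : Bool} {G : Type*} [Group G] [Finite G] (f : Cfg m G) :
    ∃ t : Tr m G, t.toCfg = f := by
  obtain ⟨y, h0, hy, hP⟩ := exists_y f
  have cs : ∀ μ ν : F, μ = 0 ∨ ν = 0 ∨ ν = μ ∨ (ν = ω ^ 2 * μ ∧ μ + ν = ω ^ 2 * (ω ^ 2 * μ)) ∨
      (ν = ω ^ 2 * (ω ^ 2 * μ) ∧ μ + ν = ω ^ 2 * μ) := by decide +kernel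
  have pr : ∀ μ, y μ * y (ω ^ 2 * μ) * y (ω ^ 2 * (ω ^ 2 * μ)) = 1 := fun μ => by
    rw [← hy (ω ^ 2 * μ), ← hy μ]; exact (hP μ).2.2.2.2
  have c1 : ∀ μ, Commute (y μ) (y (ω ^ 2 * μ)) := fun μ => hy μ ▸ comm_h (hP μ).1 (hP μ).2.2.2.2
  have com : ∀ μ ν, Commute (y μ) (y ν) := fun μ ν => by
    rcases cs μ ν with rfl | rfl | rfl | ⟨rfl, -⟩ | ⟨rfl, -⟩
    · rw [h0]; exact Commute.one_left _
    · rw [h0]; exact Commute.one_right _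
    · exact Commute.refl _
    · exact c1 μ
    · rw [eq_inv_of_mul_eq_one_right (pr μ)]
      exact ((Commute.refl _).mul_right (c1 μ)).inv_right
  refine ⟨⟨f, y, OO f, mem_OO f, h0, hy, fun μ => (hP μ).2.1, fun μ => cent_D (hP μ).1 (hP μ).2.1,
    fun μ => comm_ξ (hP μ).1 (hP μ).2.1, fun μ => (hP μ).1.1.2.1, com, fun μ ν => ?_, fun μ k hk => ?_,
    fun u h1 h2 h3 h4 => ?_, fun μ => (hP μ).2.2.2.1⟩, rfl⟩
  · rcases cs μ ν with rfl | rfl | rfl | ⟨rfl, e⟩ | ⟨rfl, e⟩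
    · exact ⟨0, by rw [h0, add_zero' f.c_add, zero_add, one_mul, mul_one]⟩
    · exact ⟨0, by rw [h0, add_zero' f.c_add, add_zero]⟩
    · obtain ⟨t, e⟩ := W2_sq (hP ν).1
      exact ⟨t, by rw [e, CharTwo.add_self_eq_zero, h0, one_mul]⟩
    · obtain ⟨t, -, e'⟩ := W2_inv (hP (ω ^ 2 * (ω ^ 2 * μ))).1
      exact ⟨t, by rw [e, ← e', eq_inv_of_mul_eq_one_left (pr μ)]⟩
    · obtain ⟨t, -, e'⟩ := W2_inv (hP (ω ^ 2 * μ)).1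
      refine ⟨t, ?_⟩
      rw [e, ← e']
      exact eq_inv_of_mul_eq_one_left (by rw [mul_assoc, (com _ _).eq, ← mul_assoc, pr])
  · have k0 := hk 0
    rw [h0, inv_one, one_mul, mul_one] at k0
    exact (mem_cent.1 (hP μ).2.2.1 k ⟨k0, mem_cj.2 ((hP 1).2.1.g_K (hk 1))⟩).symm
  · obtain ⟨μ, hμ⟩ := f.lin h4
    obtain ⟨s, t, e⟩ := W2_V (mul_mem (inv_mem (hP μ).1) (⟨⟨h1, h2, μ, hμ⟩, h3⟩ : u ∈ W2 f))
      (((hP μ).2.1.inv (hP μ).1.1.1).dbl (inv_mem (hP μ).1.1.1) hμ)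
    exact ⟨μ, s, t, by rw [mul_assoc, ← e, mul_inv_cancel_left]⟩

end Cfsg.Agent.STA
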