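import Mathlib
import Cfsg.Agent.STA.P1A

/-! Abelian 2-groups of automorphisms of `A` (PLAN1: P1B). -/

set_option autoImplicit false
set_option linter.unusedSectionVars false

namespace Cfsg.Agent.STA

open Cfsg Cfsg.Agent.Loc.Mss Subgroup

variable {m : Bool} {G : Type*} [Group G] [Finite G]

namespace P1B

theorem card_fib {P H : Subgroup G} {T : Type*} [Finite T] (R : G → T → Prop)
    (hex : ∀ p ∈ P, ∃ t, R p t) (h : ∀ p ∈ P, ∀ q ∈ P, ∀ t, R p t → R q t → p⁻¹ * q ∈ H) :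
    Nat.card P ≤ Nat.card T * Nat.card ↥(P ⊓ H) := by
  choose f hf using fun p : P => hex p p.2
  have k : ∀ p : P, f (Function.invFun f (f p)) = f p := fun p => Function.invFun_eq ⟨p, rfl⟩
  rw [← Nat.card_prod]
  have k' : ∀ p : P, R (Function.invFun f (f p)).1 (f p) := fun p => by
    have := hf (Function.invFun f (f p))
    rwa [k] at this
  refine Nat.card_le_card_of_injective (fun p : P => ((f p, ⟨(Function.invFun f (f p)).1⁻¹ * p,
    P.mul_mem (P.inv_mem (Function.invFun f (f p)).2) p.2,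
      h _ (Function.invFun f (f p)).2 p p.2 (f p) (k' p) (hf p)⟩) : T × ↥(P ⊓ H))) fun p q e => ?_
  obtain ⟨e1, e2⟩ := Prod.ext_iff.1 e
  have e3 := congrArg Subtype.val e2
  simp only at e1 e3
  rw [e1] at e3
  exact Subtype.ext (mul_left_cancel e3)

theorem card_two {P H : Subgroup G} (h : ∀ p ∈ P, ∀ q ∈ P, p ∈ H ∨ q ∈ H ∨ p * q ∈ H) :
    Nat.card P ≤ 2 * Nat.card ↥(P ⊓ H) := by
  have := card_fib (P := P) (H := H) (T := Prop) (fun p t => t ↔ p ∈ H) (fun p _ => ⟨_, Iff.rfl⟩)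
    fun p hp q hq t a b => by
      rcases h _ (inv_mem hp) q hq with k | k | k
      · exact mul_mem k (b.1 (a.2 (inv_mem_iff.1 k)))
      · exact mul_mem (inv_mem (a.1 (b.2 k))) k
      · exact k
  simpa using this

theorem iso_card {k : ℕ} (M : Matrix (Fin (2 * k)) (Fin (2 * k)) F) (hM : M.det ≠ 0)
    (J : Set (Fin (2 * k) → F)) (h : ∀ v ∈ J, ∀ w ∈ J, M.toBilin' v w = 0) : Nat.card J ≤ 4 ^ k := by
  have h1 : Submodule.span F J ≤ M.toBilin'.orthogonal (Submodule.span F J) := fun w hw v hv =>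
    Submodule.span_induction₂ (p := fun v w _ _ => M.toBilin' v w = 0) (fun v w a b => h v a w b)
      (by simp) (by simp) (fun _ _ _ _ _ _ a b => by simp [a, b])
      (fun _ _ _ _ _ _ a b => by simp [a, b]) (fun _ _ _ _ _ a => by simp [a])
      (fun _ _ _ _ _ a => by simp [a]) hv hw
  have h2 := Submodule.finrank_mono h1
  rw [LinearMap.BilinForm.finrank_orthogonal
    (LinearMap.BilinForm.nondegenerate_toBilin'_of_det_ne_zero' M hM), Module.finrank_fin_fun] at h2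
  calc Nat.card J ≤ Nat.card (Submodule.span F J) := Nat.card_mono (Set.toFinite _) Submodule.subset_span
    _ = 4 ^ Module.finrank F (Submodule.span F J) := by rw [Module.natCard_eq_pow_finrank (K := F), card_F]
    _ ≤ _ := Nat.pow_le_pow_right (by norm_num) (by omega)

end P1B

open P1B

theorem Lt.ab_QA (l : Lt m G) {B : Subgroup G} (hB : B ≤ l.QA) (h : ∀ u ∈ B, ∀ v ∈ B, Commute u v) :
    Nat.card B ≤ if m then 64 else 16 := by
  have form : ∀ {α β t u γ α' β' t' u' γ'}, l.el α β t u γ ∈ B → l.el α' β' t' u' γ' ∈ B →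
      α * β' + β * α' + em m * (t * u' + u * t') = 0 := fun {α β t u γ α' β' t' u' γ'} a b => by
    have := l.el_conj α β t u γ α' β' t' u' γ'
    rw [(h _ a _ b).eq, mul_inv_cancel_right] at this
    linear_combination -l.el_cancel this
  have key : ∀ (V : Type) [Finite V] (e : V → F → G), (∀ v γ δ, e v γ * l.c δ = e v (γ + δ)) →
      (∀ p ∈ l.QA, ∃ v γ, p = e v γ) → Nat.card B ≤ Nat.card {v | ∃ γ, e v γ ∈ B} * 4 := by
    intro V _ e he hs
    refine (card_fib (P := B) (H := l.X) (T := {v | ∃ γ, e v γ ∈ B}) (fun p v => ∃ γ, p = e v γ)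
      (fun p hp => ?_) ?_).trans (Nat.mul_le_mul_left _ (l.card_X ▸ card_le_of_le inf_le_right))
    · obtain ⟨v, γ, rfl⟩ := hs p (hB hp)
      exact ⟨⟨v, γ, hp⟩, γ, rfl⟩
    · rintro _ - _ - v ⟨γ, rfl⟩ ⟨γ', rfl⟩
      exact ⟨γ + γ', by rw [inv_mul_eq_iff_eq_mul, he, ← add_assoc, CharTwo.add_self_eq_zero, zero_add]⟩
  cases m
  · refine (key (Fin (2 * 1) → F) (fun v => l.el (v 0) (v 1) 0 0) (fun _ => l.el_c _ _ _ _)
      fun p hp => ?_).trans (Nat.mul_le_mul_right 4 (iso_card !![0, 1; 1, 0] (by decide +kernel) _ ?_))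
    · obtain ⟨α, β, t, u, γ, rfl⟩ := l.mem_QA.1 hp
      exact ⟨![α, β], γ, by rw [l.el_em]; simp [em]⟩
    · rintro v ⟨γ, a⟩ w ⟨γ', b⟩
      have := form a b
      simpa [Matrix.toBilin'_apply, Fin.sum_univ_succ] using this
  · refine (key (Fin (2 * 2) → F) (fun v => l.el (v 0) (v 1) (v 2) (v 3)) (fun _ => l.el_c _ _ _ _)
      fun p hp => ?_).trans (Nat.mul_le_mul_right 4 (iso_card
        !![0, 1, 0, 0; 1, 0, 0, 0; 0, 0, 0, 1; 0, 0, 1, 0] (by decide +kernel) _ ?_))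
    · obtain ⟨α, β, t, u, γ, rfl⟩ := l.mem_QA.1 hp
      exact ⟨![α, β, t, u], γ, rfl⟩
    · rintro v ⟨γ, a⟩ w ⟨γ', b⟩
      have := form a b
      simpa [Matrix.toBilin'_apply, Fin.sum_univ_succ, em, add_assoc] using this

namespace P1B

variable {s : Std m G} {P : Subgroup G}

/-- The hypotheses. -/
structure Hy (s : Std m G) (P : Subgroup G) : Prop where
  pg : IsPGroup 2 P
  le : P ≤ s.N
  cm : ∀ p ∈ P, ∀ q ∈ P, p * q * p⁻¹ * q⁻¹ ∈ s.K

theorem Hy.inf (h : Hy s P) (Q : Subgroup G) : Hy s (P ⊓ Q) :=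
  ⟨h.pg.to_inf_left, inf_le_left.trans h.le, fun p hp q hq => h.cm p hp.1 q hq.1⟩

theorem Hy.cj (h : Hy s P) {n : G} (hn : n ∈ s.N) : Hy s cj(n, P) :=
  ⟨pg_cj h.pg n, cj_le_of_mem h.le hn, by
    rintro _ ⟨p, hp, rfl⟩ _ ⟨q, hq, rfl⟩
    rw [← map_inv, ← map_inv, ← map_mul, ← map_mul, ← map_mul]
    exact s.cj_K hn (h.cm p hp q hq)⟩

theorem of_cj {n : G} (hn : n ∈ s.N) {c : ℕ} (h : Nat.card cj(n, P) ≤ c * Nat.card ↥(cj(n, P) ⊓ s.K)) :
    Nat.card P ≤ c * Nat.card ↥(P ⊓ s.K) := by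
  rwa [← (cj_eq_iff (A := s.K)).2 (norm_cent le_rfl hn), ← cj_inf, card_cj, card_cj] at h

theorem Hy.comm (h : Hy s P) {u v : G} (hu : u ∈ s.K ⊔ P) (hv : v ∈ s.K ⊔ P) :
    u * v * u⁻¹ * v⁻¹ ∈ s.K := by
  obtain ⟨k, hk, p, hp, rfl⟩ := (mem_sup_norm (norm_cent h.le)).1 hu
  obtain ⟨k', hk', q, hq, rfl⟩ := (mem_sup_norm (norm_cent h.le)).1 hv
  have := mul_mem (mul_mem (mul_mem (mul_mem hk (s.cj_K (h.le hp) hk')) (h.cm p hp q hq))
    (s.cj_K (h.le hq) (inv_mem hk))) (inv_mem hk')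
  convert this using 1
  group

theorem Hy.ab (h : Hy s P) : ∀ u ∈ s.QA ⊓ (s.K ⊔ P), ∀ v ∈ s.QA ⊓ (s.K ⊔ P), Commute u v :=
  fun _ hu _ hv => commutatorElement_eq_one_iff_commute.1 (s.eq_one_of_K
    (mul_mem (mul_mem (mul_mem hu.1 hv.1) (inv_mem hu.1)) (inv_mem hv.1)) (h.comm hu.2 hv.2))

theorem mem_M {t : G} : t ∈ s.QA ⊔ s.K ↔ s.QK t := by
  rw [mem_sup_norm (cent_anti (s.QA_le_D.trans s.D_le_A) |>.trans (cent_le_norm _))]
  exact ⟨fun ⟨u, hu, k, hk, e⟩ => ⟨u, hu, by rwa [← e, inv_mul_cancel_left]⟩,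
    fun ⟨u, hu, hk⟩ => ⟨u, hu, _, hk, mul_inv_cancel_left _ _⟩⟩

theorem card_M (P : Subgroup G) : Nat.card ↥(P ⊓ (s.QA ⊔ s.K)) ≤
    Nat.card ↥(s.QA ⊓ (s.K ⊔ P)) * Nat.card ↥(P ⊓ s.K) := by
  refine (card_fib (H := s.K) (T := ↥(s.QA ⊓ (s.K ⊔ P))) (fun p u => (u : G)⁻¹ * p ∈ s.K)
    (fun p hp => ?_) fun p _ q _ u a b => ?_).trans
      (Nat.mul_le_mul_left _ (card_le_of_le (inf_le_inf_right _ inf_le_left)))
  · obtain ⟨u, hu, hk⟩ := mem_M.1 hp.2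
    exact ⟨⟨u, hu, by simpa using mul_mem (mem_sup_right hp.1) (inv_mem (mem_sup_left hk))⟩, hk⟩
  · simpa [mul_assoc] using mul_mem (inv_mem a) b

theorem Hy.bd_true {s : Std true G} (h : Hy s P) (hX : P ≤ 𝐂[s.X]) :
    Nat.card P ≤ 256 * Nat.card ↥(P ⊓ s.K) := by
  obtain ⟨d, hd, e⟩ := Std.toU h.pg h.le hX
  have hn : d ∈ s.N := le_normalizer (s.D_le_A hd)
  refine of_cj hn ?_
  have h1 := card_fib (P := cj(d, P)) (H := s.QA ⊔ s.K) (T := F)
    (fun p τ => ∃ q ∈ s.QA, (q * s.x τ)⁻¹ * p ∈ s.K) (by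
      rintro _ ⟨p, hp, rfl⟩
      obtain ⟨u, hu, hk⟩ := e p hp
      obtain ⟨q, hq, τ, rfl⟩ := s.mem_U.1 hu
      exact ⟨τ, q, hq, hk⟩) (by
      rintro p - p' - τ ⟨q, hq, a⟩ ⟨q', hq', b⟩
      have := mul_mem (mul_mem (mem_sup_right (S := s.QA) (inv_mem a)) (mem_sup_left
        (conj_mem_of_norm (inv_mem (s.D_le_norm (s.letters_mem τ).2.2.2.2.2.1))
          (mul_mem (inv_mem hq) hq')))) (mem_sup_right b)
      convert this using 1
      group)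
  have h2 := card_M (s := s) cj(d, P)
  have h3 := Nat.mul_le_mul_right (Nat.card ↥(cj(d, P) ⊓ s.K))
    (s.ab_QA inf_le_left (h.cj hn).ab)
  rw [card_F] at h1
  rw [if_pos rfl] at h3
  omega

theorem Hy.bd (h : Hy s P) : Nat.card P ≤ (if m then 512 else 32) * Nat.card ↥(P ⊓ s.K) := by
  obtain ⟨n, hn, δ, hδ, e⟩ := s.toC h.pg h.le
  refine of_cj hn ?_
  have h := h.cj hn
  have e : ∀ p ∈ cj(n, P), Commute p (s.c δ) := by rintro _ ⟨p, hp, rfl⟩; exact e p hp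
  generalize cj(n, P) = P at h e
  have h1 := card_two (H := 𝐂[s.X]) fun p hp q hq =>
    s.two (h.le hp) (h.le hq) hδ (e p hp) (e q hq)
  have h2 : Nat.card ↥(P ⊓ 𝐂[s.X] ⊓ s.K) ≤ Nat.card ↥(P ⊓ s.K) :=
    card_le_of_le (inf_le_inf_right _ inf_le_left)
  cases m
  · have h3 := card_two (P := P ⊓ 𝐂[s.X]) (H := s.QA ⊔ s.K) fun p hp q hq => by
      simp only [mem_M]
      exact Std.two' (h.inf _).pg (h.inf _).le inf_le_right hp hq
    have h4 : Nat.card ↥(P ⊓ 𝐂[s.X] ⊓ (s.QA ⊔ s.K)) ≤ _ :=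
      (card_le_of_le (inf_le_inf_right _ inf_le_left)).trans (card_M (s := s) P)
    rw [if_neg (by decide)]
    by_cases hX : s.X ≤ s.QA ⊓ (s.K ⊔ P)
    · have h5 : P ≤ 𝐂[s.X] := fun q hq x hx => (commutatorElement_eq_one_iff_commute.1
        (s.eq_one_of_K (s.X_le_QA (mul_mem (conj_mem_of_norm (s.normX (h.le hq) hδ (e q hq)).1 hx)
          (inv_mem hx))) (h.comm (mem_sup_right hq) (hX hx).2))).symm
      have h6 := Nat.mul_le_mul_right (Nat.card ↥(P ⊓ s.K)) (s.ab_QA inf_le_left h.ab)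
      rw [inf_eq_left.2 h5] at h3 h4
      rw [if_neg (by decide)] at h6
      omega
    · have hc : s.QA ≤ 𝐂[s.X] := s.QA_le_D.trans s.D_le_cent
      have h5 : s.QA ⊓ (s.K ⊔ P) ⊔ s.X ≤ 𝐂[s.QA ⊓ (s.K ⊔ P)] ⊓ 𝐂[s.X] :=
        sup_le (le_inf (fun u hu v hv => h.ab v hv u hu) (inf_le_left.trans hc))
          (le_inf (cent_comm (inf_le_left.trans hc)) (s.X_le_QA.trans hc))
      have h6 := s.ab_QA (sup_le inf_le_left s.X_le_QA) fun u hu v hv =>
        sup_le (cent_comm (h5.trans inf_le_left)) (cent_comm (h5.trans inf_le_right)) hv u hu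
      rw [if_neg (by decide)] at h6
      obtain ⟨c, hc⟩ := card_dvd_of_le (le_sup_left (a := s.QA ⊓ (s.K ⊔ P)) (b := s.X))
      have h7 : c ≠ 1 := by
        rintro rfl
        exact hX (le_sup_right.trans (eq_of_le_of_card_ge le_sup_left (by rw [hc, mul_one])).ge)
      have h8 : c ≠ 0 := by
        rintro rfl
        exact Nat.card_pos.ne' hc
      have h9 : Nat.card ↥(s.QA ⊓ (s.K ⊔ P)) ≤ 8 := by
        have := Nat.mul_le_mul_left (Nat.card ↥(s.QA ⊓ (s.K ⊔ P))) (show 2 ≤ c by omega)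
        omega
      have := Nat.mul_le_mul_right (Nat.card ↥(P ⊓ s.K)) h9
      omega
  · have := (h.inf _).bd_true inf_le_right
    rw [if_pos rfl]
    omega

end P1B

theorem Std.bound (s : Std m G) {P : Subgroup G} (hP : IsPGroup 2 P) (hN : P ≤ s.N)
    (h : ∀ p ∈ P, ∀ q ∈ P, p * q * p⁻¹ * q⁻¹ ∈ s.K) : s.K.relIndex P ≤ if m then 512 else 32 := by
  have h1 := Hy.bd ⟨hP, hN, h⟩
  rw [← inf_relIndex_left]
  refine Nat.le_of_mul_le_mul_right (h1.trans' (le_of_eq ?_)) Nat.card_pos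
  rw [← Nat.card_congr (subgroupOfEquivOfLe (inf_le_left (a := P) (b := s.K))).toEquiv]
  exact index_mul_card _

theorem Std.bound' (s : Std m G) {g : G} {P : Subgroup G} (hP : IsPGroup 2 P) (hN : P ≤ cj(g, s.N))
    (h : ∀ p ∈ P, ∀ q ∈ P, p * q * p⁻¹ * q⁻¹ ∈ cj(g, s.K)) :
    Nat.card P ≤ (if m then 512 else 32) * Nat.card ↥(P ⊓ cj(g, s.K)) := by
  have h1 := Hy.bd (s := s) ⟨pg_cj hP g⁻¹, le_cj_iff_inv_le.1 hN, by
    rintro _ ⟨p, hp, rfl⟩ _ ⟨q, hq, rfl⟩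
    rw [← map_inv, ← map_inv, ← map_mul, ← map_mul, ← map_mul]
    simpa using mem_cj.1 (h p hp q hq)⟩
  rwa [card_cj, ← cj_inv_cj s.K g, ← cj_inf, card_cj] at h1

end Cfsg.Agent.STA
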