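import Mathlib
import Cfsg.Agent.GT.Quasisimple
import Cfsg.Agent.STA.P1B

/-! Long root elements are not conjugate into `K` (PLAN1: P1C). -/

set_option autoImplicit false
set_option linter.unusedSectionVars false

namespace Cfsg.Agent.STA

open Cfsg Cfsg.Agent.Loc.Mss Subgroup

variable {m : Bool} {G : Type*} [Group G] [Finite G]

namespace P1C

theorem f1 : ∀ α t : F, α ≠ 0 → t = 0 ∨ t = α ∨ t = ω * α ∨ t = ω * (ω * α) := by decide +kernel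

theorem f2 : ∀ α t : F, α ≠ 0 → t = 0 ∨ t = α ∨ t = ω ^ 2 * α ∨ t = ω ^ 2 * (ω ^ 2 * α) := by
  decide +kernel

theorem f3 : ∀ γ δ : F, δ ≠ 0 → γ = 0 ∨ γ = δ ∨ (γ ≠ 0 ∧ ω ^ 2 * γ = γ + δ) ∨
    (γ + δ ≠ 0 ∧ ω ^ 2 * (γ + δ) = γ) := by decide +kernel

theorem f4 : ∀ α : F, ω * (α + ω * α) = α := by decide +kernel

theorem f5 : ∀ β : F, ω ^ 3 * 0 + ω ^ 2 * (1 * β) + ω * (1 ^ 2 * β) = β ∧ ω * (0 : F) = 0 ∧
    ω ^ 2 * (0 : F) = 0 := by decide +kernel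

theorem f6 : ∀ t u : F, (t = 0 ∧ u = 0) ∨ ∃ τ : F, τ ^ 3 * 0 + τ ^ 2 * t + τ * u ≠ 0 := by
  decide +kernel

theorem f7 : ∀ α β κ κ' : F, ¬ (α = 0 ∧ β = 0) → κ * α = κ' * α → κ * β = κ' * β → κ = κ' := by
  decide +kernel

theorem f8 : ∀ κ : F, κ = 0 ∨ κ = 1 ∨ κ = ω ∨ κ = ω * ω := by decide +kernel

theorem c_ne (l : Lt m G) {γ : F} (h : γ ≠ 0) : l.c γ ≠ 1 := fun e => h (l.c_inj _ e)

theorem c_QA (l : Lt m G) (γ : F) : l.c γ ∈ l.QA := (l.letters_mem γ).2.2.2.2.1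

theorem c_X (l : Lt m G) (γ : F) : l.c γ ∈ l.X := l.mem_X.2 ⟨γ, rfl⟩

theorem QA_A (l : Lt m G) : l.QA ≤ l.A := l.QA_le_D.trans l.D_le_A

theorem c_comm (l : Lt m G) (γ : F) {u : G} (hu : u ∈ l.QA) : Commute (l.c γ) u :=
  l.mem_cX.1 (l.D_le_cent (l.QA_le_D hu)) γ

theorem A_N (l : Lt m G) : l.A ≤ l.N := le_normalizer

theorem K_N (l : Lt m G) : l.K ≤ l.N := cent_le_norm _

theorem sq2 {k : G} (h : k * k = 1) : ∃ j : ℕ, k ^ 2 ^ j = 1 := ⟨1, by rw [pow_one, pow_two, h]⟩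

theorem zc {p q : G} (h : Commute p q) : zpowers p ≤ 𝐂[zpowers q] :=
  zpowers_le.2 (mem_cent.2 fun _ ⟨i, e⟩ => e ▸ (h.zpow_right i).symm.eq)

theorem pg_inv {p : G} (h : p * p = 1) : IsPGroup 2 (zpowers p) :=
  pg_iff.2 fun _ ⟨i, e⟩ => ⟨1, by
    rw [← e, pow_one, ← zpow_natCast, ← zpow_mul, mul_comm, zpow_mul, zpow_natCast, pow_two, h, one_zpow]⟩

theorem three {R : Subgroup G} {p q : G} (hp : p ∈ R) (hq : q ∈ R) (h1 : p ≠ 1) (h2 : q ≠ 1) (h : p ≠ q) :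
    3 ≤ Nat.card R := by
  have := Fintype.ofFinite R
  rw [Nat.card_eq_fintype_card]
  exact Fintype.two_lt_card_iff.2 ⟨1, ⟨p, hp⟩, ⟨q, hq⟩, fun e => h1 (congrArg Subtype.val e).symm,
    fun e => h2 (congrArg Subtype.val e).symm, fun e => h (congrArg Subtype.val e)⟩

variable {s : Std m G} {g : G}

theorem spread {f : F → G} {κ α : F} (h0 : f 0 = 1) (hh : s.h ∈ cj(g, s.N))
    (hf : ∀ t, s.h * f t * s.h⁻¹ = f (κ * t)) (hα : f α ∈ cj(g, s.K))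
    (hF : ∀ t, t = 0 ∨ t = α ∨ t = κ * α ∨ t = κ * (κ * α)) (t : F) : f t ∈ cj(g, s.K) := by
  have h1 := hf α ▸ s.cj_mem hh hα
  rcases hF t with rfl | rfl | rfl | rfl
  · exact h0 ▸ one_mem _
  · exact hα
  · exact h1
  · exact hf _ ▸ s.cj_mem hh h1

section One

variable {δ : F} (hδ : δ ≠ 0) (he : s.c δ ∈ cj(g, s.K))
include hδ he

theorem gN : g ∉ s.N := fun hg => by
  have h := s.cj_K hg (mem_cj.1 he)
  rw [show g * (g⁻¹ * s.c δ * g) * g⁻¹ = s.c δ by group] at h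
  exact c_ne s.toLt hδ (s.eq_one_of_K (c_QA _ δ) h)

theorem KN : s.K ≤ cj(g, s.N) := fun _ hk =>
  s.cen' he (add_sq s.c_add δ) (c_ne _ hδ) (s.comm_K (s.mem δ).2.2.1 hk).symm

theorem DN : s.D ≤ cj(g, s.N) := fun _ hd =>
  s.cen' he (add_sq s.c_add δ) (c_ne _ hδ) (s.mem_cX.1 (s.D_le_cent hd) δ).symm

theorem up {u k : G} (hu : u ∈ s.QA) (hX : u ∉ s.X) (hk : k ∈ s.K) (h : u * k ∈ cj(g, s.K)) :
    s.X ≤ cj(g, s.K) := by
  rintro _ ⟨γ, rfl⟩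
  obtain ⟨w, hw, e⟩ := s.comm_onto hu hX γ
  have h1 := s.cj_mem (DN hδ he (s.QA_le_D hw)) h
  have e1 : w * (u * k) * w⁻¹ = u * k * s.c γ := by
    have c1 := (s.comm_K (QA_A _ (inv_mem hw)) hk).eq
    have c2 := (s.comm_K (s.mem γ).2.2.1 hk).eq
    rw [show w * (u * k) * w⁻¹ = w * u * (k * w⁻¹) by group, ← c1, ← mul_assoc, e, mul_assoc, c2, mul_assoc]
  rw [e1] at h1
  exact (mul_mem_cancel_left h).1 h1

theorem hX_of (hh : s.h ∈ cj(g, s.N)) : s.X ≤ cj(g, s.K) := by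
  rintro _ ⟨γ, rfl⟩
  exact spread (add_zero' s.c_add) hh (fun t => (s.hact t).2.2.1) he (fun t => f2 δ t hδ) γ

theorem h_of {γ : F} {k : G} (hγ : γ ≠ 0) (hk : k ∈ s.K) (k2 : k * k = 1) (h : s.c γ * k ∈ cj(g, s.K))
    (h' : s.c (ω ^ 2 * γ) * k ∈ cj(g, s.K)) : s.h ∈ cj(g, s.N) := by
  have c2 := s.comm_K (s.mem γ).2.2.1 hk
  refine s.ti' h ?_ (fun e => ?_) ?_
  · rw [c2.symm.mul_mul_mul_comm, add_sq s.c_add, k2, one_mul]
  · refine c_ne s.toLt hγ (s.eq_one_of_K (c_QA _ γ) ?_)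
    rw [eq_inv_of_mul_eq_one_left e]
    exact inv_mem hk
  · rw [← (s.hact γ).2.2.1] at h'
    have c1 := (s.comm_K (inv_mem s.mem'.2.2.2.1) hk).eq
    rwa [show s.h * (s.c γ * k) * s.h⁻¹ = s.h * s.c γ * (k * s.h⁻¹) by group, ← c1, ← mul_assoc]

theorem X_le : s.X ≤ cj(g, s.K) := by
  by_contra hX
  have hY : ∀ u ∈ s.QA, u ∈ cj(g, s.K) → u ∈ s.X := fun u hu h => by
    by_contra h'
    exact hX (up hδ he hu h' (one_mem _) (by rwa [mul_one]))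
  have e2 := add_sq s.c_add δ
  obtain ⟨T, hT, hS⟩ := Syl.exists_ge (L := cj(g, s.K) ⊓ s.N) (pg_inv e2)
    (zpowers_le.2 ⟨he, A_N _ (s.mem δ).2.2.1⟩)
  obtain ⟨R, hR⟩ := Syl.exists 2 s.K
  have h1 := s.big (gN hδ he) hR.pg hR.le (hR.le.trans (KN hδ he)) hS
  have h2 : Syl 2 T cj(g, s.K) :=
    (hR.cj g).of_card_le hS.pg (hS.le.trans inf_le_left) (by rwa [card_cj])
  obtain ⟨p, hp, hc, p2, p1, pe⟩ := s.four_in h2 (hT (mem_zpowers _)) e2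
  obtain ⟨pK, pN⟩ := hS.le hp
  have hn := (s.normX pN hδ hc).2
  obtain ⟨u, hu, hk⟩ := s.qk_of pN fun u hu => hY _ (mul_mem (conj_mem_of_norm hn hu) (inv_mem hu)) (by
    rw [show p * u * p⁻¹ * u⁻¹ = p * (u * p⁻¹ * u⁻¹) by group]
    exact mul_mem pK (s.cj_mem (DN hδ he (s.QA_le_D hu)) (inv_mem pK)))
  obtain ⟨k, rfl⟩ : ∃ k, p = u * k := ⟨u⁻¹ * p, by group⟩
  rw [inv_mul_cancel_left] at hk
  by_cases huX : u ∈ s.X
  swap
  · exact hX (up hδ he hu huX hk pK)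
  obtain ⟨γ, rfl⟩ := s.toLt.mem_X.1 huX
  have c2 := s.comm_K (s.mem γ).2.2.1 hk
  have k2 : k * k = 1 := by
    rwa [c2.symm.mul_mul_mul_comm, add_sq s.c_add, one_mul] at p2
  have pK' : s.c (γ + δ) * k ∈ cj(g, s.K) := by
    rw [add_comm, s.c_add, mul_assoc]
    exact mul_mem he pK
  rcases f3 γ δ hδ with rfl | rfl | ⟨h0, e⟩ | ⟨h0, e⟩
  · rw [add_zero' s.c_add, one_mul] at pK p1
    exact p1 (s.inter (gN hδ he) hk pK (sq2 k2))
  · rw [s.inter (gN hδ he) hk ((mul_mem_cancel_left he).1 pK) (sq2 k2), mul_one] at pe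
    exact pe rfl
  · exact hX (hX_of hδ he (h_of hδ he h0 hk k2 pK (e ▸ pK')))
  · exact hX (hX_of hδ he (h_of hδ he h0 hk k2 pK' (e.symm ▸ pK)))

end One

section Two

variable (hX : s.X ≤ cj(g, s.K))
include hX

theorem e1 : s.c 1 ∈ cj(g, s.K) := hX (c_X _ 1)

theorem hN : s.h ∈ cj(g, s.N) :=
  s.ti' (e1 hX) (add_sq s.c_add 1) (c_ne _ one_ne_zero) ((s.hact 1).2.2.1 ▸ hX (c_X _ _))

theorem el_c {α β t u γ : F} (h : s.el α β t u γ ∈ cj(g, s.K)) (γ' : F) : s.el α β t u γ' ∈ cj(g, s.K) := by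
  have := mul_mem h (hX (c_X _ (γ + γ')))
  rwa [s.el_c, ← add_assoc, CharTwo.add_self_eq_zero, zero_add] at this

theorem split {r u : G} (hr : r ∈ s.K) (r2 : ∃ j : ℕ, r ^ 2 ^ j = 1) (hu : u ∈ s.QA)
    (h : r * u ∈ cj(g, s.K)) : u ∈ cj(g, s.K) ∧ r = 1 := by
  obtain ⟨α, β, t, v, γ, rfl⟩ := s.mem_QA.1 hu
  have h1 := mul_mem (inv_mem h) (s.cj_mem (hN hX) h)
  have c1 := (s.comm_K s.mem'.2.2.2.1 hr).eq
  rw [show (r * s.el α β t v γ)⁻¹ * (s.h * (r * s.el α β t v γ) * s.h⁻¹) =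
    (s.el α β t v γ)⁻¹ * r⁻¹ * (s.h * r) * s.el α β t v γ * s.h⁻¹ by group, c1,
    show (s.el α β t v γ)⁻¹ * r⁻¹ * (r * s.h) * s.el α β t v γ * s.h⁻¹ =
    (s.el α β t v γ)⁻¹ * (s.h * s.el α β t v γ * s.h⁻¹) by group, s.h_el, s.el_inv, s.el_mul] at h1
  have h2 := s.cj_mem (hN hX) h1
  rw [s.h_el, f4, f4, f4, f4] at h2
  have h3 := el_c hX h2 γ
  exact ⟨h3, s.inter (gN one_ne_zero (e1 hX)) hr ((mul_mem_cancel_right h3).1 h) r2⟩

theorem not_ab (ha : s.a 1 ∈ cj(g, s.K)) (hb : s.b 1 ∈ cj(g, s.K)) : False := by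
  have hn : ∀ {a b : F → G} {n : G}, s.Sl a b n → a 1 ∈ cj(g, s.K) → n ∈ cj(g, s.N) := by
    intro a b n hs h
    obtain ⟨-, -, -, -, -, -, -, n2, h1, -⟩ := hs.facts
    refine s.ti' (e1 hX) (add_sq s.c_add 1) (c_ne _ one_ne_zero) ?_
    rwa [inv_eq_of_mul_eq_one_right n2, (h1 1).2]
  have hA : s.A ≤ cj(g, s.N) := s.gen _ (DN one_ne_zero (e1 hX)) (hn (.inl ⟨rfl, rfl, rfl⟩) ha)
    (hn (.inr ⟨rfl, rfl, rfl⟩) hb)
  rw [← s.normK, cj_norm] at hA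
  rcases s.std.1.le_or_inf_le_centralizer hA with h | h
  · refine s.std.2.2.1 g (fun e => gN one_ne_zero (e1 hX) (cj_eq_iff.1 e)) (comm_eq_bot_iff.2 ?_)
    rwa [cj_cent] at h
  · exact c_ne s.toLt one_ne_zero (s.eq_one_of_K (c_QA _ 1) (h ⟨e1 hX, (s.mem 1).2.2.1⟩))

theorem fin {R B : Subgroup G} (hR : R ≤ s.K) (pR : IsPGroup 2 R) (ab : R ≤ 𝐂[R]) (hB : B ≤ s.QA) :
    Nat.card R * Nat.card B ≤ (if m then 512 else 32) * Nat.card ↥(B ⊓ cj(g, s.K)) := by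
  have hn : R ≤ 𝐍[B] := norm_of_cent (hR.trans (cent_anti (hB.trans (QA_A _))))
  have h0 : R ⊓ B = ⊥ := eq_bot_iff.2 fun x hx => mem_bot.2 (s.eq_one_of_K (hB hx.2) (hR hx.1))
  have h1 : (R ⊔ B) ⊓ cj(g, s.K) = B ⊓ cj(g, s.K) := by
    refine le_antisymm (fun x hx => ⟨?_, hx.2⟩) (inf_le_inf_right _ le_sup_right)
    obtain ⟨r, hr, u, hu, rfl⟩ := (mem_sup_norm' hn).1 hx.1
    rw [(split hX (hR hr) (pg_iff.1 pR r hr) (hB hu) hx.2).2, one_mul]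
    exact hu
  rw [← GT.PG.card_sup_of_inf_eq_bot hn h0, ← h1]
  refine s.bound' (pg_sup pR (s.pg_QA.to_le hB) hn) (sup_le (hR.trans (KN one_ne_zero (e1 hX)))
    (hB.trans (s.QA_le_D.trans (DN one_ne_zero (e1 hX))))) fun p hp q hq => ?_
  obtain ⟨r, hr, u, hu, rfl⟩ := (mem_sup_norm' hn).1 hp
  obtain ⟨r', hr', u', hu', rfl⟩ := (mem_sup_norm' hn).1 hq
  obtain ⟨γ, e⟩ := s.comm_X (hB hu') (hB hu)
  have c1 : Commute u r' := s.comm_K (QA_A _ (hB hu)) (hR hr')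
  have c2 : Commute u' r := s.comm_K (QA_A _ (hB hu')) (hR hr)
  have c3 : Commute r r' := mem_cent.1 (ab hr') r hr
  have c4 : Commute (s.c γ) r := s.comm_K (s.mem γ).2.2.1 (hR hr)
  have e2 : r * u * (r' * u') * (r * u)⁻¹ = r' * u' * s.c γ := by
    rw [show r * u * (r' * u') * (r * u)⁻¹ = r * (u * r') * u' * u⁻¹ * r⁻¹ by group, c1.eq,
      show r * (r' * u) * u' * u⁻¹ * r⁻¹ = r * r' * (u * u' * u⁻¹) * r⁻¹ by group, e, c3.eq,
      mul_assoc r', ← (c2.mul_left c4).eq]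
    group
  have c5 : s.c γ * (r' * u')⁻¹ = (r' * u')⁻¹ * s.c γ :=
    ((s.comm_K (s.mem γ).2.2.1 (hR hr')).mul_right (c_comm _ γ (hB hu'))).inv_right.eq
  rw [e2, mul_assoc, c5, mul_inv_cancel_left]
  exact hX (c_X _ γ)

theorem ex_Y : ∃ u ∈ s.QA, u ∈ cj(g, s.K) ∧ u ∉ s.X := by
  by_contra h
  push Not at h
  obtain ⟨p, hp, q, hq, p2, q2, hc, p1, q1, pq⟩ := s.four
  have h1 := fin hX (R := zpowers p ⊔ zpowers q) (sup_le (zpowers_le.2 hp) (zpowers_le.2 hq))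
    (pg_sup (pg_inv p2) (pg_inv q2) (norm_of_cent (zc hc)))
    (sup_le (le_cent_sup (zc (Commute.refl p)) (zc hc)) (le_cent_sup (zc hc.symm) (zc (Commute.refl q)))) le_rfl
  have h2 : Nat.card ↥(s.QA ⊓ cj(g, s.K)) ≤ Nat.card s.X := card_le_of_le fun u hu => h u hu.1 hu.2
  have h3 := three (R := zpowers p ⊔ zpowers q) (mem_sup_left (mem_zpowers p)) (mem_sup_right (mem_zpowers q))
    p1 q1 pq
  rw [s.card_X] at h2
  rw [s.card_QA] at h1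
  cases m <;> simp only [Bool.false_eq_true, ↓reduceIte] at h1 <;> omega

theorem a_all {a b : F → G} {n : G} (hs : s.Sl a b n) {α : F} (h0 : α ≠ 0) (h : a α ∈ cj(g, s.K)) :
    a 1 ∈ cj(g, s.K) := by
  obtain ⟨ha, -, -, -, -, -, -, -, -, -, -, -, hh⟩ := hs.facts
  exact spread (add_zero' ha) (hN hX) (fun t => (hh t).1) h (fun t => f1 α t h0) 1

end Two

theorem case_true {s : Std true G} (hX : s.X ≤ cj(g, s.K)) : False := by
  have key : ∀ α γ : F, α ≠ 0 → s.el α 0 0 0 γ ∉ cj(g, s.K) := fun α γ h0 h => by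
    have h1 := a_all hX (.inl ⟨rfl, rfl, rfl⟩) h0 ((s.el_letters α).1 ▸ el_c hX h 0)
    have h2 := s.cj_mem (DN one_ne_zero (e1 hX) (s.letters_mem 1).2.2.2.2.2.2) h1
    rw [inv_eq_of_mul_eq_one_right s.nn.2.2, ((s.wact rfl).2.2 1).1] at h2
    exact not_ab hX h1 h2
  have step : ∀ τ α β t u γ : F, s.el α β t u γ ∈ cj(g, s.K) →
      s.el (τ ^ 3 * β + τ ^ 2 * t + τ * u) 0 (τ * β) (τ ^ 2 * β) 0 ∈ cj(g, s.K) := fun τ α β t u γ h => by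
    obtain ⟨ε, e⟩ := s.x_el rfl τ α β t u γ
    have h1 := mul_mem h (e ▸ s.cj_mem (DN one_ne_zero (e1 hX) (s.letters_mem τ).2.2.2.2.2.1) h)
    rw [s.el_mul, ← add_assoc, ← add_assoc, ← add_assoc, ← add_assoc t, ← add_assoc u, CharTwo.add_self_eq_zero,
      CharTwo.add_self_eq_zero, CharTwo.add_self_eq_zero, CharTwo.add_self_eq_zero, zero_add, zero_add,
      zero_add] at h1
    exact el_c hX h1 0
  obtain ⟨u, hu, h, hu'⟩ := ex_Y hX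
  obtain ⟨α, β, t, v, γ, rfl⟩ := s.mem_QA.1 hu
  by_cases hβ : β = 0
  · subst hβ
    rcases f6 t v with ⟨rfl, rfl⟩ | ⟨τ, hτ⟩
    · refine key α γ (fun e => hu' ?_) h
      rw [e, ← (s.el_letters γ).2.2.2.2]
      exact c_X _ γ
    · have h1 := step τ _ _ _ _ _ h
      rw [mul_zero τ, mul_zero (τ ^ 2)] at h1
      exact key _ _ hτ h1
  · have h1 := step ω _ _ _ _ _ (step 1 _ _ _ _ _ h)
    rw [(f5 β).1, (f5 β).2.1, (f5 β).2.2] at h1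
    exact key _ _ hβ h1

/-- The span of an element of `QA` and of `X`. -/
def sp (l : Lt m G) (α β : F) : Subgroup G where
  carrier := {x | ∃ κ γ, x = l.el (κ * α) (κ * β) 0 0 γ}
  one_mem' := ⟨0, 0, by rw [zero_mul, zero_mul, l.el_zero]⟩
  mul_mem' := by
    rintro _ _ ⟨κ, γ, rfl⟩ ⟨κ', γ', rfl⟩
    exact ⟨κ + κ', _, by rw [l.el_mul, add_mul, add_mul, add_zero]⟩
  inv_mem' := by
    rintro _ ⟨κ, γ, rfl⟩
    exact ⟨κ, _, l.el_inv _ _ _ _ _⟩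

theorem case_false {s : Std false G} (hX : s.X ≤ cj(g, s.K)) : False := by
  obtain ⟨u, hu, h, hu'⟩ := ex_Y hX
  obtain ⟨α, β, t, v, γ, rfl⟩ := s.mem_QA.1 hu
  rw [s.el_em, show em false = 0 from rfl, zero_mul, zero_mul] at h hu'
  have h0 : ¬ (α = 0 ∧ β = 0) := by
    rintro ⟨rfl, rfl⟩
    exact hu' ((s.el_letters γ).2.2.2.2 ▸ c_X _ γ)
  have hB : sp s.toLt α β ≤ cj(g, s.K) := by
    rintro _ ⟨κ, ε, rfl⟩
    have h1 := s.cj_mem (hN hX) h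
    rw [s.h_el, mul_zero] at h1
    have h2 := s.cj_mem (hN hX) h1
    rw [s.h_el, mul_zero, ← mul_assoc, ← mul_assoc] at h2
    rcases f8 κ with rfl | rfl | rfl | rfl
    · rw [zero_mul, zero_mul, ← (s.el_letters ε).2.2.2.2]
      exact hX (c_X _ ε)
    · rw [one_mul, one_mul]
      exact el_c hX h ε
    · exact el_c hX h1 ε
    · exact el_c hX h2 ε
  have hQ : sp s.toLt α β ≤ s.QA := by
    rintro _ ⟨κ, ε, rfl⟩
    exact s.el_mem _ _ _ _ _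
  have hab : sp s.toLt α β ≤ 𝐂[sp s.toLt α β] := by
    rintro _ ⟨κ, ε, rfl⟩
    refine mem_cent.2 ?_
    rintro _ ⟨κ', ε', rfl⟩
    rw [s.el_mul, s.el_mul, add_comm (κ' * α), add_comm (κ' * β)]
    congr 1
    ring
  have hc : 16 ≤ Nat.card (sp s.toLt α β) := by
    have := Nat.card_le_card_of_injective
      (fun x : F × F => (⟨s.el (x.1 * α) (x.1 * β) 0 0 x.2, x.1, x.2, rfl⟩ : sp s.toLt α β)) fun x y e => by
        obtain ⟨e1, e2, -, -, e3⟩ := s.el_inj (congrArg Subtype.val e)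
        exact Prod.ext (f7 α β _ _ h0 e1 e2) e3
    rwa [Nat.card_prod, Nat.card_eq_fintype_card, show Fintype.card F = 4 by decide +kernel] at this
  have key : ∀ {a b : F → G} {n : G}, s.Sl a b n → a 1 ∈ cj(g, s.K) := by
    intro a b n hs
    by_contra ha
    obtain ⟨hadd, -, -, hq, -, hi, -⟩ := hs.facts
    have h1 := fin hX (R := cj(g⁻¹, sp s.toLt α β)) (B := rg a hadd) (le_cj_iff_inv_le.1 hB)
      (pg_cj (s.pg_QA.to_le hQ) _) (by rw [← cj_cent]; exact cj_mono _ hab)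
      (by rintro _ ⟨t, rfl⟩; exact (hq t).1)
    have h2 : rg a hadd ⊓ cj(g, s.K) = ⊥ := by
      refine eq_bot_iff.2 ?_
      rintro _ ⟨⟨t, rfl⟩, h2⟩
      by_cases ht : t = 0
      · rw [ht, add_zero' hadd]
        exact one_mem _
      · exact absurd (a_all hX hs ht h2) ha
    have hne : ∀ t, t ≠ 0 → a t ≠ 1 := fun t ht e =>
      ht (hi t 0 (by rw [e, add_zero' s.c_add, one_mul])).1
    have h3 := three (R := rg a hadd) (p := a 1) (q := a ω) ⟨1, rfl⟩ ⟨ω, rfl⟩ (hne _ one_ne_zero)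
      (hne _ (by decide +kernel)) fun e => hne (1 + ω) (by decide +kernel) (by rw [hadd, e, add_sq hadd])
    rw [h2, card_cj, card_bot] at h1
    have h4 := Nat.mul_le_mul hc h3
    simp at h1
    omega
  exact not_ab hX (key (.inl ⟨rfl, rfl, rfl⟩)) (key (.inr ⟨rfl, rfl, rfl⟩))

end P1C

theorem Std.long (s : Std m G) : ∀ t, t ≠ 0 → ¬ s.InT (s.c t) := by
  rintro t ht ⟨g, hg⟩
  have hX : s.X ≤ cj(g⁻¹, s.K) := P1C.X_le ht (mem_cj.2 (by rwa [inv_inv]))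
  cases m
  · exact P1C.case_false hX
  · exact P1C.case_true hX

end Cfsg.Agent.STA
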