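import Mathlib
import Cfsg.Agent.STA.P1C

/-! Some conjugate of an involution of `K` acts on `A` as a long root element (PLAN1: P1D). -/

set_option autoImplicit false
set_option linter.unusedSectionVars false

namespace Cfsg.Agent.STA

open Cfsg Cfsg.Agent.Loc.Mss Subgroup

variable {m : Bool} {G : Type*} [Group G] [Finite G]

namespace P1D

open P1C

theorem g1 : ∀ δ : F, δ ≠ 0 → ω * δ ≠ 0 ∧ ω * δ ≠ δ := by decide +kernel

theorem g2 : ∀ κ ε : F, κ ≠ 0 → ∃ x : F, x * (κ * x) = ε := by decide +kernel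

theorem g3 : ∀ κ x : F, κ ≠ 0 → κ ^ 2 * (κ * x) = x := by decide +kernel

/-- Two vectors orthogonal to a given one, spanning an anisotropic plane over `F₂`. -/
def Ok (α β t u : F) (p q : F × F × F × F) : Prop :=
  p.1 * β + p.2.1 * α + (p.2.2.1 * u + p.2.2.2 * t) = 0 ∧ q.1 * β + q.2.1 * α + (q.2.2.1 * u + q.2.2.2 * t) = 0 ∧
    p.2.1 * p.1 + p.2.2.2 * p.2.2.1 ≠ 0 ∧ q.2.1 * q.1 + q.2.2.2 * q.2.2.1 ≠ 0 ∧
    (p.2.1 + q.2.1) * (p.1 + q.1) + (p.2.2.2 + q.2.2.2) * (p.2.2.1 + q.2.2.1) ≠ 0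

instance (α β t u : F) (p q : F × F × F × F) : Decidable (Ok α β t u p q) := by
  unfold Ok; infer_instance

theorem g4 : ∀ α β t u : F, (α = 0 ∧ β = 0 ∧ t = 0 ∧ u = 0) ∨
    Ok α β t u (0, α ^ 2 * (t + u), 1, 1) (0, α ^ 2 * ω * (t + u), ω, ω) ∨
    Ok α β t u (β ^ 2 * (t + u), 0, 1, 1) (β ^ 2 * ω * (t + u), 0, ω, ω) ∨
    Ok α β t u (1, 1, 0, t ^ 2 * (α + β)) (ω, ω, 0, t ^ 2 * ω * (α + β)) ∨
    Ok α β t u (1, 1, u ^ 2 * (α + β), 0) (ω, ω, u ^ 2 * ω * (α + β), 0) := by decide +kernel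

theorem ncard_two {L H : Set G} (h : ∀ p ∈ L, ∀ q ∈ L, p ∈ H ∨ q ∈ H ∨ p * q ∈ H) :
    L.ncard ≤ 2 * H.ncard := by
  by_cases hL : L ⊆ H
  · exact (Set.ncard_le_ncard hL).trans (by omega)
  · obtain ⟨p, hp, hp'⟩ := Set.not_subset.1 hL
    have h1 : L ⊆ H ∪ (fun x => p⁻¹ * x) '' H := fun q hq => by
      rcases h p hp q hq with h | h | h
      · exact absurd h hp'
      · exact .inl h
      · exact .inr ⟨_, h, inv_mul_cancel_left _ _⟩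
    have h2 := Set.ncard_le_ncard h1
    have h3 := Set.ncard_union_le H ((fun x => p⁻¹ * x) '' H)
    have h4 : ((fun x => p⁻¹ * x) '' H).ncard ≤ H.ncard := Set.ncard_image_le
    omega

theorem mem_zp {r z : G} (h : r * r = 1) (hz : z ∈ zpowers r) : z = 1 ∨ z = r := by
  obtain ⟨i, rfl⟩ := mem_zpowers_iff.1 hz
  have h2 : r ^ (2 : ℤ) = 1 := by rw [zpow_two, h]
  rcases Int.even_or_odd' i with ⟨k, rfl | rfl⟩
  · exact .inl (by rw [zpow_mul, h2, one_zpow])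
  · exact .inr (by rw [zpow_add, zpow_mul, h2, one_zpow, one_mul, zpow_one])

theorem sqX (l : Lt m G) {u : G} (hu : u ∈ l.QA) : ∃ ε, u * u = l.c ε := by
  obtain ⟨α, β, t, v, γ, rfl⟩ := l.mem_QA.1 hu
  exact ⟨_, l.el_sq _ _ _ _ _⟩

theorem cc (l : Lt m G) (γ δ : F) : l.c γ * l.c (γ + δ) = l.c δ := by
  rw [l.c_add, ← mul_assoc, add_sq l.c_add, one_mul]

theorem mulc (l : Lt m G) (v : G) {v' : G} (h : v' ∈ l.QA) (ε ε' : F) :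
    v * l.c ε * (v' * l.c ε') = v * v' * l.c (ε + ε') := by
  rw [l.c_add, mul_assoc, ← mul_assoc (l.c ε), (c_comm l ε h).eq]
  group

theorem swap (l : Lt m G) {u w : G} (hu : u ∈ l.QA) (hw : w ∈ l.QA) : ∃ ε, w * u = u * w * l.c ε := by
  obtain ⟨ε, e⟩ := l.comm_X hu hw
  exact ⟨ε, by rw [mul_assoc, ← (c_comm l ε hw).eq, ← mul_assoc, ← e, inv_mul_cancel_right]⟩

def Goal (s : Std m G) : Prop := ∃ g' t', s.Pair g' t' ∧ s.Long t'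

def C0 (s : Std m G) (t : G) : Subgroup G := s.QA ⊓ centralizer {t}

variable {s : Std m G} {g t : G}

theorem mem_C0 {v : G} : v ∈ C0 s t ↔ v ∈ s.QA ∧ Commute v t :=
  and_congr Iff.rfl mem_centralizer_singleton_iff

theorem flip (h : s.Pair g t) {n e : G} (hn : n * t * n⁻¹ = t * e) (hl : s.Long (g⁻¹ * e * g)) : Goal s := by
  have hk : g⁻¹ * t * g ∈ s.K := mem_cj.1 h.mem
  have hl' := hl.mul hk
  have e1 : g⁻¹ * t * g * (g⁻¹ * e * g) = g⁻¹ * n * g * (g⁻¹ * t * g) * (g⁻¹ * n * g)⁻¹ := by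
    rw [show g⁻¹ * t * g * (g⁻¹ * e * g) = g⁻¹ * (t * e) * g by group, ← hn]
    group
  rw [e1] at hl'
  refine ⟨g⁻¹ * n * g, _, ⟨fun hN => hl'.norm.2 (s.cj_K hN hk), conj_mem_cj hk, hl'.norm.1,
    P1A.sq_conj ?_, fun e => hl'.norm.2 (e ▸ one_mem _)⟩, hl'⟩
  rw [show g⁻¹ * t * g * (g⁻¹ * t * g) = g⁻¹ * (t * t) * g by group, h.sq, mul_one, inv_mul_cancel]

theorem c_not (s : Std m G) (g : G) {ε : F} (h : ε ≠ 0) : g⁻¹ * s.c ε * g ∉ s.K :=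
  fun h' => s.long ε h ⟨g⁻¹, by rwa [inv_inv]⟩

theorem P0N (h : s.Pair g t) : cj(g⁻¹, C0 s t) ≤ s.N :=
  le_cj_iff_inv_le.1 fun _ hv => s.cen' h.mem h.sq h.ne (mem_C0.1 hv).2

theorem P0p (g : G) : IsPGroup 2 cj(g⁻¹, C0 s t) := pg_cj (s.pg_QA.to_le inf_le_left) _

theorem memP0 (g : G) {v : G} (hv : v ∈ C0 s t) : g⁻¹ * v * g ∈ cj(g⁻¹, C0 s t) := by
  have := conj_mem_cj (g := g⁻¹) hv
  rwa [inv_inv] at this

theorem out2' {s : Std true G} (h : s.Pair g t) {v v' : G} (hv : v ∈ C0 s t) (hv' : v' ∈ C0 s t) :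
    v ∈ cj(g, s.A ⊔ s.K) ∨ v' ∈ cj(g, s.A ⊔ s.K) ∨ v * v' ∈ cj(g, s.A ⊔ s.K) := by
  have := Std.out2 (P0p g) (P0N h) (memP0 g hv) (memP0 g hv')
  rw [show g⁻¹ * v * g * (g⁻¹ * v' * g) = g⁻¹ * (v * v') * g by group] at this
  simpa only [mem_cj] using this

theorem sqflip {s : Std true G} (h : s.Pair g t) {v n : G} {ε : F} (hv : v ∈ cj(g, s.A ⊔ s.K))
    (e : v * v = s.c ε) (hε : ε ≠ 0) (hn : n * t * n⁻¹ = t * s.c ε) : Goal s := by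
  have e1 : g⁻¹ * v * g * (g⁻¹ * v * g) = g⁻¹ * s.c ε * g := by
    rw [← e]
    group
  refine flip h hn (e1 ▸ Std.long_of_sq (mem_cj.1 hv) ?_ (e1 ▸ c_not s g hε))
  rw [e1, show g⁻¹ * s.c ε * g * (g⁻¹ * s.c ε * g) = g⁻¹ * (s.c ε * s.c ε) * g by group, add_sq s.c_add,
    mul_one, inv_mul_cancel]

theorem caseQK {s : Std true G} (h : s.Pair g t) (hq : s.QK t) : Goal s := by
  obtain ⟨u, hu, hk⟩ := hq
  obtain ⟨k, rfl⟩ : ∃ k, t = u * k := ⟨u⁻¹ * t, by group⟩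
  rw [inv_mul_cancel_left] at hk
  have hc : ∀ ε, (∃ w, w * (u * k) * w⁻¹ = u * k * s.c ε) ∨ Goal s := fun ε => by
    by_cases hX : u ∈ s.X
    · obtain ⟨γ, rfl⟩ := s.toLt.mem_X.1 hX
      refine .inr ⟨g, _, h, 1, one_mem _, γ, ?_, k, hk, ?_⟩
      · rintro rfl
        exact h.notK (by rwa [add_zero' s.c_add, one_mul])
      · rw [one_mul, inv_one, mul_one, (s.comm_K (s.mem γ).2.2.1 hk).eq]
    · obtain ⟨w, hw, e⟩ := s.comm_onto hu hX ε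
      refine .inl ⟨w, ?_⟩
      rw [show w * (u * k) * w⁻¹ = w * u * (k * w⁻¹) by group, ← (s.comm_K (QA_A _ (inv_mem hw)) hk).eq,
        ← mul_assoc, e, mul_assoc, (s.comm_K (s.mem ε).2.2.1 hk).eq, mul_assoc]
  by_contra hG
  obtain ⟨α, β, a, b, γ, rfl⟩ := s.mem_QA.1 hu
  have key : ∀ p q : F × F × F × F, ¬ Ok α β a b p q := by
    rintro ⟨p1, p2, p3, p4⟩ ⟨q1, q2, q3, q4⟩ ⟨h1, h2, h3, h4, h5⟩
    have hm : ∀ p1 p2 p3 p4 : F, p1 * β + p2 * α + (p3 * b + p4 * a) = 0 → s.el p1 p2 p3 p4 0 ∈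
        C0 s (s.el α β a b γ * k) := fun p1 p2 p3 p4 e => by
      refine mem_C0.2 ⟨s.el_mem _ _ _ _ _, Commute.mul_right ?_ (s.comm_K (QA_A _ (s.el_mem _ _ _ _ _)) hk)⟩
      have := s.el_conj p1 p2 p3 p4 0 α β a b γ
      rw [show em true = 1 from rfl, one_mul, add_assoc γ, add_assoc γ, e, add_zero] at this
      exact mul_inv_eq_iff_eq_mul.1 this
    have fin : ∀ p1 p2 p3 p4 ε : F, p2 * p1 + p4 * p3 ≠ 0 → s.el p1 p2 p3 p4 ε ∉ cj(g, s.A ⊔ s.K) :=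
      fun p1 p2 p3 p4 ε h0 hv => by
        obtain ⟨w, e⟩ := (hc (p2 * p1 + p4 * p3)).resolve_right hG
        refine hG (sqflip h hv ?_ h0 e)
        rw [s.el_sq, show em true = 1 from rfl, one_mul]
    rcases out2' h (hm _ _ _ _ h1) (hm _ _ _ _ h2) with h | h | h
    · exact fin _ _ _ _ _ h3 h
    · exact fin _ _ _ _ _ h4 h
    · rw [s.el_mul] at h
      exact fin _ _ _ _ _ h5 h
  rcases g4 α β a b with ⟨rfl, rfl, rfl, rfl⟩ | h' | h' | h' | h'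
  · obtain ⟨w, e⟩ := (hc 0).resolve_right hG
    rw [← (s.el_letters γ).2.2.2.2] at h
    refine hG ⟨g, _, h, 1, one_mem _, γ, ?_, k, hk, ?_⟩
    · rintro rfl
      exact h.notK (by rwa [add_zero' s.c_add, one_mul])
    · rw [one_mul, inv_one, mul_one, (s.comm_K (s.mem γ).2.2.1 hk).eq]
  all_goals exact key _ _ h'

theorem caseIn {s : Std true G} (h : s.Pair g t) (hX : t ∈ 𝐂[s.X]) : Goal s := by
  obtain ⟨d, hd, h1⟩ := Std.toU (pg_inv h.sq) (zpowers_le.2 h.norm) (zpowers_le.2 hX)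
  obtain ⟨u, hu, hk⟩ := h1 t (mem_zpowers t)
  obtain ⟨k, e⟩ : ∃ k, d * t * d⁻¹ = u * k := ⟨u⁻¹ * (d * t * d⁻¹), by group⟩
  rw [e, inv_mul_cancel_left] at hk
  have hD := s.U_le_D hu
  have u2 : u * u = 1 := by
    have h2 := P1A.sq_conj (n := d) h.sq
    rw [e, (s.comm_K (s.D_le_A hD) hk).symm.mul_mul_mul_comm] at h2
    refine s.DK (mul_mem hD hD) ?_
    rw [eq_inv_of_mul_eq_one_left h2]
    exact inv_mem (mul_mem hk hk)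
  obtain ⟨a, ha, h2⟩ := s.inv_U hu u2
  refine caseQK (h.conj (A_N _ (mul_mem ha (s.D_le_A hd)))) ⟨_, h2, ?_⟩
  rw [show a * d * t * (a * d)⁻¹ = a * (d * t * d⁻¹) * a⁻¹ by group, e,
    show (a * u * a⁻¹)⁻¹ * (a * (u * k) * a⁻¹) = a * k * a⁻¹ by group]
  exact s.cj_K (A_N _ ha) hk

section Out

variable {δ : F} (h : s.Pair g t) (hδ : δ ≠ 0) (hc : Commute t (s.c δ)) (hX : t ∉ 𝐂[s.X])
include h hδ hc hX

theorem fix {ε : F} (e : Commute t (s.c ε)) : ε = 0 ∨ ε = δ := by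
  by_contra h'
  push Not at h'
  have h1 := s.mov h.norm hδ hc hX h'.1 h'.2
  rw [e.eq, mul_inv_cancel_right, s.c_eq, left_eq_add] at h1
  exact hδ h1

theorem mv : t * s.c (ω * δ) * t⁻¹ = s.c (ω * δ + δ) := s.mov h.norm hδ hc hX (g1 δ hδ).1 (g1 δ hδ).2

theorem conjδ : s.c (ω * δ) * t * (s.c (ω * δ))⁻¹ = t * s.c δ := by
  rw [← cc s.toLt (ω * δ) δ, (add_commute s.c_add _ _).eq, ← mv h hδ hc hX, add_inv s.c_add,
    inv_eq_of_mul_eq_one_right h.sq, ← mul_assoc, ← mul_assoc, ← mul_assoc, h.sq, one_mul]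

theorem tQ {w : G} (hw : w ∈ s.QA) : t * w * t⁻¹ ∈ s.QA := conj_mem_of_norm (s.normX h.norm hδ hc).2 hw

theorem tt (w : G) : t * (t * w * t⁻¹) * t⁻¹ = w := by
  rw [show t * (t * w * t⁻¹) * t⁻¹ = t * t * w * (t * t)⁻¹ by group, h.sq, one_mul, inv_one, mul_one]

theorem lift {u : G} (hu : u ∈ s.QA) (e : ∃ ε, t * u * t⁻¹ = u * s.c ε) : ∃ v ∈ C0 s t, ∃ ε, u = v * s.c ε := by
  obtain ⟨ε, e⟩ := e
  have h1 : Commute t (s.c ε) := by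
    have h2 := tt h hδ hc hX u
    rw [e, show t * (u * s.c ε) * t⁻¹ = t * u * t⁻¹ * (t * s.c ε * t⁻¹) by group, e, mul_assoc,
      mul_eq_left, ← eq_inv_iff_mul_eq_one, ← inv_eq_iff_eq_inv, add_inv s.c_add, eq_comm] at h2
    exact mul_inv_eq_iff_eq_mul.1 h2
  rcases fix h hδ hc hX h1 with rfl | rfl
  · rw [add_zero' s.c_add, mul_one] at e
    exact ⟨u, mem_C0.2 ⟨hu, (mul_inv_eq_iff_eq_mul.1 e).symm⟩, 0, by rw [add_zero' s.c_add, mul_one]⟩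
  · refine ⟨u * s.c (ω * ε), mem_C0.2 ⟨mul_mem hu (c_QA _ _), (mul_inv_eq_iff_eq_mul.1 ?_).symm⟩, ω * ε,
      by rw [mul_assoc, add_sq s.c_add, mul_one]⟩
    rw [show t * (u * s.c (ω * ε)) * t⁻¹ = t * u * t⁻¹ * (t * s.c (ω * ε) * t⁻¹) by group, e, mv h hδ hc hX,
      mul_assoc, add_comm, cc]

theorem psi {w : G} (hw : w ∈ s.QA) : ∃ v ∈ C0 s t, ∃ ε, w * (t * w * t⁻¹) = v * s.c ε := by
  refine lift h hδ hc hX (mul_mem hw (tQ h hδ hc hX hw)) ?_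
  rw [show t * (w * (t * w * t⁻¹)) * t⁻¹ = t * w * t⁻¹ * (t * (t * w * t⁻¹) * t⁻¹) by group, tt h hδ hc hX]
  exact swap _ hw (tQ h hδ hc hX hw)

theorem back {w : G} (hw : w ∈ s.QA) (e : w * (t * w * t⁻¹) ∈ s.X) : ∃ ε, t * w * t⁻¹ = w * s.c ε := by
  obtain ⟨ε, e⟩ := s.toLt.mem_X.1 e
  obtain ⟨ε', e'⟩ := sqX s.toLt hw
  refine ⟨ε' + ε, mul_left_cancel (a := w) ?_⟩
  rw [e, ← mul_assoc, e', cc]

theorem psi_mul {p q : G} (hp : p ∈ s.QA) (hq : q ∈ s.QA) :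
    ∃ ε, p * q * (t * (p * q) * t⁻¹) = p * (t * p * t⁻¹) * (q * (t * q * t⁻¹)) * s.c ε := by
  obtain ⟨ε, e⟩ := swap s.toLt (tQ h hδ hc hX hp) hq
  refine ⟨ε, ?_⟩
  rw [show p * q * (t * (p * q) * t⁻¹) = p * (q * (t * p * t⁻¹)) * (t * q * t⁻¹) by group, e, mul_assoc p,
    mul_assoc _ (s.c ε), (c_comm s.toLt ε (tQ h hδ hc hX hq)).eq]
  group

theorem nondeg {v : G} (hv : v ∈ C0 s t) (hv' : v ∉ s.X) : ∃ y ∈ C0 s t, y * v * y⁻¹ = v * s.c δ := by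
  obtain ⟨hq, hvt⟩ := mem_C0.1 hv
  obtain ⟨w, hw, e⟩ := s.comm_onto hq hv' (ω * δ)
  obtain ⟨y, hy, ε, e'⟩ := psi h hδ hc hX hw
  refine ⟨y, hy, ?_⟩
  have h1 : t * w * t⁻¹ * v * (t * w * t⁻¹)⁻¹ = v * s.c (ω * δ + δ) := by
    rw [show t * w * t⁻¹ * v * (t * w * t⁻¹)⁻¹ = t * w * (t⁻¹ * (v * t)) * w⁻¹ * t⁻¹ by group, hvt.eq,
      inv_mul_cancel_left, show t * w * v * w⁻¹ * t⁻¹ = t * (w * v * w⁻¹) * t⁻¹ by group, e, ← mul_assoc,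
      ← hvt.eq, ← mv h hδ hc hX]
    group
  have h2 : w * (t * w * t⁻¹) * v * (w * (t * w * t⁻¹))⁻¹ = v * s.c δ := by
    rw [show w * (t * w * t⁻¹) * v * (w * (t * w * t⁻¹))⁻¹ =
      w * (t * w * t⁻¹ * v * (t * w * t⁻¹)⁻¹) * w⁻¹ by group, h1, ← mul_assoc, mul_assoc _ _ w⁻¹,
      (c_comm s.toLt _ (inv_mem hw)).eq, ← mul_assoc, e, mul_assoc, cc]
  rw [e', show y * s.c ε * v * (y * s.c ε)⁻¹ = y * (s.c ε * v * (s.c ε)⁻¹) * y⁻¹ by group,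
    (c_comm s.toLt ε hq).eq, mul_inv_cancel_right] at h2
  exact h2

end Out

theorem out_false {s : Std false G} {δ : F} (h : s.Pair g t) (hδ : δ ≠ 0) (hc : Commute t (s.c δ))
    (hX : t ∉ 𝐂[s.X]) : Goal s := by
  by_cases h0 : C0 s t ≤ s.X
  · refine absurd (s.qk_of h.norm fun u hu => ?_).cent.1 hX
    obtain ⟨v, hv, ε, e⟩ := psi h hδ hc hX hu
    obtain ⟨ε', e'⟩ := back h hδ hc hX hu (e ▸ mul_mem (h0 hv) (c_X _ ε))
    rw [e', ← (c_comm s.toLt ε' hu).eq, mul_inv_cancel_right]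
    exact c_X _ _
  obtain ⟨v, hv, hv'⟩ := SetLike.not_le_iff_exists.1 h0
  obtain ⟨y, hy, e⟩ := nondeg h hδ hc hX hv hv'
  have h1 := s.comm_inn (P0p g) (P0N h) (memP0 g hy) (memP0 g hv)
  rw [show g⁻¹ * y * g * (g⁻¹ * v * g) * (g⁻¹ * y * g)⁻¹ * (g⁻¹ * v * g)⁻¹ = g⁻¹ * (y * v * y⁻¹ * v⁻¹) * g by
    group, e, ← (c_comm s.toLt δ (mem_C0.1 hv).1).eq, mul_inv_cancel_right] at h1
  refine flip h (conjδ h hδ hc hX) (Std.long_of_inn h1 ?_ (c_not s g hδ))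
  rw [show g⁻¹ * s.c δ * g * (g⁻¹ * s.c δ * g) = g⁻¹ * (s.c δ * s.c δ) * g by group, add_sq s.c_add,
    mul_one, inv_mul_cancel]

theorem out_true {s : Std true G} {δ : F} (h : s.Pair g t) (hδ : δ ≠ 0) (hc : Commute t (s.c δ))
    (hX : t ∉ 𝐂[s.X]) : Goal s := by
  by_contra hG
  have hsq : ∀ v ∈ C0 s t, v ∈ cj(g, s.A ⊔ s.K) → v * v = 1 := fun v hv hi => by
    obtain ⟨hq, hvt⟩ := mem_C0.1 hv
    obtain ⟨ε, e⟩ := sqX s.toLt hq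
    rcases fix h hδ hc hX (ε := ε) (e ▸ (hvt.mul_left hvt).symm) with rfl | rfl
    · rw [e, add_zero' s.c_add]
    · exact absurd (sqflip h hi e hδ (conjδ h hδ hc hX)) hG
  have hab : ∀ v ∈ C0 s t, v ∈ cj(g, s.A ⊔ s.K) → ∀ y ∈ C0 s t, y ∈ cj(g, s.A ⊔ s.K) → y * v * y⁻¹ = v :=
    fun v hv hi y hy hi' => by
      have h1 := inv_eq_of_mul_eq_one_right (hsq _ (mul_mem hy hv) (mul_mem hi' hi))
      rw [mul_inv_rev, inv_eq_of_mul_eq_one_right (hsq _ hv hi), inv_eq_of_mul_eq_one_right (hsq _ hy hi')] at h1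
      rw [← h1, mul_inv_cancel_right]
  have hnd : ∀ v ∈ C0 s t, v ∈ cj(g, s.A ⊔ s.K) → v ∉ s.X → ∃ y ∈ C0 s t, y ∉ cj(g, s.A ⊔ s.K) ∧
      y * v * y⁻¹ = v * s.c δ := fun v hv hi hv' => by
    obtain ⟨y, hy, e⟩ := nondeg h hδ hc hX hv hv'
    refine ⟨y, hy, fun hi' => c_ne s.toLt hδ ?_, e⟩
    rwa [hab v hv hi y hy hi', left_eq_mul] at e
  have cl1 : ∀ v ∈ C0 s t, v ∈ cj(g, s.A ⊔ s.K) → v ∉ s.X → ∀ y ∈ C0 s t, y ∉ cj(g, s.A ⊔ s.K) →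
      y * v * y⁻¹ = v * s.c δ := fun v hv hi hv' y hy hy' => by
    obtain ⟨z, hz, hz', e⟩ := hnd v hv hi hv'
    have h1 := hab v hv hi _ (mul_mem hy hz) (((out2' h hy hz).resolve_left hy').resolve_left hz')
    rw [show y * z * v * (y * z)⁻¹ = y * (z * v * z⁻¹) * y⁻¹ by group, e, ← mul_assoc, mul_assoc _ _ y⁻¹,
      (c_comm s.toLt δ (inv_mem (mem_C0.1 hy).1)).eq, ← mul_assoc, ← eq_mul_inv_iff_mul_eq,
      add_inv s.c_add] at h1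
    exact h1
  have cl2 : ∀ v ∈ C0 s t, v ∈ cj(g, s.A ⊔ s.K) → ∀ v' ∈ C0 s t, v' ∈ cj(g, s.A ⊔ s.K) →
      v ∈ s.X ∨ v' ∈ s.X ∨ v * v' ∈ s.X := fun v hv hi v' hv' hi' => by
    by_contra h0
    push Not at h0
    obtain ⟨y, hy, hy', e⟩ := hnd v hv hi h0.1
    have e3 := cl1 _ (mul_mem hv hv') (mul_mem hi hi') h0.2.2 y hy hy'
    rw [show y * (v * v') * y⁻¹ = y * v * y⁻¹ * (y * v' * y⁻¹) by group, e, cl1 _ hv' hi' h0.2.1 y hy hy',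
      mulc _ _ (mem_C0.1 hv').1, mul_right_inj, s.c_eq, CharTwo.add_self_eq_zero] at e3
    exact hδ e3.symm
  let H1 : Set G := {u | ∃ v ∈ C0 s t, v ∈ cj(g, s.A ⊔ s.K) ∧ ∃ ε, u = v * s.c ε}
  let H2 : Set G := {u | ∃ v ∈ C0 s t, ∃ ε, u = v * s.c ε}
  let H3 : Set G := {w | w ∈ s.QA ∧ w * (t * w * t⁻¹) ∈ H1}
  have s1 : ∀ p ∈ H1, ∀ q ∈ H1, p ∈ (s.X : Set G) ∨ q ∈ (s.X : Set G) ∨ p * q ∈ (s.X : Set G) := by
    rintro _ ⟨v, hv, hi, ε, rfl⟩ _ ⟨v', hv', hi', ε', rfl⟩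
    rw [mulc _ _ (mem_C0.1 hv').1]
    exact (cl2 v hv hi v' hv' hi').imp (mul_mem · (c_X _ _)) (.imp (mul_mem · (c_X _ _)) (mul_mem · (c_X _ _)))
  have s2 : ∀ p ∈ H2, ∀ q ∈ H2, p ∈ H1 ∨ q ∈ H1 ∨ p * q ∈ H1 := by
    rintro _ ⟨v, hv, ε, rfl⟩ _ ⟨v', hv', ε', rfl⟩
    rw [mulc _ _ (mem_C0.1 hv').1]
    exact (out2' h hv hv').imp (⟨v, hv, ·, _, rfl⟩) (.imp (⟨v', hv', ·, _, rfl⟩) (⟨_, mul_mem hv hv', ·, _, rfl⟩))
  have s3 : ∀ p ∈ H3, ∀ q ∈ H3, p ∈ H2 ∨ q ∈ H2 ∨ p * q ∈ H2 := by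
    rintro p ⟨hp, hp'⟩ q ⟨hq, hq'⟩
    have hb : ∀ w ∈ s.QA, w * (t * w * t⁻¹) ∈ s.X → w ∈ H2 := fun w hw e =>
      lift h hδ hc hX hw (back h hδ hc hX hw e)
    refine (s1 _ hp' _ hq').imp (hb p hp) (.imp (hb q hq) fun e => hb _ (mul_mem hp hq) ?_)
    obtain ⟨ε, e'⟩ := psi_mul h hδ hc hX hp hq
    exact e' ▸ mul_mem e (c_X _ _)
  have s4 : ∀ p ∈ (s.QA : Set G), ∀ q ∈ (s.QA : Set G), p ∈ H3 ∨ q ∈ H3 ∨ p * q ∈ H3 := by
    intro p hp q hq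
    refine (s2 _ (psi h hδ hc hX hp) _ (psi h hδ hc hX hq)).imp (⟨hp, ·⟩) (.imp (⟨hq, ·⟩) ?_)
    rintro ⟨v, hv, hi, ε, e⟩
    obtain ⟨ε', e'⟩ := psi_mul h hδ hc hX hp hq
    exact ⟨mul_mem hp hq, v, hv, hi, ε + ε', by rw [e', e, s.c_add, mul_assoc]⟩
  have n1 := ncard_two s1
  have n2 := ncard_two s2
  have n3 := ncard_two s3
  have n4 := ncard_two s4
  have e1 : (s.X : Set G).ncard = 4 := (Nat.card_coe_set_eq _).symm.trans s.card_X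
  have e2 : (s.QA : Set G).ncard = 1024 := (Nat.card_coe_set_eq _).symm.trans s.card_QA
  omega

theorem sw_conj {s : Std false G} (t2 : t * t = 1) (hX : t ∈ 𝐂[s.X]) (h : s.Sw t) (ε : F) :
    ∃ u ∈ s.QA, u * t * u⁻¹ = t * s.c ε := by
  obtain ⟨κ, hκ, h⟩ := h
  obtain ⟨x, rfl⟩ := g2 κ ε hκ
  obtain ⟨δ1, e1⟩ := (h x).1
  obtain ⟨δ2, e2⟩ := (h (κ * x)).2
  rw [g3 κ x hκ] at e2
  have hc : ∀ γ, Commute (s.c γ) t := s.mem_cX.1 hX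
  have ha := (s.letters_mem x).1
  have hb := (s.letters_mem (κ * x)).2.1
  have e3 : δ1 = δ2 := by
    have h1 : t * (t * s.a x * t⁻¹) * t⁻¹ = s.a x := by
      rw [show t * (t * s.a x * t⁻¹) * t⁻¹ = t * t * s.a x * (t * t)⁻¹ by group, t2, one_mul, inv_one, mul_one]
    rw [e1, show t * (s.b (κ * x) * s.c δ1) * t⁻¹ = t * s.b (κ * x) * t⁻¹ * (t * s.c δ1 * t⁻¹) by group, e2,
      ← (hc δ1).eq, mul_inv_cancel_right, mul_assoc, mul_eq_left, ← s.c_add] at h1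
    exact (CharTwo.add_eq_zero.1 (s.c_inj _ h1)).symm
  have e4 : t * (s.a x * s.b (κ * x)) * t⁻¹ = s.a x * s.b (κ * x) * s.c (x * (κ * x)) := by
    rw [show t * (s.a x * s.b (κ * x)) * t⁻¹ = t * s.a x * t⁻¹ * (t * s.b (κ * x) * t⁻¹) by group, e1, e2,
      mulc _ _ ha, e3, CharTwo.add_self_eq_zero, add_zero' s.c_add, mul_one, s.ba]
  refine ⟨(s.a x * s.b (κ * x))⁻¹, inv_mem (mul_mem ha hb), ?_⟩
  rw [inv_inv, mul_assoc, mul_inv_eq_iff_eq_mul.1 e4, mul_assoc _ _ t, inv_mul_cancel_left, (hc _).eq]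

theorem main_false {s : Std false G} {T : Subgroup G} {δ : F} (h : s.Pair g t)
    (hT : Syl 2 T (cj(g, s.K) ⊓ s.N)) (ht : t ∈ T) (hδ : δ ≠ 0) (hc : ∀ p ∈ T, Commute p (s.c δ)) :
    Goal s := by
  by_contra hG
  have pair : ∀ p ∈ T, p * p = 1 → p ≠ 1 → s.Pair g p := fun p hp p2 p1 =>
    ⟨h.not, (hT.le hp).1, (hT.le hp).2, p2, p1⟩
  have ninn : ∀ p ∈ T, p ∈ s.A ⊔ s.K → p = 1 := fun p hp hi =>
    P1A.eq_one_of_two (K := T ⊓ (s.A ⊔ s.K)) (fun k hk k2 => by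
      by_contra k1
      exact hG ⟨g, k, pair k hk.1 k2 k1, Std.long_of_inn hk.2 k2 (pair k hk.1 k2 k1).notK⟩) ⟨hp, hi⟩
      (pg_iff.1 hT.pg p hp)
  have sq : ∀ p ∈ T, p * p = 1 := fun p hp =>
    ninn _ (mul_mem hp hp) (s.sq_inn (hT.le hp).2 (pg_iff.1 hT.pg p hp))
  have TX : T ≤ 𝐂[s.X] := fun p hp => by
    by_contra hX
    exact hG (out_false (pair p hp (sq p hp) fun e => hX (e ▸ one_mem _)) hδ (hc p hp) hX)
  have T2 : ∀ p ∈ T, p = 1 ∨ p = t := fun p hp => by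
    rcases Std.two' hT.pg (hT.le.trans inf_le_right) TX hp ht with h1 | h1 | h1
    · exact .inl (ninn p hp h1.cent.2)
    · exact absurd (ninn t ht h1.cent.2) h.ne
    · exact .inr ((eq_inv_of_mul_eq_one_left (ninn _ (mul_mem hp ht) h1.cent.2)).trans
        (inv_eq_of_mul_eq_one_right h.sq))
  have cT : Nat.card T ≤ 2 := by
    have := Fintype.ofFinite T
    rw [Nat.card_eq_fintype_card]
    by_contra h3
    obtain ⟨a, b, c, h1, h2, h3⟩ := Fintype.two_lt_card_iff.1 (not_le.1 h3)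
    rw [Ne, Subtype.ext_iff] at h1 h2 h3
    rcases T2 a a.2 with e1 | e1 <;> rcases T2 b b.2 with e2 | e2 <;> rcases T2 c c.2 with e3 | e3 <;>
      simp_all
  have hsw : s.Sw t := (Std.qk_or_sw h.norm (TX ht) (sq2 h.sq)).resolve_left fun h1 => h.ne (ninn t ht h1.cent.2)
  have tK : zpowers t ≤ 𝐍[s.K] := zpowers_le.2 (s.normK ▸ h.norm)
  obtain ⟨S, hS, hS'⟩ := Syl.exists_ge (L := s.K ⊔ zpowers t) (pg_inv h.sq) le_sup_right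
  have hR : Syl 2 (S ⊓ s.K) s.K := hS'.inf le_sup_left (hS'.le.trans (sup_le le_normalizer tK))
  have hlt : S ⊓ centralizer {t} < S := by
    refine lt_of_le_of_ne inf_le_left fun e => ?_
    have h1 := s.big h.not hR.pg hR.le (fun p hp => s.cen' h.mem h.sq h.ne
      (mem_centralizer_singleton_iff.1 (e.ge hp.1).2)) hT
    have hR' : Syl 2 (S ⊓ s.K) cj((1 : G), s.K) := by rwa [cj_one]
    obtain ⟨p, hp, -, p2, p1, -⟩ := s.four_in hR' (one_mem _) (mul_one 1)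
    obtain ⟨q, hq, -, -, q1, pq⟩ := s.four_in hR' hp p2
    have h2 := three hq hp q1 p1 pq
    omega
  have := hS'.pg.isNilpotent
  obtain ⟨x, hx, hx', hxn⟩ := GT.PG.exists_mem_normalizer_notMem hlt
  obtain ⟨n, hn, z, hz, rfl⟩ := (mem_sup_norm tK).1 (hS'.le hx)
  have hzt : Commute z t := by
    obtain ⟨i, rfl⟩ := hz
    exact (Commute.refl t).zpow_left i
  have e0 : n * z * t * (n * z)⁻¹ = n * t * n⁻¹ := by
    rw [show n * z * t * (n * z)⁻¹ = n * (z * t * z⁻¹) * n⁻¹ by group, hzt.eq, mul_inv_cancel_right]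
  have h1 : Commute (n * t * n⁻¹) t := mem_centralizer_singleton_iff.1
    (e0 ▸ conj_mem_of_norm hxn ⟨hS (mem_zpowers t), mem_centralizer_singleton_iff.2 rfl⟩).2
  obtain ⟨r, er⟩ : ∃ r, n * t * n⁻¹ = t * r := ⟨t⁻¹ * (n * t * n⁻¹), by group⟩
  have rK : r ∈ s.K := by
    rw [show r = t⁻¹ * n * t⁻¹⁻¹ * n⁻¹ by rw [inv_inv, mul_assoc, mul_assoc, ← mul_assoc n, er]; group]
    exact mul_mem (s.cj_K (inv_mem h.norm) hn) (inv_mem hn)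
  have rt : Commute r t := by
    rw [er] at h1
    exact mul_left_cancel (a := t) (by rw [← mul_assoc, h1.eq])
  have r2 : r * r = 1 := by
    have h2 := P1A.sq_conj (n := n) h.sq
    rwa [er, rt.mul_mul_mul_comm, h.sq, one_mul] at h2
  have r1 : r ≠ 1 := fun e => hx' ⟨hx, mem_centralizer_singleton_iff.2 (by
    rw [er, e, mul_one] at e0
    exact mul_inv_eq_iff_eq_mul.1 e0)⟩
  have rX : zpowers r ≤ 𝐍[s.X] := norm_of_cent (zpowers_le.2 (s.K_le_cX rK))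
  have hBt : ∀ y ∈ s.X ⊔ zpowers r, y * y = 1 ∧ Commute y t ∧ y ∈ s.A ⊔ s.K ∧ ∃ n, n * t * n⁻¹ = t * y := by
    intro y hy
    obtain ⟨_, ⟨ε, rfl⟩, z, hz, rfl⟩ := (mem_sup_norm rX).1 hy
    obtain ⟨u, hu, e⟩ := sw_conj h.sq (TX ht) hsw ε
    have c1 : Commute (s.c ε) t := s.mem_cX.1 (TX ht) ε
    have c2 := s.comm_K (s.mem ε).2.2.1 rK
    rcases mem_zp r2 hz with rfl | rfl
    · rw [mul_one]
      exact ⟨add_sq s.c_add ε, c1, mem_sup_left (s.mem ε).2.2.1, u, e⟩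
    · refine ⟨by rw [c2.symm.mul_mul_mul_comm, add_sq s.c_add, r2, one_mul], c1.mul_left rt,
        mul_mem_sup (s.mem ε).2.2.1 rK, n * u, ?_⟩
      rw [show n * u * t * (n * u)⁻¹ = n * (u * t * u⁻¹) * n⁻¹ by group, e, ← mul_assoc, mul_assoc _ _ n⁻¹,
        (s.comm_K (s.mem ε).2.2.1 (inv_mem hn)).eq, ← mul_assoc, er, c2.eq, mul_assoc]
  obtain ⟨y', hy, y1, hi⟩ := s.out4 (P := cj(g⁻¹, s.X ⊔ zpowers r))
    (pg_cj (pg_sup' (s.pg_QA.to_le s.X_le_QA) (pg_inv r2) rX) _)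
    (le_cj_iff_inv_le.1 fun y hy => s.cen' h.mem h.sq h.ne (hBt y hy).2.1) (by
      rw [card_cj, ← s.card_X]
      by_contra h4
      have e := GT.PG.eq_of_le_of_card_le (le_sup_left : s.X ≤ s.X ⊔ zpowers r) (not_lt.1 h4)
      exact r1 (s.eq_one_of_K (s.X_le_QA (e.ge (mem_sup_right (mem_zpowers r)))) rK))
  obtain ⟨y, rfl⟩ : ∃ y, y' = g⁻¹ * y * g := ⟨g * y' * g⁻¹, by group⟩
  rw [mem_cj, show g⁻¹⁻¹ * (g⁻¹ * y * g) * g⁻¹ = y by group] at hy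
  obtain ⟨y2, yt, yi, n', e⟩ := hBt y hy
  by_cases hK : g⁻¹ * y * g ∈ s.K
  · have h2 : zpowers y ≤ T := hT.le_of_norm' (pg_inv y2)
      (zpowers_le.2 ⟨mem_cj.2 hK, sup_le (A_N _) (K_N _) yi⟩)
      (norm_of_cent (zpowers_le.2 (mem_cent.2 fun p hp => by
        rcases T2 p hp with rfl | rfl
        · rw [one_mul, mul_one]
        · exact yt.symm.eq)))
    exact y1 (by rw [ninn y (h2 (mem_zpowers y)) yi, mul_one, inv_mul_cancel])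
  · refine hG (flip h e (Std.long_of_inn hi ?_ hK))
    rw [show g⁻¹ * y * g * (g⁻¹ * y * g) = g⁻¹ * (y * y) * g by group, y2, mul_one, inv_mul_cancel]

end P1D

theorem Std.Pair.exists_long {s : Std m G} {g t : G} (h : s.Pair g t) : ∃ g' t', s.Pair g' t' ∧ s.Long t' := by
  cases m
  · obtain ⟨T, hT, hS⟩ := Syl.exists_ge (L := cj(g, s.K) ⊓ s.N) (P1C.pg_inv h.sq)
      (zpowers_le.2 ⟨h.mem, h.norm⟩)
    obtain ⟨n, hn, δ, hδ, hc⟩ := s.toC hS.pg (hS.le.trans inf_le_right)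
    have h1 := hS.cj n
    rw [cj_inf, cj_cj, cj_of_mem hn] at h1
    refine P1D.main_false (h.conj hn) h1 (conj_mem_cj (hT (mem_zpowers t))) hδ fun p hp => ?_
    have h2 := hc _ (mem_cj.1 hp)
    rwa [show n * (n⁻¹ * p * n) * n⁻¹ = p by group] at h2
  · obtain ⟨n, hn, δ, hδ, hc⟩ := s.toC (P1C.pg_inv h.sq) (zpowers_le.2 h.norm)
    by_cases hX : n * t * n⁻¹ ∈ 𝐂[s.X]
    · exact P1D.caseIn (h.conj hn) hX
    · exact P1D.out_true (h.conj hn) hδ (hc t (mem_zpowers t)) hX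

end Cfsg.Agent.STA
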