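import Mathlib
import Cfsg.Agent.STA.P1C
import Cfsg.Agent.STA.Model

/-! The configuration (PLAN1: P1E). -/

set_option autoImplicit false
set_option linter.unusedSectionVars false

namespace Cfsg.Agent.STA

open Cfsg Cfsg.Agent.Loc.Mss Subgroup

variable {m : Bool} {G : Type*} [Group G] [Finite G]

namespace P1E

theorem exists_cen {T : Subgroup G} (hT : IsPGroup 2 T) {t : G} (ht : t ∈ T) (h1 : t ≠ 1) :
    ∃ z ∈ T, z ≠ 1 ∧ ∀ p ∈ T, Commute p z := by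
  have : Nontrivial T := ⟨⟨⟨t, ht⟩, 1, fun e => h1 (congrArg Subtype.val e)⟩⟩
  have := hT.center_nontrivial
  obtain ⟨⟨z, hz⟩, h⟩ := exists_ne (1 : center T)
  exact ⟨z, z.2, fun e => h (Subtype.ext (Subtype.ext e)),
    fun p hp => congrArg Subtype.val (mem_center_iff.1 hz ⟨p, hp⟩)⟩

theorem le_of_card {A B : Subgroup G} (h : A ≤ B) (hc : Nat.card B ≤ Nat.card A) : B ≤ A :=
  (Subgroup.eq_of_le_of_card_ge h hc).ge

theorem card_rg {f : F → G} (h : ∀ s t, f (s + t) = f s * f t) (hi : ∀ s, f s = 1 → s = 0) :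
    Nat.card (rg f h) = 4 := by
  rw [← card_F]
  refine (Nat.card_congr (Equiv.ofBijective (fun s => (⟨f s, s, rfl⟩ : rg f h)) ⟨fun s t e => ?_, ?_⟩)).symm
  · have e' : f s = f t := congrArg Subtype.val e
    have := hi (s + t) (by rw [h, e', add_sq h])
    rwa [add_eq_zero_iff_eq_neg, CharTwo.neg_eq] at this
  · rintro ⟨_, s, rfl⟩
    exact ⟨s, rfl⟩

theorem four_le {P : Subgroup G} {k p : G} (hk : k ∈ P) (hp : p ∈ P) (k1 : k ≠ 1)
    (p2 : p * p = 1) (p1 : p ≠ 1) (ne : p ≠ k) : 4 ≤ Nat.card P := by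
  classical
  have h1 : p * k ≠ 1 := fun e => ne (mul_left_cancel (a := p) (p2.trans e.symm))
  have h2 : p * k ≠ k := fun e => p1 (mul_right_cancel (e.trans (one_mul k).symm))
  have h3 : p * k ≠ p := fun e => k1 (mul_left_cancel (e.trans (mul_one p).symm))
  have : ({1, k, p, p * k} : Finset G).card = 4 := by
    rw [Finset.card_insert_of_notMem, Finset.card_insert_of_notMem, Finset.card_pair h3.symm]
    · simp only [Finset.mem_insert, Finset.mem_singleton, not_or]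
      exact ⟨ne.symm, h2.symm⟩
    · simp only [Finset.mem_insert, Finset.mem_singleton, not_or]
      exact ⟨k1.symm, p1.symm, h1.symm⟩
  rw [← this, ← Set.ncard_coe_finset]
  refine Set.ncard_le_ncard (t := (P : Set G)) ?_
  intro x hx
  simp only [Finset.coe_insert, Finset.coe_singleton, Set.mem_insert_iff, Set.mem_singleton_iff] at hx
  rcases hx with rfl | rfl | rfl | rfl
  exacts [one_mem P, hk, hp, mul_mem hp hk]

variable {s : Std m G} {g : G}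

theorem cc (s : Std m G) (t : F) : s.c t * s.c t = 1 := add_sq s.c_add t

theorem cA (s : Std m G) (t : F) : s.c t ∈ s.A := (s.mem t).2.2.1

theorem notc {ε : F} (h : s.c ε ∈ cj(g, s.K)) : ε = 0 :=
  by_contra fun h0 => s.long ε h0 ⟨g⁻¹, by rw [inv_inv]; exact mem_cj.1 h⟩

theorem inf_QA (hQ : s.QA ≤ cj(g, s.N)) {u : G} (hu : u ∈ s.QA) (h : u ∈ cj(g, s.K)) : u = 1 := by
  by_cases hX : u ∈ s.X
  · obtain ⟨ε, rfl⟩ := s.toLt.mem_X.1 hX
    rw [notc h, add_zero' s.c_add]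
  · obtain ⟨w, hw, e⟩ := s.comm_onto hu hX 1
    have := s.cj_mem (hQ hw) h
    rw [e] at this
    exact absurd (notc ((mul_mem_cancel_left h).1 this)) one_ne_zero

/-- An element of `N` commuting with `k c δ` commutes with `c δ`. -/
theorem comm_c {p t : G} {δ : F} (hp : p ∈ s.N) (ht : s.c δ * t ∈ s.K) (h : Commute p t) :
    Commute p (s.c δ) := by
  have h1 : p * s.c δ * p⁻¹ ∈ s.A := conj_mem_of_norm hp (cA s δ)
  have h2 : p * s.c δ * p⁻¹ * s.c δ ∈ s.K := by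
    have := mul_mem (s.cj_K hp ht) (inv_mem ht)
    rwa [← conj_mul, h.eq, mul_inv_cancel_right, mul_inv_rev, mul_assoc, mul_inv_cancel_left,
      add_inv s.c_add] at this
  have h3 := s.comm_K h1 h2
  have h4 : p * s.c δ * p⁻¹ * (p * s.c δ * p⁻¹) = 1 := by rw [conj_mul, cc, mul_one, mul_inv_cancel]
  have h5 : s.c δ = p * s.c δ * p⁻¹ * (p * s.c δ * p⁻¹ * s.c δ) := by rw [← mul_assoc, h4, one_mul]
  have h6 := s.AK (mul_mem h1 (cA s δ)) h2 ⟨1, by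
    rw [pow_one, sq, ← mul_assoc, ← h3.eq, ← h5, cc]⟩
  rw [h6, mul_one] at h5
  exact mul_inv_eq_iff_eq_mul.1 h5.symm

theorem mem_XK (hQ : s.QA ≤ cj(g, s.N)) {p t : G} {δ : F} (hp : p ∈ cj(g, s.K) ⊓ s.N) (hδ : δ ≠ 0)
    (ht : s.c δ * t ∈ s.K) (h : Commute p t) : ∃ γ, s.c γ * p ∈ s.K := by
  have h1 := (s.normX hp.2 hδ (comm_c hp.2 ht h)).2
  refine s.kf.k3 hp.2 (mem_cent.2 fun u hu => ?_)
  have := inf_QA hQ (mul_mem (conj_mem_of_norm h1 hu) (inv_mem hu)) (by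
    have := mul_mem hp.1 (s.cj_mem (hQ hu) (inv_mem hp.1))
    rwa [show p * (u * p⁻¹ * u⁻¹) = p * u * p⁻¹ * u⁻¹ by group] at this)
  rw [mul_inv_eq_one, mul_inv_eq_iff_eq_mul] at this
  exact this.symm

theorem comm_of {p a : G} {γ : F} (h : s.c γ * p ∈ s.K) (ha : a ∈ s.A) (hc : Commute a (s.c γ)) :
    Commute a p := by
  have := hc.mul_right (s.comm_K ha h)
  rwa [← mul_assoc, cc, one_mul] at this

theorem QA_c (s : Std m G) {u : G} (hu : u ∈ s.QA) (γ : F) : Commute u (s.c γ) :=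
  (s.mem_cX.1 (s.D_le_cent (s.QA_le_D hu)) γ).symm

/-- The Sylow subgroups of `K` and of `K' ⊓ N`. -/
theorem exists_ρ {t : G} {δ : F} (h : s.Pair g t) (hδ : δ ≠ 0) (ht : s.c δ * t ∈ s.K) :
    ∃ (ρ : F → G) (hρ : ∀ s t, ρ (s + t) = ρ s * ρ t), (∀ s, ρ s = 1 → s = 0) ∧
      Syl 2 (rg ρ hρ) s.K ∧ ∀ γ, s.c γ * ρ γ ∈ cj(g, s.K) := by
  have hQ : s.QA ≤ cj(g, s.N) := fun u hu =>
    s.cen' h.mem h.sq h.ne (comm_of ht (s.D_le_A (s.QA_le_D hu)) (QA_c s hu δ))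
  have pg2 : ∀ {k : G}, k * k = 1 → IsPGroup 2 (zpowers k) := fun {k} hk => pg_iff.2 fun x hx => ⟨1, by
    obtain ⟨n, rfl⟩ := mem_zpowers_iff.1 hx
    rw [pow_one, ← zpow_natCast, ← zpow_mul, mul_comm, zpow_mul, zpow_natCast, sq, hk, one_zpow]⟩
  obtain ⟨T, hT1, hT⟩ := Syl.exists_ge (L := cj(g, s.K) ⊓ s.N) (pg2 h.sq) (zpowers_le.2 ⟨h.mem, h.norm⟩)
  have hK : ∀ p ∈ T, p ∈ s.K → p = 1 := fun p hp hk =>
    s.inter h.not hk (hT.le hp).1 (pg_iff.1 hT.pg p hp)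
  have htT := hT1 (mem_zpowers t)
  obtain ⟨z, hz, z1, hc⟩ := exists_cen hT.pg htT h.ne
  obtain ⟨γ, hγ⟩ := mem_XK hQ (hT.le hz) hδ ht (hc t htT).symm
  have γ0 : γ ≠ 0 := fun e => z1 (hK z hz (by rwa [e, add_zero' s.c_add, one_mul] at hγ))
  choose f hf using fun p : T => mem_XK hQ (hT.le p.2) γ0 hγ (hc p p.2)
  have inj : ∀ {p q : G} {ε : F}, p ∈ T → q ∈ T → s.c ε * p ∈ s.K → s.c ε * q ∈ s.K → p = q :=
    fun {p q ε} hp hq h1 h2 => inv_mul_eq_one.1 (hK _ (mul_mem (inv_mem hp) hq) (by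
      have := mul_mem (inv_mem h1) h2
      rwa [mul_inv_rev, mul_assoc, inv_mul_cancel_left] at this))
  have finj : Function.Injective f := fun p q e => Subtype.ext (inj p.2 q.2 (hf p) (e ▸ hf q))
  have hle : Nat.card T ≤ 4 := card_F ▸ Nat.card_le_card_of_injective f finj
  have cp : ∀ {p : G} {ε : F}, s.c ε * p ∈ s.K → ∀ ε', Commute (s.c ε') p := fun h ε' =>
    comm_of h (cA s ε') (add_commute s.c_add _ _)
  have sq : ∀ {p : G} {ε : F}, p ∈ T → s.c ε * p ∈ s.K →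
      p * p = 1 ∧ s.c ε * p * (s.c ε * p) = 1 := fun {p ε} hp h1 => by
    have e : s.c ε * p * (s.c ε * p) = p * p := by
      rw [(cp h1 ε).symm.mul_mul_mul_comm, cc, one_mul]
    have := hK _ (mul_mem hp hp) (e ▸ mul_mem h1 h1)
    exact ⟨this, e.trans this⟩
  have big : ∀ {p : G} {ε : F} {P : Subgroup G}, p ∈ T → p ≠ 1 → s.c ε * p ∈ s.K → IsPGroup 2 P →
      P ≤ s.K → Nat.card ↥(P ⊓ centralizer {s.c ε * p}) ≤ Nat.card T := fun {p ε P} hp p1 h1 hP hle =>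
    s.big h.not (hP.to_le inf_le_left) (inf_le_left.trans hle) (fun r hr => s.cen' (hT.le hp).1
      (sq hp h1).1 p1 (by
        have := (s.comm_K (cA s ε) (hle hr.1)).symm.mul_right
          (show Commute r (s.c ε * p) from mem_centralizer_singleton_iff.1 hr.2)
        rwa [← mul_assoc, cc, one_mul] at this)) hT
  have ne1 : ∀ {p : G} {ε : F}, p ∈ T → ε ≠ 0 → s.c ε * p ≠ 1 := fun {p ε} hp h0 e =>
    h0 (notc (g := g) (by rw [eq_inv_of_mul_eq_one_left e]; exact inv_mem (hT.le hp).1))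
  have h4 : 4 ≤ Nat.card T := by
    obtain ⟨R, hR1, hR⟩ := Syl.exists_ge (pg2 (sq htT ht).2) (zpowers_le.2 ht)
    obtain ⟨p, hp, c1, p2, p1, ne⟩ := s.four_in (g := 1) (by rwa [cj_one]) (hR1 (mem_zpowers _))
      (sq htT ht).2
    exact (four_le (P := R ⊓ centralizer {s.c δ * t}) ⟨hR1 (mem_zpowers _),
      mem_centralizer_singleton_iff.2 rfl⟩ ⟨hp, mem_centralizer_singleton_iff.2 c1⟩ (ne1 htT hδ)
      p2 p1 ne).trans (big htT h.ne ht hR.pg hR.le)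
  choose p hp using (finj.bijective_of_nat_card_le (card_F ▸ h4)).2
  have hp' : ∀ ε, s.c ε * p ε ∈ s.K := fun ε => by
    have := hf (p ε)
    rwa [hp] at this
  have e1 : ∀ ε ε', s.c ε * p ε * (s.c ε' * p ε') = s.c (ε + ε') * (p ε * p ε') := fun ε ε' => by
    rw [s.c_add, (cp (hp' ε) ε').symm.mul_mul_mul_comm]
  have hρ : ∀ ε ε', s.c (ε + ε') * p (ε + ε') = s.c ε * p ε * (s.c ε' * p ε') := fun ε ε' => by
    rw [e1, inj (p _).2 (mul_mem (p ε).2 (p ε').2) (hp' _) (e1 ε ε' ▸ mul_mem (hp' ε) (hp' ε'))]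
  have hi : ∀ ε, s.c ε * p ε = 1 → ε = 0 := fun ε e => by_contra fun h0 => ne1 (p ε).2 h0 e
  have hρK : rg (fun ε => s.c ε * p ε) hρ ≤ s.K := by
    rintro _ ⟨ε, rfl⟩
    exact hp' ε
  refine ⟨fun ε => s.c ε * p ε, hρ, hi, Syl.of_maximal (IsPGroup.of_card (n := 2) (card_rg hρ hi))
    hρK fun P hP h1 h2 => ?_, fun ε => by rw [← mul_assoc, cc, one_mul]; exact (hT.le (p ε).2).1⟩
  have key : ∀ ε, ε ≠ 0 → P ⊓ centralizer {s.c ε * p ε} ≤ rg (fun ε => s.c ε * p ε) hρ :=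
    fun ε h0 => le_of_card (le_inf h1 (by
      rintro _ ⟨ε', rfl⟩
      exact mem_centralizer_singleton_iff.2 (add_commute (f := fun ε => s.c ε * p ε) hρ ε' ε))) (by
      rw [card_rg hρ hi]
      refine (big (p ε).2 (fun e => h0 (s.c_inj ε (s.eq_one_of_K (s.letters_mem ε).2.2.2.2.1 ?_)))
        (hp' ε) hP h2).trans hle
      have := hp' ε
      rwa [e, mul_one] at this)
  obtain ⟨y, hy, y1, hc⟩ := exists_cen hP (h1 ⟨1, rfl⟩) (ne1 (p 1).2 one_ne_zero)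
  obtain ⟨ε, rfl⟩ := key 1 one_ne_zero ⟨hy, mem_centralizer_singleton_iff.2 (hc _ (h1 ⟨1, rfl⟩)).symm⟩
  exact fun r hr => key ε (fun e => y1 (by rw [e]; exact add_zero' (f := fun ε => s.c ε * p ε) hρ))
    ⟨hr, mem_centralizer_singleton_iff.2 (hc r hr)⟩

theorem exists_g {ρ : F → G} (hρ : ∀ s t, ρ (s + t) = ρ s * ρ t) (hi : ∀ s, ρ s = 1 → s = 0)
    (hR : Syl 2 (rg ρ hρ) s.K) (hK : ∀ γ, s.c γ * ρ γ ∈ cj(g, s.K)) :
    ∃ g' ∈ 𝐍[s.X], ∀ t, ∃ t', g' * ρ t * g'⁻¹ = ρ t' * s.c t' := by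
  have ρK : ∀ γ, ρ γ ∈ s.K := fun γ => hR.le ⟨γ, rfl⟩
  have cρ : ∀ γ γ', Commute (s.c γ) (ρ γ') := fun γ γ' => s.comm_K (cA s γ) (ρK γ')
  have hτ : ∀ γ γ', s.c (γ + γ') * ρ (γ + γ') = s.c γ * ρ γ * (s.c γ' * ρ γ') := fun γ γ' => by
    rw [s.c_add, hρ, (cρ γ' γ).mul_mul_mul_comm]
  have hτi : ∀ γ, s.c γ * ρ γ = 1 → γ = 0 := fun γ e => s.c_inj γ (s.eq_one_of_K
    (s.letters_mem γ).2.2.2.2.1 (by rw [eq_inv_of_mul_eq_one_left e]; exact inv_mem (ρK γ)))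
  set R := rg ρ hρ with hRdef
  set T := rg (fun γ => s.c γ * ρ γ) hτ with hTdef
  have hT : Syl 2 T cj(g, s.K) := (hR.cj g).of_card_le (IsPGroup.of_card (n := 2) (card_rg hτ hτi))
    (by rintro _ ⟨γ, rfl⟩; exact hK γ) (by rw [card_cj, card_rg hτ hτi, card_rg hρ hi])
  obtain ⟨k, -, e1⟩ := (hR.cj g).conj_eq hT
  rw [cj_cj] at e1
  have hN : 𝐂[R] ≤ s.N := fun n hn => s.ti (ρK 1) (add_sq hρ 1) (fun e => one_ne_zero (hi 1 e))
    (by rw [← mem_cent.1 hn _ ⟨1, rfl⟩, mul_inv_cancel_right]; exact ρK 1)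
  have hQR : s.QA ≤ 𝐂[R] := cent_comm (hR.le.trans (cent_anti (s.QA_le_D.trans s.D_le_A)))
  have hRR : R ≤ 𝐂[R] := by
    rintro _ ⟨γ, rfl⟩
    exact mem_cent.2 (by rintro _ ⟨γ', rfl⟩; exact add_commute hρ γ' γ)
  obtain ⟨P, h1, hP⟩ := Syl.exists_ge (pg_sup' hR.pg s.pg_QA (norm_of_cent hQR)) (sup_le hRR hQR)
  have hPN := hP.le.trans hN
  obtain ⟨δ, hδ, hc⟩ := s.cenQ hP.pg hPN (le_sup_right.trans h1)
  have pρ : ∀ p ∈ P, ∀ γ, Commute p (ρ γ) := fun p hp γ => (mem_cent.1 (hP.le hp) _ ⟨γ, rfl⟩).symm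
  have hPX : ∀ p ∈ P, ∀ γ, Commute p (s.c γ) := fun p hp γ => by
    obtain ⟨γ', e⟩ := s.toLt.mem_X.1 (conj_mem_of_norm (s.normX (hPN hp) hδ (hc p hp)).1 ⟨γ, rfl⟩)
    have := s.cj_mem (s.cen' (hK δ) (add_sq (f := fun γ => s.c γ * ρ γ) hτ δ) (fun e => hδ (hτi δ e))
      ((hc p hp).mul_right (pρ p hp δ))) (hK γ)
    rw [← conj_mul, e, (pρ p hp γ).eq, mul_inv_cancel_right] at this
    have h2 := mul_mem this (inv_mem (hK γ))
    rw [mul_inv_rev, mul_assoc, mul_inv_cancel_left, add_inv s.c_add, ← s.c_add] at h2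
    have h3 := notc h2
    rw [add_eq_zero_iff_eq_neg, CharTwo.neg_eq] at h3
    rw [h3] at e
    exact mul_inv_eq_iff_eq_mul.1 e
  have hPT : P ≤ 𝐂[T] := fun p hp => mem_cent.2 (by
    rintro _ ⟨γ, rfl⟩
    exact ((hPX p hp γ).mul_right (pρ p hp γ)).symm)
  have h2 : Syl 2 cj(k * g, P) 𝐂[T] := by
    have := hP.cj (k * g)
    rwa [cj_cent, e1] at this
  obtain ⟨d, hd, e2⟩ := h2.conj_eq (h2.of_card_le hP.pg hPT (card_cj P _).le)
  rw [cj_cj] at e2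
  have e3 : cj(d * (k * g), R) = T := by rw [← cj_cj, e1, cj_of_cent hd]
  have hn : d * (k * g) ∈ 𝐍[P ⊓ 𝐂[P]] :=
    norm_inf (X := 𝐍[P]) le_rfl (norm_cent le_rfl) (cj_eq_iff.1 e2)
  generalize d * (k * g) = n at e3 hn
  refine ⟨n, mem_norm_of_cj_le (cj_le_iff.2 ?_), fun t => ?_⟩
  · rintro _ ⟨γ, rfl⟩
    by_cases γ0 : γ = 0
    · rw [γ0, add_zero' s.c_add, mul_one, mul_inv_cancel]
      exact one_mem _
    have cP : ∀ γ, s.c γ ∈ P := fun γ => h1 (mem_sup_right (s.letters_mem γ).2.2.2.2.1)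
    have hv := conj_mem_of_norm hn (show s.c γ ∈ P ⊓ 𝐂[P] from ⟨cP γ, mem_cent.2 fun p hp => hPX p hp γ⟩)
    obtain ⟨ε, hε⟩ := s.kf.k3 (hPN hv.1) (cent_anti (le_sup_right.trans h1) hv.2)
    have h3 := mul_mem (cP ε) hv.1
    obtain ⟨u, hu⟩ := hR.le_of_norm' (hP.pg.to_le (zpowers_le.2 h3)) (zpowers_le.2 hε)
      (zpowers_le.2 (cent_le_norm _ (hP.le h3))) (mem_zpowers _)
    have e4 : n * s.c γ * n⁻¹ = s.c ε * ρ u := by rw [← hu, ← mul_assoc, cc, one_mul]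
    by_cases u0 : u = 0
    · rw [e4, u0, add_zero' hρ, mul_one]
      exact ⟨ε, rfl⟩
    refine absurd ?_ (s.long γ γ0)
    have h4 : s.InT (s.c ε * ρ u) := by
      have i1 : s.InT (s.c u * ρ u) := ⟨g⁻¹, by rw [inv_inv]; exact mem_cj.1 (hK u)⟩
      have i2 : ∀ ε, s.InT (s.c ε * ρ u) → s.InT (s.c (ω ^ 2 * ε) * ρ u) := fun ε h => by
        have := h.conj s.h
        rwa [← conj_mul, (s.hact ε).2.2.1, (s.comm_K s.mem'.2.2.2.1 (ρK u)).eq,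
          mul_inv_cancel_right] at this
      have : ∀ u ε : F, u ≠ 0 → ε = 0 ∨ ε = u ∨ ε = ω ^ 2 * u ∨ ε = ω ^ 2 * (ω ^ 2 * u) := by
        decide +kernel
      rcases this u ε u0 with rfl | rfl | rfl | rfl
      · exact ⟨1, by rw [add_zero' s.c_add]; simpa using ρK u⟩
      exacts [i1, i2 _ i1, i2 _ (i2 _ i1)]
    have := h4.conj n⁻¹
    rwa [← e4, show n⁻¹ * (n * s.c γ * n⁻¹) * n⁻¹⁻¹ = s.c γ by group] at this
  · obtain ⟨t', e⟩ := e3.le (conj_mem_cj (show ρ t ∈ R from ⟨t, rfl⟩))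
    exact ⟨t', e.trans (cρ t' t')⟩

end P1E

open P1E in
theorem Std.Pair.exists_cfg {s : Std m G} {g t : G} (h : s.Pair g t) (hl : s.Long t) :
    ∃ f : Cfg m G, f.toLt = s.toLt := by
  obtain ⟨n, hn, δ, hδ, k, hk, e⟩ := hl
  obtain ⟨ρ, hρ, hi, hR, hK⟩ := exists_ρ (h.conj hn) hδ (by
    rw [e, ← mul_assoc, (s.comm_K (cA s δ) hk).eq, mul_assoc, cc, mul_one]; exact hk)
  obtain ⟨g', h1, h2⟩ := exists_g hρ hi hR hK
  exact ⟨⟨s.toLt, s.kf, ρ, g', hρ, hi, hR, fun k hk h2 h1 n => s.ti hk h2 h1, s.long, h1, h2⟩, rfl⟩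

end Cfsg.Agent.STA
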