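import Mathlib
import Cfsg.Agent.STA.Defs
import Cfsg.Agent.Chev.G2Rep

/-! Words in the root elements of `G₂(4)` and the letters. -/

set_option autoImplicit false
set_option linter.unusedSectionVars false

namespace Cfsg.Agent.STA.G2L

open Cfsg Cfsg.Agent.Loc.Mss Subgroup Equiv
open Cfsg.Lie Cfsg.Agent.Chev.G2
open scoped Matrix

abbrev Wd : Type := List (ℕ × F)

noncomputable def wd (w : Wd) : chevG2.group F := (w.map fun a => chevG2.XG F a.1 a.2).prod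

structure V7 where
  (a b c d e f g : F)
  deriving DecidableEq

def fA (t x y : F) : F := Cl.TF.instAdd.add x (Cl.TF.instMul.mul t y)

theorem fA_eq (t x y : F) : fA t x y = x + t * y := rfl

def actV (r : ℕ) (t q : F) (v : V7) : V7 :=
  match r with
  | 0 => ⟨v.a, v.b, v.c, v.d, v.e, fA t v.f v.a, fA t v.g v.b⟩
  | 1 => ⟨v.a, v.b, v.c, v.d, fA t v.e v.a, v.f, fA t v.g v.c⟩
  | 2 => ⟨v.a, v.b, v.c, fA t v.d v.a, fA t v.e v.b, fA t v.f v.c, fA q v.g v.a⟩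
  | 3 => ⟨v.a, v.b, fA t v.c v.a, fA t v.d v.b, v.e, fA q v.f v.b, fA t v.g v.e⟩
  | 4 => ⟨v.a, fA t v.b v.a, v.c, fA t v.d v.c, fA q v.e v.c, v.f, fA t v.g v.f⟩
  | 5 => ⟨v.a, v.b, fA t v.c v.b, v.d, v.e, fA t v.f v.e, v.g⟩
  | 6 => ⟨v.a, fA t v.b v.c, v.c, v.d, fA t v.e v.f, v.f, v.g⟩
  | 7 => ⟨fA t v.a v.b, v.b, fA q v.c v.e, fA t v.d v.e, v.e, fA t v.f v.g, v.g⟩
  | 8 => ⟨fA t v.a v.c, fA q v.b v.f, v.c, fA t v.d v.f, fA t v.e v.g, v.f, v.g⟩
  | 9 => ⟨fA q v.a v.g, fA t v.b v.e, fA t v.c v.f, fA t v.d v.g, v.e, v.f, v.g⟩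
  | 10 => ⟨fA t v.a v.e, v.b, fA t v.c v.g, v.d, v.e, v.f, v.g⟩
  | 11 => ⟨fA t v.a v.f, fA t v.b v.g, v.c, v.d, v.e, v.f, v.g⟩
  | _ => v

def wordV (w : Wd) (v : V7) : V7 :=
  w.foldr (fun a v => actV a.1 a.2 (Cl.TF.instMul.mul a.2 a.2) v) v

def basV : Fin 7 → V7 := ![⟨1, 0, 0, 0, 0, 0, 0⟩, ⟨0, 1, 0, 0, 0, 0, 0⟩, ⟨0, 0, 1, 0, 0, 0, 0⟩,
  ⟨0, 0, 0, 1, 0, 0, 0⟩, ⟨0, 0, 0, 0, 1, 0, 0⟩, ⟨0, 0, 0, 0, 0, 1, 0⟩, ⟨0, 0, 0, 0, 0, 0, 1⟩]

def evL (v : V7) : Fin 7 → F := ![v.a, v.b, v.c, v.d, v.e, v.f, v.g]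

theorem evL_actV {r : ℕ} (hr : r < 12) (t : F) (v : V7) :
    evL (actV r t (Cl.TF.instMul.mul t t) v) = Y r t *ᵥ evL v := by
  have h2 : (2 : F) = 0 := CharTwo.two_eq_zero
  have h3 : Cl.TF.instMul.mul t t = t ^ 2 := (pow_two t).symm
  funext i
  rw [Y_mulVec, h3]
  interval_cases r <;> fin_cases i <;> simp [evL, actV, sp, fA_eq, h2, CharTwo.neg_eq]

theorem evL_wordV {w : Wd} (hw : ∀ a ∈ w, a.1 < 12) (v : V7) :
    evL (wordV w v) = rho F (wd w) *ᵥ evL v := by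
  induction w with
  | nil => simp [wordV, wd]
  | cons a w ih =>
    rw [wordV, List.foldr_cons, evL_actV (hw a List.mem_cons_self), ← wordV, ih fun b hb => hw b (List.mem_cons_of_mem _ hb), wd, wd,
      List.map_cons, List.prod_cons, map_mul, rho_XG (hw a List.mem_cons_self), Matrix.mulVec_mulVec]

theorem evL_basV (j : Fin 7) : evL (basV j) = Pi.single j 1 := by
  revert j
  decide +kernel

/-- Two words have the same matrix. -/
def EqW (w w' : Wd) : Prop :=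
  (∀ a ∈ w, a.1 < 12) ∧ (∀ a ∈ w', a.1 < 12) ∧ ∀ j, wordV w (basV j) = wordV w' (basV j)

instance (w w' : Wd) : Decidable (EqW w w') := by unfold EqW; infer_instance

theorem wd_eq {w w' : Wd} (h : EqW w w') : wd w = wd w' := by
  apply rho_injective
  ext i j
  have := congrArg evL (h.2.2 j)
  rw [evL_wordV h.1, evL_wordV h.2.1, evL_basV, Matrix.mulVec_single_one, Matrix.mulVec_single_one] at this
  exact congrFun this i

variable {G : Type*} [Group G] (ι : chevG2.group F →* G)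

noncomputable def L (w : Wd) : G := ι (wd w)

theorem L_mul (w w' : Wd) : L ι w * L ι w' = L ι (w ++ w') := by
  rw [L, L, L, wd, wd, wd, List.map_append, List.prod_append, map_mul]

theorem L_nil : (1 : G) = L ι [] := (map_one ι).symm

theorem L_eq {w w' : Wd} (h : EqW w w') : L ι w = L ι w' := congrArg ι (wd_eq h)

theorem L_one (r : ℕ) (t : F) : L ι [(r, t)] = ι (chevG2.XG F r t) := by simp [L, wd]

theorem L_three (r s : ℕ) : L ι [(r, 1), (s, 1), (r, 1)] =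
    ι (chevG2.XG F r 1 * chevG2.XG F s 1 * chevG2.XG F r 1) := by simp [L, wd, mul_assoc]

theorem L_mem (w : Wd) : L ι w ∈ ι.range := ⟨_, rfl⟩

def wh : Wd := [(6, ω ^ 2), (5, ω), (6, ω ^ 2), (6, 1), (5, 1), (6, 1),
  (7, ω), (4, ω ^ 2), (7, ω), (7, 1), (4, 1), (7, 1)]

def wξ : Wd := [(7, ω ^ 2), (4, ω), (7, ω ^ 2), (7, 1), (4, 1), (7, 1)]

theorem cube_eq {g : G} : g ^ 3 = g * g * g := by rw [pow_succ, pow_two]

set_option maxHeartbeats 4000000 in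
/-- The letters. -/
noncomputable def mkL (hι : Function.Injective ι) : Lt true G := by
  refine
    { A := ι.range
      a := fun t => L ι [(10, t)]
      b := fun t => L ι [(6, t)]
      c := fun t => L ι [(11, t)]
      s1 := fun t => L ι [(8, t)]
      s2 := fun t => L ι [(9, t)]
      x := fun t => L ι [(7, t)]
      n1 := L ι [(6, 1), (5, 1), (6, 1)]
      n2 := L ι [(10, 1), (1, 1), (10, 1)]
      w := L ι [(7, 1), (4, 1), (7, 1)]
      h := L ι wh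
      ξ := L ι wξ
      mem := fun t => ⟨L_mem _ _, L_mem _ _, L_mem _ _, L_mem _ _, L_mem _ _, L_mem _ _⟩
      mem' := ⟨L_mem _ _, L_mem _ _, L_mem _ _, L_mem _ _, L_mem _ _⟩
      a_add := fun s t => ?_
      b_add := fun s t => ?_
      c_add := fun s t => ?_
      s1_add := fun s t => ?_
      s2_add := fun s t => ?_
      x_add := fun s t => ?_
      c_inj := fun t ht => ?inj
      ab := fun s t => ?_
      ss := fun s t => ?_
      com := fun s t => ⟨?_, ?_, ?_, ?_, ?_⟩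
      cc := fun s t => ⟨?_, ?_, ?_, ?_, ?_, ?_⟩
      triv := fun h => absurd h (by decide)
      h3 := ?_
      hact := fun t => ⟨?_, ?_, ?_, ?_, ?_⟩
      ξ3 := ?_
      ξcom := ⟨?_, ?_, ?_, fun t => ⟨?_, ?_, ?_⟩⟩
      ξact := fun t => ⟨?_, ?_, ?_⟩
      nn := ⟨?_, ?_, ?_⟩
      nact := fun t => ⟨?_, ?_⟩
      nh := ⟨⟨1, ?_⟩, 2, ?_⟩
      xact := fun _ s t => ⟨?_, ?_, ?_⟩
      wact := fun _ => ⟨?_, ?_, fun t => ⟨?_, ?_, ?_, ?_⟩⟩ }
  case inj =>
    rw [L_one, ← map_one ι] at ht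
    have h := congrFun (congrFun (congrArg (rho F) (hι ht)) 0) 5
    rw [rho_XG (by norm_num), map_one] at h
    simpa [Y, sp] using h
  all_goals
    simp only [Commute, SemiconjBy, cube_eq, pow_one, pow_two (L ι wξ), mul_inv_eq_iff_eq_mul,
      eq_inv_mul_iff_mul_eq, L_nil ι, L_mul]
    refine L_eq ι ?_
    try revert s
    try revert t
    decide +kernel

end Cfsg.Agent.STA.G2L
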