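import Mathlib
import Cfsg.Agent.STA.LBasic
import Cfsg.Agent.Cl.LinearBasic

/-! The facts on the automorphisms of `G₂(4)` from four properties of the letters. -/

set_option autoImplicit false
set_option linter.unusedSectionVars false

namespace Cfsg.Agent.STA.G2L

open Cfsg Cfsg.Agent.Loc.Mss Subgroup Equiv
open scoped commutatorElement

theorem simple_sl : IsSimpleGroup (Matrix.SpecialLinearGroup (Fin 2) F) := by
  have h1 := Cl.psl_fin_isSimpleGroup (F := F) (n := 2) le_rfl fun _ => by rw [Cl.natCard_GF4]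
  have h2 : center (Matrix.SpecialLinearGroup (Fin 2) F) = ⊥ := eq_bot_iff.2 fun A hA => by
    obtain ⟨r, h1, h2⟩ := Matrix.SpecialLinearGroup.mem_center_iff.1 hA
    rw [Fintype.card_fin, ← one_pow 2, sq_eq_sq_iff_eq_or_eq_neg, CharTwo.neg_eq, or_self] at h1
    exact Subtype.ext (by rw [← h2, h1, map_one]; rfl)
  exact ((QuotientGroup.quotientMulEquivOfEq h2).trans QuotientGroup.quotientBot).symm.isSimpleGroup

variable {G : Type*} [Group G] [Finite G]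

structure Hyp (l : Lt true G) : Prop where
  sl : ∃ φ : Matrix.SpecialLinearGroup (Fin 2) F →* G, φ.range = closure {g | g = l.w ∨ ∃ t, g = l.x t}
  cen : ∀ g ∈ l.A, Commute g (l.c 1) → g ∈ l.D
  aut : ∀ n ∈ l.N, ∃ g ∈ l.A, ∃ σ : RingAut F,
    (∀ t, n * l.c t * n⁻¹ = g * l.c (σ t) * g⁻¹) ∧ (σ = 1 → g⁻¹ * n ∈ l.K)
  xi : l.ξ ∈ l.D

variable {l : Lt true G}

theorem Hyp.D_eq (H : Hyp l) : l.D = l.A ⊓ 𝐂[l.X] :=
  le_antisymm (le_inf l.D_le_A l.D_le_cent) fun g hg =>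
    H.cen g hg.1 (mem_cent.1 hg.2 _ ⟨1, rfl⟩).symm

theorem Hyp.nl (H : Hyp l) {M : Subgroup G} (hQ : l.QA ≤ M) (hn : l.D ≤ 𝐍[M]) (hξ : l.ξ ∉ M) {d : G}
    (hd : d ∈ l.D) (hM : d ∈ M) : d ∈ l.QA := by
  obtain ⟨φ, hφ⟩ := H.sl
  have hD : l.D = l.QA ⊔ φ.range := by rw [hφ]; rfl
  have hS : φ.range ≤ l.D := hD ▸ le_sup_right
  have := simple_sl
  have hN : (M.comap φ).Normal := ⟨fun a ha g => by
    rw [mem_comap, map_mul, map_mul, map_inv]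
    exact conj_mem_of_norm (hn (hS ⟨g, rfl⟩)) ha⟩
  rcases hN.eq_bot_or_eq_top with h | h
  · rw [hD] at hd
    obtain ⟨u, hu, _, ⟨s, rfl⟩, rfl⟩ := (mem_sup_norm (hS.trans l.D_le_norm)).1 hd
    have hs : s ∈ M.comap φ := (mul_mem_cancel_left (hQ hu)).1 hM
    rw [h, mem_bot] at hs
    rwa [hs, map_one, mul_one]
  · refine absurd ((hD.le.trans (sup_le hQ ?_)) H.xi) hξ
    rintro _ ⟨s, rfl⟩
    exact h.ge (mem_top s)

theorem s1_ξ : ⁅l.s1 1, l.ξ⁆ ∉ l.X := by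
  rintro ⟨t, ht⟩
  have h : ⁅l.s1 1, l.ξ⁆ = l.s1 (1 + ω * 1) := by
    rw [l.s1_add, ← (l.ξact 1).1, commutatorElement_def, add_inv l.s1_add]; group
  rw [h, (l.el_letters _).2.2.1, (l.el_letters _).2.2.2.2] at ht
  exact absurd (l.el_inj ht).2.2.1 (by decide)

theorem Hyp.k5 (H : Hyp l) (n : G) (hn : n ∈ l.N) (hc : n ∈ 𝐂[l.X]) : ∃ d ∈ l.D, d⁻¹ * n ∈ l.K := by
  obtain ⟨g, hg, σ, h1, h2⟩ := H.aut n hn
  have h3 : ∀ t, g * l.c (σ t) * g⁻¹ = l.c t := fun t => by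
    rw [← h1, ← mem_cent.1 hc _ ⟨t, rfl⟩, mul_inv_cancel_right]
  have hd : g ∈ l.D := H.cen g hg (by
    have := h3 1
    rwa [map_one, mul_inv_eq_iff_eq_mul] at this)
  refine ⟨g, hd, h2 (RingEquiv.ext fun t => l.c_eq.1 (?_ : l.c (σ t) = l.c t))⟩
  rw [← h3 t, ← mem_cent.1 (l.D_le_cent hd) _ ⟨σ t, rfl⟩, mul_inv_cancel_right]

/-- A 2-group times `K` does not contain `ξ`. -/
theorem ξ_not {Q : Subgroup G} (hQ : IsPGroup 2 Q) (hN : Q ≤ l.N) : l.ξ ∉ Q ⊔ l.K := by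
  intro h
  obtain ⟨q, hq, k, hk, e⟩ := (mem_sup_norm' (hN.trans (norm_cent le_rfl))).1 h
  obtain ⟨j, hj⟩ := pg_iff.1 hQ q hq
  have c1 : Commute l.ξ k := l.comm_K l.mem'.2.2.2.2 hk
  have c2 : Commute q k := by
    rw [← e] at c1
    exact mul_right_cancel (b := k) (c1.eq.trans (mul_assoc _ _ _).symm)
  have h1 : l.ξ ^ 2 ^ j ∈ l.K := by rw [← e, c2.mul_pow, hj, one_mul]; exact pow_mem hk _
  have h2 : l.ξ ∈ l.K := mem_of_pow_mem
    (Nat.Coprime.coprime_dvd_left (orderOf_dvd_of_pow_eq_one l.ξ3) (by decide)) h1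
  refine s1_ξ (l := l) ?_
  rw [commutatorElement_eq_one_iff_commute.2 (l.comm_K (l.mem 1).2.2.2.1 h2)]
  exact one_mem _

theorem norm_K : l.D ≤ 𝐍[l.K] := norm_cent (norm_of_le l.D_le_A)

theorem Hyp.k2 (H : Hyp l) (n : G) (hn : n ∈ l.N) (hx : n ∈ 𝐍[l.X]) : n ∈ 𝐍[l.QA] := by
  have hD : cj(n, l.D) = l.D := by rw [H.D_eq, cj_inf, cj_cent, cj_of_norm hn, cj_of_norm hx]
  have h1 : cj(n, l.QA) ≤ l.D := hD ▸ cj_mono n l.QA_le_D
  have h2 : l.D ≤ 𝐍[cj(n, l.QA)] := by rw [← cj_norm, ← hD]; exact cj_mono n l.D_le_norm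
  refine mem_norm_of_cj_le fun p hp => H.nl (M := (l.QA ⊔ cj(n, l.QA)) ⊔ l.K)
    (le_sup_left.trans le_sup_left) (norm_sup (norm_sup l.D_le_norm h2) norm_K)
    (ξ_not (pg_sup l.pg_QA (pg_cj l.pg_QA n) (l.QA_le_D.trans h2))
      (norm_of_le ((sup_le l.QA_le_D h1).trans l.D_le_A))) (h1 hp) (mem_sup_left (mem_sup_right hp))

theorem Hyp.kf (H : Hyp l) : l.KF where
  k2 := H.k2
  k5 _ := H.k5
  k6 n hn hc h := by
    obtain ⟨d, hd, hk⟩ := H.k5 n hn hc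
    have hX : l.D ≤ 𝐍[l.X] := norm_of_cent l.D_le_cent
    refine ⟨d, H.nl (M := cmod l.QA l.X) (fun u hu => ⟨hX (l.QA_le_D hu), fun v hv => ?_⟩)
      (norm_cmod l.D_le_norm hX) (fun h => s1_ξ (h.2 _ (l.letters_mem 1).2.2.1)) hd
      ⟨hX hd, fun v hv => ?_⟩, hk⟩
    · obtain ⟨α, β, t, t', γ, rfl⟩ := l.mem_QA.1 hu
      obtain ⟨α', β', s, s', γ', rfl⟩ := l.mem_QA.1 hv
      refine ⟨α' * β + β' * α + em true * (s * t' + s' * t), ?_⟩
      rw [commutatorElement_def, l.el_conj, mul_inv_eq_iff_eq_mul, (l.el_letters _).2.2.2.2, l.el_mul]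
      congr 1 <;> ring
    · have c1 := l.comm_K (l.D_le_A (l.QA_le_D hv)) hk
      have e : ⁅v, d⁆ = (n * v * n⁻¹ * v⁻¹)⁻¹ := by
        rw [show n = d * (d⁻¹ * n) by group, mul_assoc d, ← c1.eq, commutatorElement_def]; group
      exact e ▸ inv_mem (h v hv)
  k7 _ P hN hc h2 hD p hp := by
    obtain ⟨d, hd, hk⟩ := H.k5 p (hN hp) (hc hp)
    refine ⟨d, H.nl (M := (l.QA ⊔ P) ⊔ l.K) (le_sup_left.trans le_sup_left)
      (norm_sup (norm_sup l.D_le_norm hD) norm_K) (ξ_not (pg_sup l.pg_QA h2 (l.QA_le_D.trans hD))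
        (sup_le (norm_of_le (l.QA_le_D.trans l.D_le_A)) hN)) hd ?_, hk⟩
    rw [show d = p * (d⁻¹ * p)⁻¹ by group]
    exact mul_mem (mem_sup_left (mem_sup_right hp)) (mem_sup_right (inv_mem hk))

end Cfsg.Agent.STA.G2L
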