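import Mathlib
import Cfsg.Agent.STA.LBasic
import Cfsg.Agent.Chev.G2Rep
import Cfsg.Agent.STA.G2a
import Cfsg.Agent.STA.G2b
import Cfsg.Agent.Chev.AutData
import Cfsg.Agent.S1030
import Cfsg.Agent.S2180

/-! The letters in `G₂(4)` (PLAN: G2). -/

set_option autoImplicit false
set_option linter.unusedSectionVars false

namespace Cfsg.Agent.STA

open Cfsg Cfsg.Agent.Loc.Mss Subgroup Equiv
open Cfsg.Agent.Spor (ES2 Eqv)

open Cfsg.Lie Cfsg.Agent.Chev.G2

namespace G2L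

theorem aut_decomp (α : MulAut (chevG2.group F)) :
    ∃ y τ, α = MulAut.conj y * chevG2.fieldAutHom F τ := by
  obtain ⟨y, c, π, g, τ, hπ, hg, e⟩ := Chev.autOK_G2.decomp α
  obtain rfl : π = 1 := (Chev.diagramSymmetry_B2 π).resolve_right fun h => by
    have := (Chev.mem_grSet_G2 (F := F)).1 (h ▸ ⟨hπ, g, hg⟩)
    rw [ringChar.eq F 2] at this
    exact absurd this (by decide)
  obtain rfl := hg.unique ChevalleyDatum.isGrE_one
  obtain ⟨d, rfl⟩ := Finite.surjective_of_injective ((MonoidHom.ker_eq_bot_iff _).1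
    ((chevG2.ker_cartanHom F).trans (Chev.ker_torus_G2 F))) c
  exact ⟨_, τ, by rw [e, ChevalleyDatum.diagAut_cartanHom, one_mul, ← mul_assoc, ← map_mul]⟩

theorem k_x4 : ∀ t : F, EqW [(4, t)] ([(7, 1), (4, 1), (7, 1)] ++ [(7, t)] ++ [(7, 1), (4, 1), (7, 1)]) := by
  decide +kernel

variable {G : Type*} [Group G] [Finite G] (ι : chevG2.group F →* G) (hι : Function.Injective ι)

theorem x4_eq (t : F) : ι (chevG2.XG F 4 t) = (mkL ι hι).w * (mkL ι hι).x t * (mkL ι hι).w := by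
  rw [← L_one, L_eq ι (k_x4 t), ← L_mul, ← L_mul]
  rfl

theorem XG_mem {S : Subgroup G} (hw : (mkL ι hι).w ∈ S) (hx : ∀ t, (mkL ι hι).x t ∈ S) (t : F) :
    ι (chevG2.XG F 7 t) ∈ S ∧ ι (chevG2.XG F 4 t) ∈ S :=
  ⟨L_one ι 7 t ▸ hx t, x4_eq ι hι t ▸ mul_mem (mul_mem hw (hx t)) hw⟩

theorem mem_of_le {S : Subgroup G} {T : Subgroup (GL chevG2.Idx F)}
    (h : T ≤ (S.comap ι).map (chevG2.group F).subtype) {y : chevG2.group F}
    (hy : (y : GL chevG2.Idx F) ∈ T) : ι y ∈ S := by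
  obtain ⟨z, hz, e⟩ := h hy
  exact (Subtype.ext e : z = y) ▸ hz

theorem root_le {S : Subgroup G} {r : ℕ} (h : ∀ t, ι (chevG2.XG F r t) ∈ S) :
    chevG2.rootSubgroup F r ≤ (S.comap ι).map (chevG2.group F).subtype :=
  ChevalleyDatum.rootSubgroup_le_iff.2 fun t => ⟨_, h t, rfl⟩

theorem hyp : Hyp (mkL ι hι) where
  sl := by
    obtain ⟨φ, h1, -⟩ := S1030.result (F := F) chevG2 (by simp) 7 (by decide)
    have hn : chevG2.neg 7 = 4 := by decide +kernel
    rw [hn] at h1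
    have h2 : φ.range ≤ chevG2.group F := h1 ▸ sup_le
      (ChevalleyDatum.rootSubgroup_le_iff.2 (chevG2.X_mem_group F 7)) (ChevalleyDatum.rootSubgroup_le_iff.2 (chevG2.X_mem_group F 4))
    have h3 : ∀ r t, chevG2.rootSubgroup F r ≤ φ.range →
        ι (chevG2.XG F r t) ∈ (ι.comp (φ.codRestrict _ fun g => h2 ⟨g, rfl⟩)).range := fun r t h => by
      obtain ⟨g, hg⟩ := h (chevG2.X_mem_rootSubgroup F r t)
      exact ⟨g, congrArg ι (Subtype.ext hg)⟩
    have h7 := fun t => h3 7 t (h1 ▸ le_sup_left)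
    refine ⟨ι.comp (φ.codRestrict _ fun g => h2 ⟨g, rfl⟩), le_antisymm ?_ ((closure_le _).2 ?_)⟩
    · rintro _ ⟨g, rfl⟩
      have h4 := XG_mem ι hι (S := closure {g | g = (mkL ι hι).w ∨ ∃ t, g = (mkL ι hι).x t})
        (subset_closure (.inl rfl)) fun t => subset_closure (.inr ⟨t, rfl⟩)
      exact mem_of_le ι (h1.le.trans (sup_le (root_le ι fun t => (h4 t).1) (root_le ι fun t => (h4 t).2)))
        ⟨g, rfl⟩
    · rintro _ (rfl | ⟨t, rfl⟩)
      · change L ι _ ∈ _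
        rw [L_three, map_mul, map_mul]
        exact mul_mem (mul_mem (h7 1) (h3 4 1 (h1 ▸ le_sup_right))) (h7 1)
      · change L ι _ ∈ _
        rw [L_one]
        exact h7 t
  cen := by
    rintro _ ⟨y, rfl⟩ h
    have hl := (mkL ι hι).letters_mem
    have hQ := (mkL ι hι).QA_le_D
    have h1 : Commute y (chevG2.XG F 11 1) := hι (by
      rw [map_mul, map_mul, ← L_one]
      exact h)
    have h2 : (y : GL chevG2.Idx F) ∈ chevG2.group F ⊓ centralizer {chevG2.X F (S2180.rt 11) 1} :=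
      ⟨y.2, mem_centralizer_singleton_iff.2 (congrArg Subtype.val h1.eq)⟩
    rw [S2180.aux1] at h2
    refine mem_of_le ι (sup_le ((closure_le _).2 ?_) (root_le ι fun t =>
      (XG_mem ι hι (hl t).2.2.2.2.2.2 (fun t => (hl t).2.2.2.2.2.1) t).2)) h2
    rintro g ⟨r, t, hr, e⟩
    refine ⟨chevG2.XG F r t, ?_, (Units.ext e).symm⟩
    have h3 : ∀ r < 12, chevG2.IsPosRoot r → 6 ≤ r := by
      unfold ChevalleyDatum.IsPosRoot
      decide +kernel
    have h4 : r < 12 := hr.1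
    have h5 := h3 r h4 hr
    change ι _ ∈ (mkL ι hι).D
    rw [← L_one]
    interval_cases r
    exacts [hQ (hl t).2.1, (hl t).2.2.2.2.2.1, hQ (hl t).2.2.1, hQ (hl t).2.2.2.1, hQ (hl t).1,
      hQ (hl t).2.2.2.2.1]
  aut n hn := by
    let e := MonoidHom.ofInjective hι
    obtain ⟨y, τ, h⟩ := aut_decomp (e.trans ((ι.range.normalizerMonoidHom ⟨n, hn⟩).trans e.symm))
    have key : ∀ g, n * ι g * n⁻¹ = ι y * ι (chevG2.fieldAutHom F τ g) * (ι y)⁻¹ := fun g => by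
      have := congrArg (fun z => (e z : G)) (DFunLike.congr_fun h g)
      simp only [MulEquiv.trans_apply, MulEquiv.apply_symm_apply, MulAut.mul_apply, MulAut.conj_apply,
        map_mul, map_inv] at this
      exact this
    refine ⟨ι y, ⟨y, rfl⟩, τ, fun t => ?_, ?_⟩
    · change n * L ι _ * _ = _ * L ι _ * _
      rw [L_one, L_one, key, ChevalleyDatum.fieldAutHom_XG]
    · rintro rfl
      refine mem_cent.2 ?_
      rintro _ ⟨g, rfl⟩
      have := key g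
      rw [map_one, MulAut.one_apply] at this
      rw [mul_assoc, mul_inv_eq_iff_eq_mul.1 this]
      group
  xi := by
    have hl := (mkL ι hι).letters_mem
    have h := XG_mem ι hι (hl 1).2.2.2.2.2.2 fun t => (hl t).2.2.2.2.2.1
    change ι (wd wξ) ∈ _
    simp only [wd, wξ, List.map_cons, List.map_nil, List.prod_cons, List.prod_nil, map_mul, mul_one]
    exact mul_mem (h _).1 (mul_mem (h _).2 (mul_mem (h _).1 (mul_mem (h _).1 (mul_mem (h _).2 (h _).1))))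

end G2L

theorem exists_lt_G2 {G : Type*} [Group G] [Finite G] (ι : chevG2.group F →* G)
    (hι : Function.Injective ι) : ∃ l : Lt true G, l.KF ∧ l.A = ι.range ∧
      (∀ t, l.a t = ι (chevG2.XG F 10 t) ∧ l.b t = ι (chevG2.XG F 6 t) ∧ l.c t = ι (chevG2.XG F 11 t) ∧
        l.s1 t = ι (chevG2.XG F 8 t) ∧ l.s2 t = ι (chevG2.XG F 9 t) ∧ l.x t = ι (chevG2.XG F 7 t)) ∧
      l.n1 = ι (chevG2.XG F 6 1 * chevG2.XG F 5 1 * chevG2.XG F 6 1) ∧
      l.n2 = ι (chevG2.XG F 10 1 * chevG2.XG F 1 1 * chevG2.XG F 10 1) ∧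
      l.w = ι (chevG2.XG F 7 1 * chevG2.XG F 4 1 * chevG2.XG F 7 1) ∧
      l.D = l.A ⊓ centralizer {l.c 1} :=
  ⟨G2L.mkL ι hι, (G2L.hyp ι hι).kf, rfl, fun t => ⟨G2L.L_one ι _ t, G2L.L_one ι _ t, G2L.L_one ι _ t,
    G2L.L_one ι _ t, G2L.L_one ι _ t, G2L.L_one ι _ t⟩, G2L.L_three ι _ _, G2L.L_three ι _ _,
    G2L.L_three ι _ _, le_antisymm (fun _ hg => ⟨Lt.D_le_A _ hg, mem_centralizer_singleton_iff.2
      (mem_cent.1 (Lt.D_le_cent _ hg) _ ⟨1, rfl⟩).symm⟩)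
      fun g hg => (G2L.hyp ι hι).cen g hg.1 (mem_centralizer_singleton_iff.1 hg.2)⟩

end Cfsg.Agent.STA
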