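import Mathlib
import Cfsg.Agent.STA.LBasic
import Cfsg.Agent.Cl.AutPSL
import Cfsg.Agent.S0248

/-! The letters in `SL₃(4)` (PLAN: L3). -/

set_option autoImplicit false
set_option linter.unusedSectionVars false

namespace Cfsg.Agent.STA

open Cfsg Cfsg.Agent.Loc.Mss Subgroup Equiv
open Cfsg.Agent.Spor (ES2 Eqv)

def xa (t : F) : Matrix.SpecialLinearGroup (Fin 3) F :=
  ⟨!![1, t, 0; 0, 1, 0; 0, 0, 1], by simp [Matrix.det_fin_three]⟩

def xb (t : F) : Matrix.SpecialLinearGroup (Fin 3) F :=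
  ⟨!![1, 0, 0; 0, 1, t; 0, 0, 1], by simp [Matrix.det_fin_three]⟩

def xc (t : F) : Matrix.SpecialLinearGroup (Fin 3) F :=
  ⟨!![1, 0, t; 0, 1, 0; 0, 0, 1], by simp [Matrix.det_fin_three]⟩

namespace L3

open scoped commutatorElement

section General

variable {S G : Type*} [Group S] [Group G]

theorem comm_of_perfect (hS : commutator S = ⊤) (η : S →* G) {n : G}
    (h : ∀ s, ∃ z ∈ center S, n * η s * n⁻¹ = η (s * z)) (s : S) : Commute n (η s) := by
  have key : commutator S ≤ (𝐂[zpowers n]).comap η := by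
    rw [commutator_eq_closure, closure_le]
    rintro _ ⟨a, b, rfl⟩
    obtain ⟨z, hz, e⟩ := h a
    obtain ⟨y, hy, e'⟩ := h b
    have h1 : n * η ⁅a, b⁆ * n⁻¹ = η ⁅a, b⁆ := by
      have : n * η ⁅a, b⁆ * n⁻¹ = ⁅n * η a * n⁻¹, n * η b * n⁻¹⁆ := by
        rw [map_commutatorElement]; simp only [commutatorElement_def]; group
      rw [this, e, e', ← map_commutatorElement]
      congr 1
      have z1 := mem_center_iff.1 hz
      have y1 := mem_center_iff.1 hy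
      simp only [commutatorElement_def, mul_inv_rev]
      calc a * z * (b * y) * (z⁻¹ * a⁻¹) * (y⁻¹ * b⁻¹)
          = a * (z * (b * y) * z⁻¹) * a⁻¹ * (y⁻¹ * b⁻¹) := by group
        _ = a * (b * y) * a⁻¹ * (y⁻¹ * b⁻¹) := by rw [← z1 (b * y), mul_inv_cancel_right]
        _ = a * b * (y * a⁻¹ * y⁻¹) * b⁻¹ := by group
        _ = a * b * a⁻¹ * b⁻¹ := by rw [← y1 a⁻¹, mul_inv_cancel_right]
    rw [SetLike.mem_coe, mem_comap, mem_centralizer_iff]
    rintro _ ⟨k, rfl⟩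
    have : Commute n (η ⁅a, b⁆) := mul_inv_eq_iff_eq_mul.1 h1
    exact (this.zpow_left k).eq
  have := mem_centralizer_iff.1 (key (hS ▸ mem_top s)) n (mem_zpowers n)
  exact this

theorem mem_center_of (hS : commutator S = ⊤) (η : S →* G) (hη : η.ker ≤ center S) {s : S}
    (h : ∀ s', Commute (η s) (η s')) : s ∈ center S := by
  rw [mem_center_iff]
  intro g
  refine (comm_of_perfect hS (MonoidHom.id S) (n := s) (fun a => ?_) g).eq.symm
  refine ⟨a⁻¹ * (s * a * s⁻¹), hη ?_, by simp⟩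
  rw [MonoidHom.mem_ker]
  simp only [map_mul, map_inv]
  rw [(h a).eq]
  group

theorem exists_conj (η : S →* G) {n : G} (hn : n ∈ 𝐍[η.range]) (s : S) :
    ∃ s', n * η s * n⁻¹ = η s' := by
  obtain ⟨s', h⟩ := (mem_normalizer_iff.1 hn (η s)).1 ⟨s, rfl⟩
  exact ⟨s', h.symm⟩

theorem lift_hom (hS : commutator S = ⊤) (η : S →* G) (hη : η.ker ≤ center S) {n : G}
    (hn : n ∈ 𝐍[η.range]) : ∃ ψ : S ⧸ center S →* S ⧸ center S,
      ∀ s s', n * η s * n⁻¹ = η s' → ψ (QuotientGroup.mk s) = QuotientGroup.mk s' := by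
  choose f hf using exists_conj η hn
  have eq : ∀ a b : S, η a = η b → (QuotientGroup.mk a : S ⧸ center S) = QuotientGroup.mk b :=
    fun a b e => QuotientGroup.eq.2 (hη (by rw [MonoidHom.mem_ker, map_mul, map_inv, e, inv_mul_cancel]))
  let φ : S →* S ⧸ center S := MonoidHom.mk' (fun s => QuotientGroup.mk (f s)) fun a b => by
    rw [← QuotientGroup.mk_mul]
    apply eq
    rw [map_mul, ← hf, ← hf, ← hf, map_mul]
    group
  refine ⟨QuotientGroup.lift _ φ fun z hz => ?_, fun s s' e => ?_⟩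
  · refine (QuotientGroup.eq_one_iff _).2 (mem_center_of hS η hη fun s' => ?_)
    obtain ⟨s, hs⟩ := exists_conj η (inv_mem hn) s'
    have e : η s' = n * η s * n⁻¹ := by rw [← hs]; group
    rw [e, ← hf]
    have : Commute (η z) (η s) := Commute.map (mem_center_iff.1 hz s).symm η
    have := this.map (MulAut.conj n)
    simpa using this
  · exact eq _ _ (by rw [← hf, e])

theorem lift_aut (hS : commutator S = ⊤) (η : S →* G) (hη : η.ker ≤ center S) {n : G}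
    (hn : n ∈ 𝐍[η.range]) : ∃ β : MulAut (S ⧸ center S),
      ∀ s s', n * η s * n⁻¹ = η s' → β (QuotientGroup.mk s) = QuotientGroup.mk s' := by
  obtain ⟨ψ, h⟩ := lift_hom hS η hη hn
  obtain ⟨ψ', h'⟩ := lift_hom hS η hη (inv_mem hn)
  refine ⟨MonoidHom.toMulEquiv ψ ψ' ?_ ?_, h⟩
  · ext s
    obtain ⟨s', e⟩ := exists_conj η hn s
    simp only [MonoidHom.comp_apply, QuotientGroup.mk'_apply, MonoidHom.id_apply]
    rw [h s s' e, h' s' s (by rw [← e]; group)]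
  · ext s
    obtain ⟨s', e⟩ := exists_conj η (inv_mem hn) s
    simp only [MonoidHom.comp_apply, QuotientGroup.mk'_apply, MonoidHom.id_apply]
    rw [h' s s' e, h s' s (by rw [← e]; group)]

end General

abbrev SL3 : Type := Matrix.SpecialLinearGroup (Fin 3) F

instance : DecidableEq SL3 := fun _ _ => decidable_of_iff _ Subtype.ext_iff.symm

theorem coe_xa (t : F) : ((xa t : SL3) : Matrix (Fin 3) (Fin 3) F) = !![1, t, 0; 0, 1, 0; 0, 0, 1] := rfl
theorem coe_xb (t : F) : ((xb t : SL3) : Matrix (Fin 3) (Fin 3) F) = !![1, 0, 0; 0, 1, t; 0, 0, 1] := rfl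
theorem coe_xc (t : F) : ((xc t : SL3) : Matrix (Fin 3) (Fin 3) F) = !![1, 0, t; 0, 1, 0; 0, 0, 1] := rfl

def p1 : SL3 := ⟨!![1, 0, 0; 0, 0, 1; 0, 1, 0], by rw [Matrix.det_fin_three]; decide +kernel⟩
def p2 : SL3 := ⟨!![0, 1, 0; 1, 0, 0; 0, 0, 1], by rw [Matrix.det_fin_three]; decide +kernel⟩
def hh : SL3 := ⟨!![ω, 0, 0; 0, 1, 0; 0, 0, ω ^ 2], by rw [Matrix.det_fin_three]; decide +kernel⟩
def zz : SL3 := ⟨!![ω, 0, 0; 0, ω, 0; 0, 0, ω], by rw [Matrix.det_fin_three]; decide +kernel⟩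

theorem r1 : ∀ s t : F, xa (s + t) = xa s * xa t ∧ xb (s + t) = xb s * xb t ∧
    xc (s + t) = xc s * xc t ∧ xa s * xb t = xb t * xa s * xc (s * t) ∧
    xc s * xa t = xa t * xc s ∧ xc s * xb t = xb t * xc s := by decide +kernel

theorem r2 : ∀ t : F, hh * xa t = xa (ω * t) * hh ∧ hh * xb t = xb (ω * t) * hh ∧
    hh * xc t = xc (ω ^ 2 * t) * hh ∧ zz * xa t = xa t * zz ∧ zz * xb t = xb t * zz ∧
    zz * xc t = xc t * zz ∧ p1 * xa t * p1 = xc t ∧ p2 * xb t * p2 = xc t ∧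
    (xc t * p1 = p1 * xc t → t = 0) := by decide +kernel

theorem r3 : hh ^ 3 = 1 ∧ zz ^ 3 = 1 ∧ zz * p1 = p1 * zz ∧ zz * p2 = p2 * zz ∧ zz * hh = hh * zz ∧
    p1 * p1 = 1 ∧ p2 * p2 = 1 ∧ hh * (p1 * hh * p1) = zz ^ 2 ∧ hh * (p2 * hh * p2) = zz ^ 1 ∧
    xc 0 = 1 := by decide +kernel

theorem perf : commutator SL3 = ⊤ := S0248.result 3 le_rfl

theorem cube_center {z : SL3} (hz : z ∈ center SL3) : z ^ 3 = 1 := by
  obtain ⟨c, hc, e⟩ := Matrix.SpecialLinearGroup.mem_center_iff.1 hz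
  apply Subtype.ext
  rw [Matrix.SpecialLinearGroup.coe_pow, ← e, ← map_pow]
  simp only [Fintype.card_fin] at hc
  rw [hc, map_one]
  rfl

/-- Two elements of order dividing four that agree modulo the centre are equal. -/
theorem eq_of_mk {a b : SL3} (ha : a ^ 4 = 1) (hb : b ^ 4 = 1)
    (h : (QuotientGroup.mk a : SL3 ⧸ center SL3) = QuotientGroup.mk b) : a = b := by
  have hz := QuotientGroup.eq.1 h
  have c : Commute a (a⁻¹ * b) := mem_center_iff.1 hz a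
  have e : b = a * (a⁻¹ * b) := by group
  have h4 : (a⁻¹ * b) ^ 4 = 1 := by
    rw [e, c.mul_pow, ha, one_mul] at hb
    exact hb
  have h3 := cube_center hz
  rw [pow_succ, h3, one_mul] at h4
  exact inv_mul_eq_one.1 h4

theorem el_pow : ∀ α β γ : F, (xa α * xb β * xc γ) ^ 4 = 1 := by decide +kernel

theorem pow_letters : ∀ s t : F, xc t ^ 4 = 1 ∧ xa t ^ 4 = 1 ∧ xb t ^ 4 = 1 ∧ (xc s * xa t) ^ 4 = 1 ∧
    (xc s * xb t) ^ 4 = 1 := by decide +kernel

variable {G : Type*} [Group G]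

/-- The letters. -/
def lt (η : SL3 →* G) (hη : η.ker ≤ center _) : Lt false G where
  A := η.range
  a t := η (xa t)
  b t := η (xb t)
  c t := η (xc t)
  s1 _ := 1
  s2 _ := 1
  x _ := 1
  n1 := η p1
  n2 := η p2
  w := 1
  h := η hh
  ξ := η zz
  mem t := ⟨⟨_, rfl⟩, ⟨_, rfl⟩, ⟨_, rfl⟩, one_mem _, one_mem _, one_mem _⟩
  mem' := ⟨⟨_, rfl⟩, ⟨_, rfl⟩, one_mem _, ⟨_, rfl⟩, ⟨_, rfl⟩⟩
  a_add s t := by rw [(r1 s t).1, map_mul]
  b_add s t := by rw [(r1 s t).2.1, map_mul]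
  c_add s t := by rw [(r1 s t).2.2.1, map_mul]
  s1_add _ _ := (mul_one _).symm
  s2_add _ _ := (mul_one _).symm
  x_add _ _ := (mul_one _).symm
  c_inj t h := (r2 t).2.2.2.2.2.2.2.2 (mem_center_iff.1 (hη h) p1).symm
  ab s t := by rw [← map_mul, (r1 s t).2.2.2.1, map_mul, map_mul]
  ss s t := by simp [em, r3.2.2.2.2.2.2.2.2.2]
  com s t := ⟨Commute.one_right _, Commute.one_right _, Commute.one_right _, Commute.one_right _,
    Commute.one_right _⟩
  cc s t := ⟨Commute.map (r1 s t).2.2.2.2.1 η, Commute.map (r1 s t).2.2.2.2.2 η, Commute.one_right _,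
    Commute.one_right _, Commute.one_right _, Commute.one_right _⟩
  triv _ := ⟨rfl, fun _ => ⟨rfl, rfl, rfl⟩⟩
  h3 := by rw [← map_pow, r3.1, map_one]
  hact t := by
    refine ⟨?_, ?_, ?_, by simp, by simp⟩
    · rw [← map_mul, (r2 t).1, map_mul, mul_inv_cancel_right]
    · rw [← map_mul, (r2 t).2.1, map_mul, mul_inv_cancel_right]
    · rw [← map_mul, (r2 t).2.2.1, map_mul, mul_inv_cancel_right]
  ξ3 := by rw [← map_pow, r3.2.1, map_one]
  ξcom := ⟨Commute.map r3.2.2.1 η, Commute.map r3.2.2.2.1 η, Commute.map r3.2.2.2.2.1 η, fun t =>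
    ⟨Commute.map (r2 t).2.2.2.1 η, Commute.map (r2 t).2.2.2.2.1 η, Commute.map (r2 t).2.2.2.2.2.1 η⟩⟩
  ξact t := by simp
  nn := ⟨by rw [← map_mul, r3.2.2.2.2.2.1, map_one], by rw [← map_mul, r3.2.2.2.2.2.2.1, map_one],
    mul_one _⟩
  nact t := ⟨by rw [← map_mul, ← map_mul, (r2 t).2.2.2.2.2.2.1],
    by rw [← map_mul, ← map_mul, (r2 t).2.2.2.2.2.2.2.1]⟩
  nh := ⟨⟨2, by rw [← map_pow, ← r3.2.2.2.2.2.2.2.1]; simp only [map_mul]; group⟩,
    ⟨1, by rw [← map_pow, ← r3.2.2.2.2.2.2.2.2.1]; simp only [map_mul]; group⟩⟩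
  xact h := by cases h
  wact h := by cases h

/-- An invertible matrix of the shape `a • u`. -/
theorem shape (g : Matrix (Fin 3) (Fin 3) F) (h10 : g 1 0 = 0) (h20 : g 2 0 = 0) (h21 : g 2 1 = 0)
    (h1 : g 1 1 = g 0 0) (h2 : g 2 2 = g 0 0) (h0 : g 0 0 ≠ 0) :
    ∃ α β γ : F, g = g 0 0 • ((xa α * xb β * xc γ : SL3) : Matrix (Fin 3) (Fin 3) F) := by
  refine ⟨g 0 1 / g 0 0, g 1 2 / g 0 0, g 0 2 / g 0 0 - g 0 1 / g 0 0 * (g 1 2 / g 0 0), ?_⟩
  rw [Matrix.SpecialLinearGroup.coe_mul, Matrix.SpecialLinearGroup.coe_mul, coe_xa, coe_xb, coe_xc]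
  ext i j
  fin_cases i <;> fin_cases j <;> simp [h10, h20, h21, h1, h2] <;> field_simp

theorem cen_X {g : SL3} (h : g * xc 1 = xc 1 * g) :
    ∃ α β γ : F, ∃ z ∈ center SL3, g = z * (xa α * xb β * xc γ) := by
  have e : (g : Matrix (Fin 3) (Fin 3) F) * (xc 1 : SL3) = ((xc 1 : SL3) : Matrix (Fin 3) (Fin 3) F) * g := by
    rw [← Matrix.SpecialLinearGroup.coe_mul, h, Matrix.SpecialLinearGroup.coe_mul]
  rw [coe_xc] at e
  have e02 := congrFun (congrFun e 0) 2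
  have e12 := congrFun (congrFun e 1) 2
  have e01 := congrFun (congrFun e 0) 1
  have e22 := congrFun (congrFun e 2) 2
  simp [Matrix.mul_apply, Fin.sum_univ_three] at e02 e12 e01 e22
  have hd := g.det_coe
  rw [Matrix.det_fin_three] at hd
  have h2 : g.1 2 2 = g.1 0 0 := by linear_combination -e02
  rw [e12, e01, e22, h2] at hd
  have h0 : g.1 0 0 ≠ 0 := by
    intro h0
    rw [h0] at hd
    simp at hd
  have key : ∀ a d : F, a * d * a - 0 - 0 + 0 + 0 - 0 = 1 → d = a ∧ a ^ 3 = 1 := by decide +kernel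
  have h1 := key (g.1 0 0) (g.1 1 1) (by linear_combination hd)
  obtain ⟨α, β, γ, e⟩ := shape g.1 e12 e22 e01 h1.1 h2 h0
  refine ⟨α, β, γ, g * (xa α * xb β * xc γ)⁻¹, ?_, by group⟩
  refine Matrix.SpecialLinearGroup.mem_center_iff.2 ⟨g.1 0 0, by simpa using h1.2, ?_⟩
  rw [Matrix.SpecialLinearGroup.coe_mul]
  conv_rhs => rw [e]
  rw [Matrix.smul_mul, ← Matrix.SpecialLinearGroup.coe_mul, mul_inv_cancel]
  simp [Matrix.scalar_apply, Matrix.smul_one_eq_diagonal]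

theorem el_eq (η : SL3 →* G) (hη : η.ker ≤ center _) (α β γ : F) :
    η (xa α * xb β * xc γ) ∈ (lt η hη).QA := by
  rw [map_mul, map_mul]
  exact mul_mem (mul_mem ((lt η hη).letters_mem α).1 ((lt η hη).letters_mem β).2.1)
    ((lt η hη).letters_mem γ).2.2.2.2.1

theorem mem_QA_iff (η : SL3 →* G) (hη : η.ker ≤ center _) {g : G} :
    g ∈ (lt η hη).QA ↔ g ∈ η.range ∧ g ∈ 𝐂[(lt η hη).X] ∧ g ^ 4 = 1 := by
  constructor
  · intro h
    refine ⟨(lt η hη).D_le_A ((lt η hη).QA_le_D h), (lt η hη).D_le_cent ((lt η hη).QA_le_D h), ?_⟩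
    obtain ⟨α, β, t, u, γ, rfl⟩ := (lt η hη).mem_QA.1 h
    rw [show 4 = 2 * 2 from rfl, pow_mul, pow_two (Lt.el _ _ _ _ _ _), Lt.el_sq, pow_two]
    exact add_sq (lt η hη).c_add _
  · rintro ⟨⟨s, rfl⟩, hc, h4⟩
    have c1 : Commute (η (xc 1)) (η s) := (lt η hη).mem_cX.1 hc 1
    have c2 : s * xc 1 * s⁻¹ = xc 1 := by
      refine eq_of_mk (by rw [conj_pow, (pow_letters 0 1).1]; group) (pow_letters 0 1).1 ?_
      refine QuotientGroup.eq.2 (hη ?_)
      rw [MonoidHom.mem_ker]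
      simp only [map_mul, map_inv]
      rw [← c1.eq]
      group
    obtain ⟨α, β, γ, z, hz, rfl⟩ := cen_X (mul_inv_eq_iff_eq_mul.1 c2)
    have c : Commute z (xa α * xb β * xc γ) := (mem_center_iff.1 hz _).symm
    rw [← map_pow, c.mul_pow, el_pow, mul_one, pow_succ, cube_center hz, one_mul] at h4
    rw [map_mul, h4, one_mul]
    exact el_eq η hη α β γ

theorem conj_mem_QA (η : SL3 →* G) (hη : η.ker ≤ center _) {n u : G} (hn : n ∈ 𝐍[η.range])
    (hX : n ∈ 𝐍[(lt η hη).X]) (hu : u ∈ (lt η hη).QA) : n * u * n⁻¹ ∈ (lt η hη).QA := by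
  rw [mem_QA_iff] at hu ⊢
  refine ⟨(mem_normalizer_iff.1 hn u).1 hu.1, ?_, by rw [conj_pow, hu.2.2]; group⟩
  rw [mem_centralizer_iff]
  intro x hx
  have hx' : n⁻¹ * x * n⁻¹⁻¹ ∈ (lt η hη).X := (mem_normalizer_iff.1 (inv_mem hX) x).1 hx
  have := mem_centralizer_iff.1 hu.2.1 _ hx'
  calc x * (n * u * n⁻¹) = n * (n⁻¹ * x * n⁻¹⁻¹ * u) * n⁻¹ := by group
    _ = n * u * n⁻¹ * x := by rw [this]; group

theorem k6 (η : SL3 →* G) (hη : η.ker ≤ center _) {n : G} (hn : n ∈ 𝐍[η.range])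
    (hc : ∀ t, n * η (xc t) * n⁻¹ = η (xc t)) {δ : F} (ha : n * η (xa 1) * n⁻¹ = η (xc δ * xa 1)) :
    ∃ u ∈ (lt η hη).QA, u⁻¹ * n ∈ 𝐂[η.range] := by
  obtain ⟨β, hβ⟩ := lift_aut perf η hη hn
  obtain ⟨⟨g, σ, ε⟩, hγ⟩ := Cl.Aut.psiL_surjective (ι := Fin 3) (F := F) (by simp) β
  have H := (Cl.Aut.eq_psiL_iff _ β).1 hγ.symm
  -- the matrix equations
  have E : ∀ s s' : SL3, s ^ 4 = 1 → s' ^ 4 = 1 → n * η s * n⁻¹ = η s' →
      (g : Matrix (Fin 3) (Fin 3) F) *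
        (Cl.Aut.glFG (Fin 3) F (σ, ε) (Matrix.SpecialLinearGroup.toGL s) : GL (Fin 3) F) = s'.1 * g := by
    intro s s' h4 h4' e
    obtain ⟨k, hk⟩ := Cl.Aut.exists_sl_glFG (σ, ε) s
    have hk4 : k ^ 4 = 1 := by
      apply Cl.Aut.sl_toGL_injective
      rw [map_pow, hk, ← map_pow, ← map_pow, h4, map_one, map_one]
    have e1 := H s (Cl.slConj (Fin 3) F g k) (by rw [← hk]; rfl)
    rw [hβ s s' e] at e1
    have e2 := eq_of_mk h4' (by rw [← map_pow, hk4, map_one]) e1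
    rw [e2, ← hk]
    change (g : Matrix (Fin 3) (Fin 3) F) * (k : Matrix (Fin 3) (Fin 3) F) =
      (g : Matrix (Fin 3) (Fin 3) F) * (k : Matrix (Fin 3) (Fin 3) F) *
        ((g⁻¹ : GL (Fin 3) F) : Matrix (Fin 3) (Fin 3) F) * g
    rw [Matrix.mul_assoc _ _ (g : Matrix (Fin 3) (Fin 3) F), ← Units.val_mul, inv_mul_cancel,
      Units.val_one, Matrix.mul_one]
  have Ec := fun t => E _ _ (pow_letters 0 t).1 (pow_letters 0 t).1 (hc t)
  have Ea := E _ _ (pow_letters 0 1).2.1 (pow_letters δ 1).2.2.2.1 ha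
  have hd : (g : Matrix (Fin 3) (Fin 3) F).det ≠ 0 := g.det_ne_zero
  rw [Matrix.det_fin_three] at hd
  rcases Cl.Aut.c2_cases ε with rfl | rfl
  · simp only [Cl.Aut.glFG_one, Cl.Aut.coe_glField, Matrix.SpecialLinearGroup.coe_GL_coe_matrix,
      Matrix.SpecialLinearGroup.coe_mul, coe_xc, coe_xa] at Ec Ea
    have E1 := Ec 1
    have e02 := congrFun (congrFun E1 0) 2
    have e12 := congrFun (congrFun E1 1) 2
    have e01 := congrFun (congrFun E1 0) 1
    have e22 := congrFun (congrFun E1 2) 2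
    have a01 := congrFun (congrFun Ea 0) 1
    simp [Matrix.mul_apply, Fin.sum_univ_three] at e02 e12 e01 e22 a01
    have h2 : g.1 2 2 = g.1 0 0 := by linear_combination -e02
    have h1 : g.1 1 1 = g.1 0 0 := by rw [e01] at a01; linear_combination -a01
    have h0 : g.1 0 0 ≠ 0 := by
      intro h0
      rw [e12, e22, h0] at hd
      simp at hd
    have hσ : σ = 1 := by
      ext t
      have e := congrFun (congrFun (Ec t) 0) 2
      simp [Matrix.mul_apply, Fin.sum_univ_three] at e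
      rw [h2] at e
      exact mul_left_cancel₀ h0 (by simpa using (by linear_combination e : g.1 0 0 * σ t = g.1 0 0 * t))
    subst hσ
    obtain ⟨a, b, c, e⟩ := shape g.1 e12 e22 e01 h1 h2 h0
    refine ⟨_, el_eq η hη a b c, ?_⟩
    generalize xa a * xb b * xc c = u at e
    rw [mem_centralizer_iff]
    rintro _ ⟨s, rfl⟩
    refine (comm_of_perfect perf η (fun s => ?_) s).eq.symm
    obtain ⟨s', hs'⟩ := exists_conj η hn s
    have e1 := H s (u * s * u⁻¹) (by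
      simp only [Cl.Aut.glFG_one, map_one, MulAut.one_apply]
      have e3 : (g : Matrix (Fin 3) (Fin 3) F) * (u⁻¹ : SL3).1 = (u⁻¹ : SL3).1 * g := by
        conv_lhs => rw [e]
        conv_rhs => rw [e]
        rw [Matrix.smul_mul, Matrix.mul_smul, ← Matrix.SpecialLinearGroup.coe_mul,
          ← Matrix.SpecialLinearGroup.coe_mul, mul_inv_cancel, inv_mul_cancel]
      have e4 : (u * s * u⁻¹ : SL3).1 * (g : Matrix (Fin 3) (Fin 3) F) = g * s.1 := by
        conv_lhs => rw [e]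
        conv_rhs => rw [e]
        rw [Matrix.smul_mul, Matrix.mul_smul, ← Matrix.SpecialLinearGroup.coe_mul,
          ← Matrix.SpecialLinearGroup.coe_mul, inv_mul_cancel_right]
      change _ = (g : Matrix (Fin 3) (Fin 3) F) * s.1 * _
      rw [← e4, Matrix.mul_assoc, ← Units.val_mul, mul_inv_cancel, Units.val_one, Matrix.mul_one])
    rw [hβ s s' hs'] at e1
    refine ⟨s⁻¹ * (u⁻¹ * s' * u), ?_, ?_⟩
    · have hz := QuotientGroup.eq.1 e1.symm
      have := (inferInstance : (center SL3).Normal).conj_mem _ hz u⁻¹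
      convert this using 1
      group
    · rw [mul_inv_cancel_left, map_mul, map_mul, map_inv, ← hs']
      group
  · exfalso
    have E1 := Ec 1
    have inv1 : (xc 1)⁻¹ = xc 1 ∧ (xa 1)⁻¹ = xa 1 :=
      ⟨inv_eq_of_mul_eq_one_right (by decide +kernel), inv_eq_of_mul_eq_one_right (by decide +kernel)⟩
    rw [Cl.Aut.glFG_c2gen, ← Cl.Aut.toGL_slInvTranspose] at E1 Ea
    have e10 := congrFun (congrFun E1 1) 0
    have e20 := congrFun (congrFun E1 2) 0
    have e01 := congrFun (congrFun E1 0) 1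
    have a10 := congrFun (congrFun Ea 1) 0
    simp only [Cl.Aut.coe_glField, Matrix.SpecialLinearGroup.coe_GL_coe_matrix, Cl.coe_slInvTranspose,
      inv1.1, inv1.2, Matrix.SpecialLinearGroup.coe_mul, coe_xc, coe_xa] at e10 e20 e01 a10
    simp [Matrix.mul_apply, Fin.sum_univ_three] at e10 e20 e01 a10
    rw [e10, e20, e01, a10] at hd
    simp at hd

end L3

theorem exists_lt_L3 {G : Type*} [Group G] [Finite G] (η : Matrix.SpecialLinearGroup (Fin 3) F →* G)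
    (hη : η.ker ≤ center _) : ∃ l : Lt false G, l.KF ∧ l.A = η.range ∧
      ∀ t, l.a t = η (xa t) ∧ l.b t = η (xb t) ∧ l.c t = η (xc t) := by
  refine ⟨L3.lt η hη, ⟨fun n hn hX => ?_, fun h => (by cases h), fun n hn hc h => ?_,
    fun h => (by cases h)⟩, rfl, fun t => ⟨rfl, rfl, rfl⟩⟩
  · rw [mem_normalizer_iff]
    intro u
    refine ⟨L3.conj_mem_QA η hη hn hX, fun hu => ?_⟩
    have := L3.conj_mem_QA η hη (inv_mem hn) (inv_mem hX) hu
    convert this using 1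
    group
  · obtain ⟨δ, e⟩ := (L3.lt η hη).mem_X.1 (h _ ((L3.lt η hη).letters_mem 1).1)
    refine L3.k6 η hη hn (fun t => ?_) (δ := δ) ?_
    · have := (L3.lt η hη).mem_cX.1 hc t
      exact mul_inv_eq_iff_eq_mul.2 this.eq.symm
    · rw [map_mul]
      exact mul_inv_eq_iff_eq_mul.1 e

end Cfsg.Agent.STA
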